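import Cfsg.Agent.CoverPSL.Hess

/-!
# Two conjugates of one cyclic block with triangular cyclic product
-/

set_option autoImplicit false

namespace CfsgLib.CoverPSL

open Matrix Polynomial CfsgLib.OreSL

variable {F : Type*} [Field F] {m : ℕ}

/-- `z` and `y` have no common eigenvector. -/
def NoCommon (z y : Matrix (Fin m) (Fin m) F) : Prop :=
  ∀ v : Fin m → F, ∀ a b : F, z *ᵥ v = a • v → y *ᵥ v = b • v → v = 0

/-- `z` and `y` have no common left eigenvector. -/
def NoCommonLeft (z y : Matrix (Fin m) (Fin m) F) : Prop :=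
  ∀ ψ : Fin m → F, ∀ a b : F, ψ ᵥ* z = a • ψ → ψ ᵥ* y = b • ψ → ψ = 0

/-- `z * y` has spectrum `t` and small eigenspaces. -/
def Mate (z y : Matrix (Fin m) (Fin m) F) (t : Fin m → F) : Prop :=
  (z * y).charpoly = ∏ i, (X - C (t i)) ∧ ∀ c, EigLe (z * y) c

theorem eigLe_of_notMem {A : Matrix (Fin m) (Fin m) F} {t : F} (h : A.charpoly.eval t ≠ 0) :
    EigLe A t := by
  rw [eigLe_iff]
  intro v w hv _ hv0
  refine absurd ?_ h
  rw [Matrix.eval_charpoly, ← Matrix.exists_mulVec_eq_zero_iff]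
  exact ⟨v, hv0, by rw [sub_mulVec, hv, scalar_apply, ← smul_one_eq_diagonal, smul_mulVec, one_mulVec, sub_self]⟩

theorem root_of_eigen {A : Matrix (Fin m) (Fin m) F} {t : F} {v : Fin m → F} (hv0 : v ≠ 0)
    (hv : A *ᵥ v = t • v) : A.charpoly.eval t = 0 := by
  rw [Matrix.eval_charpoly, ← Matrix.exists_mulVec_eq_zero_iff]
  exact ⟨v, hv0, by rw [sub_mulVec, hv, scalar_apply, ← smul_one_eq_diagonal, smul_mulVec, one_mulVec, sub_self]⟩

theorem eigLe_conj (Q : GL (Fin m) F) {A : Matrix (Fin m) (Fin m) F} {t : F} (h : EigLe A t) :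
    EigLe ((Q : Matrix (Fin m) (Fin m) F) * A * ((Q⁻¹ : GL (Fin m) F) : Matrix (Fin m) (Fin m) F)) t := by
  have e : (Q : Matrix (Fin m) (Fin m) F) * A * ((Q⁻¹ : GL (Fin m) F) : Matrix (Fin m) (Fin m) F) - t • 1 =
      (Q : Matrix (Fin m) (Fin m) F) * (A - t • 1) * ((Q⁻¹ : GL (Fin m) F) : Matrix (Fin m) (Fin m) F) := by
    rw [Matrix.mul_sub, Matrix.sub_mul, Matrix.mul_smul, Matrix.smul_mul, Matrix.mul_one, Units.mul_inv]
  rw [EigLe, e, rank_mul_eq_left_of_isUnit_det _ _ ((Matrix.isUnit_iff_isUnit_det _).mp (Units.isUnit _)),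
    rank_mul_eq_right_of_isUnit_det _ _ ((Matrix.isUnit_iff_isUnit_det _).mp (Units.isUnit _))]
  exact h

theorem mul_conj (Q : GL (Fin m) F) (A B : Matrix (Fin m) (Fin m) F) :
    ((Q : Matrix (Fin m) (Fin m) F) * A * ((Q⁻¹ : GL (Fin m) F) : Matrix (Fin m) (Fin m) F)) *
      ((Q : Matrix (Fin m) (Fin m) F) * B * ((Q⁻¹ : GL (Fin m) F) : Matrix (Fin m) (Fin m) F)) =
      (Q : Matrix (Fin m) (Fin m) F) * (A * B) * ((Q⁻¹ : GL (Fin m) F) : Matrix (Fin m) (Fin m) F) := by
  simp only [Matrix.mul_assoc]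
  rw [← Matrix.mul_assoc ((Q⁻¹ : GL (Fin m) F) : Matrix (Fin m) (Fin m) F) (Q : Matrix (Fin m) (Fin m) F),
    Units.inv_mul, Matrix.one_mul]

theorem charpoly_conj (Q : GL (Fin m) F) (A : Matrix (Fin m) (Fin m) F) :
    ((Q : Matrix (Fin m) (Fin m) F) * A * ((Q⁻¹ : GL (Fin m) F) : Matrix (Fin m) (Fin m) F)).charpoly =
      A.charpoly := by
  rw [Matrix.coe_units_inv]
  exact Matrix.charpoly_units_conj Q A

theorem Mate.conj (Q : GL (Fin m) F) {z y : Matrix (Fin m) (Fin m) F} {t : Fin m → F} (h : Mate z y t) :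
    Mate ((Q : Matrix (Fin m) (Fin m) F) * z * ((Q⁻¹ : GL (Fin m) F) : Matrix (Fin m) (Fin m) F))
      ((Q : Matrix (Fin m) (Fin m) F) * y * ((Q⁻¹ : GL (Fin m) F) : Matrix (Fin m) (Fin m) F)) t := by
  refine ⟨?_, fun c => ?_⟩
  · rw [mul_conj, charpoly_conj]
    exact h.1
  · rw [mul_conj]
    exact eigLe_conj Q (h.2 c)

theorem NoCommon.conj (Q : GL (Fin m) F) {z y : Matrix (Fin m) (Fin m) F} (h : NoCommon z y) :
    NoCommon ((Q : Matrix (Fin m) (Fin m) F) * z * ((Q⁻¹ : GL (Fin m) F) : Matrix (Fin m) (Fin m) F))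
      ((Q : Matrix (Fin m) (Fin m) F) * y * ((Q⁻¹ : GL (Fin m) F) : Matrix (Fin m) (Fin m) F)) := by
  intro v a b hz hy
  set w := ((Q⁻¹ : GL (Fin m) F) : Matrix (Fin m) (Fin m) F) *ᵥ v with hw
  have key : ∀ (A : Matrix (Fin m) (Fin m) F) (c : F),
      ((Q : Matrix (Fin m) (Fin m) F) * A * ((Q⁻¹ : GL (Fin m) F) : Matrix (Fin m) (Fin m) F)) *ᵥ v = c • v →
      A *ᵥ w = c • w := by
    intro A c hA
    have := congrArg (((Q⁻¹ : GL (Fin m) F) : Matrix (Fin m) (Fin m) F) *ᵥ ·) hA
    simp only [mulVec_mulVec, mulVec_smul] at this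
    rw [← hw, ← Matrix.mul_assoc, ← Matrix.mul_assoc, Units.inv_mul, Matrix.one_mul, ← mulVec_mulVec, ← hw] at this
    exact this
  have h0 := h w a b (key z a hz) (key y b hy)
  calc v = ((Q : Matrix (Fin m) (Fin m) F) * ((Q⁻¹ : GL (Fin m) F) : Matrix (Fin m) (Fin m) F)) *ᵥ v := by
        rw [Units.mul_inv, one_mulVec]
    _ = 0 := by rw [← mulVec_mulVec, ← hw, h0, mulVec_zero]

theorem NoCommonLeft.conj (Q : GL (Fin m) F) {z y : Matrix (Fin m) (Fin m) F} (h : NoCommonLeft z y) :
    NoCommonLeft ((Q : Matrix (Fin m) (Fin m) F) * z * ((Q⁻¹ : GL (Fin m) F) : Matrix (Fin m) (Fin m) F))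
      ((Q : Matrix (Fin m) (Fin m) F) * y * ((Q⁻¹ : GL (Fin m) F) : Matrix (Fin m) (Fin m) F)) := by
  intro ψ a b hz hy
  set χ := ψ ᵥ* (Q : Matrix (Fin m) (Fin m) F) with hχ
  have key : ∀ (A : Matrix (Fin m) (Fin m) F) (c : F),
      ψ ᵥ* ((Q : Matrix (Fin m) (Fin m) F) * A * ((Q⁻¹ : GL (Fin m) F) : Matrix (Fin m) (Fin m) F)) = c • ψ →
      χ ᵥ* A = c • χ := by
    intro A c hA
    have := congrArg (fun v => v ᵥ* (Q : Matrix (Fin m) (Fin m) F)) hA
    simpa only [hχ, vecMul_vecMul, smul_vecMul, Matrix.mul_assoc, Units.inv_mul, Matrix.mul_one] using this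
  have h0 := h χ a b (key z a hz) (key y b hy)
  rw [← vecMul_one ψ, ← Units.mul_inv Q, ← vecMul_vecMul, ← hχ, h0, zero_vecMul]

theorem exists_conj_of_sim {A B : Matrix (Fin m) (Fin m) F} (h : Sim A B) :
    ∃ Q : GL (Fin m) F,
      B = (Q : Matrix (Fin m) (Fin m) F) * A * ((Q⁻¹ : GL (Fin m) F) : Matrix (Fin m) (Fin m) F) := by
  obtain ⟨P, -, h⟩ := (simIn_top_iff.2 h).eq_conj
  exact ⟨P, h⟩

/-! Products of lower triangular matrices -/

theorem lower_mul {A B : Matrix (Fin m) (Fin m) F} (hA : ∀ i j : Fin m, i.val < j.val → A i j = 0)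
    (hB : ∀ i j : Fin m, i.val < j.val → B i j = 0) :
    (∀ i j : Fin m, i.val < j.val → (A * B) i j = 0) ∧ (∀ i, (A * B) i i = A i i * B i i) ∧
      ∀ i j : Fin m, i.val = j.val + 1 → (A * B) i j = A i j * B j j + A i i * B i j := by
  refine ⟨fun i j h => ?_, fun i => ?_, fun i j h => ?_⟩
  · rw [Matrix.mul_apply]
    refine Finset.sum_eq_zero fun l _ => ?_
    rcases lt_or_ge i.val l.val with h' | h'
    · rw [hA i l h', zero_mul]
    · rw [hB l j (by omega), mul_zero]
  · rw [Matrix.mul_apply, Finset.sum_eq_single i]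
    · intro l _ hl
      have : l.val ≠ i.val := fun e => hl (Fin.ext e)
      rcases lt_or_ge i.val l.val with h' | h'
      · rw [hA i l h', zero_mul]
      · rw [hB l i (by omega), mul_zero]
    · simp
  · rw [Matrix.mul_apply, Finset.sum_eq_add_of_mem j i (Finset.mem_univ _) (Finset.mem_univ _)
      (Fin.ne_of_val_ne (by omega))]
    intro l _ hl
    have h1 : l.val ≠ j.val := fun e => hl.1 (Fin.ext e)
    have h2 : l.val ≠ i.val := fun e => hl.2 (Fin.ext e)
    rcases lt_or_ge i.val l.val with h' | h'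
    · rw [hA i l h', zero_mul]
    · rw [hB l j (by omega), mul_zero]

theorem bid_lower (d : ℕ → F) : ∀ i j : Fin m, i.val < j.val → bid d i j = 0 := fun i j h => by
  simp [bid, show ¬ i.val = j.val by omega, show ¬ i.val = j.val + 1 by omega]

theorem bid_diag (d : ℕ → F) (i : Fin m) : bid d i i = d i.val := by simp [bid]

theorem bid_sub (d : ℕ → F) (i j : Fin m) (h : i.val = j.val + 1) : bid d i j = 1 := by
  simp [bid, h]

/-- Diagonal with an extra last row. -/
def lastRow (p a : ℕ → F) : Matrix (Fin m) (Fin m) F :=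
  Matrix.of fun i j => if i.val = j.val then p i.val else if i.val + 1 = m then a j.val else 0

theorem lastRow_lower (p a : ℕ → F) : ∀ i j : Fin m, i.val < j.val → lastRow p a i j = 0 := fun i j h => by
  simp [lastRow, show ¬ i.val = j.val by omega, show ¬ i.val + 1 = m by omega]

theorem det_lastRow (p a : ℕ → F) : (lastRow p a : Matrix (Fin m) (Fin m) F).det = ∏ i : Fin m, p i.val := by
  rw [Matrix.det_of_isLowerTriangular _ (fun i j h => lastRow_lower p a i j h)]
  exact Finset.prod_congr rfl fun i _ => by simp [lastRow]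

variable [Fintype F]

open Classical in
/-- An element outside a given small set. -/
noncomputable def avoid (S : Finset F) : F := if h : ∃ x, x ∉ S then h.choose else 0

theorem avoid_notMem (h4 : 4 ≤ Fintype.card F) {S : Finset F} (hS : S.card ≤ 3) : avoid S ∉ S := by
  classical
  have h : ∃ x, x ∉ S := by
    obtain ⟨x, -, hx⟩ := Finset.exists_mem_notMem_of_card_lt_card (s := S) (t := Finset.univ)
      (by rw [Finset.card_univ]; omega)
    exact ⟨x, hx⟩
  rw [avoid, dif_pos h]
  exact h.choose_spec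

/-- The diagonal entries chosen downwards from the last one. -/
noncomputable def pSeq [DecidableEq F] (d d' : ℕ → F) (top : F) (last : ℕ) : ℕ → F
  | 0 => top
  | j + 1 => avoid {0, -(d (last - j) * pSeq d d' top last j) / d' (last - (j + 1))}

theorem block_pair (h4 : 4 ≤ Fintype.card F) {k : ℕ} (z : Matrix (Fin (k + 3)) (Fin (k + 3)) F)
    (hc : IsCyc z) (h0 : z.det ≠ 0)
    (hroot : ∀ a b, z.charpoly.eval a = 0 → z.charpoly.eval b = 0 → a = b)
    (t : Fin (k + 3) → F) (ht : ∀ i, t i ≠ 0) (hg : Grouped t) (hprod : ∏ i, t i = z.det ^ 2) :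
    ∃ r₀ : Fˣ, ∀ r : Fˣ, (r = r₀ ∨ (t 0 ≠ t 1 ∧ t 1 ≠ t 2)) →
      ∃ P : GL (Fin (k + 3)) F, GeneralLinearGroup.det P = r ∧
        Mate z ((P : Matrix (Fin (k + 3)) (Fin (k + 3)) F) * z *
          ((P⁻¹ : GL (Fin (k + 3)) F) : Matrix (Fin (k + 3)) (Fin (k + 3)) F)) t ∧
        ((∀ a, z.charpoly.eval a = 0 → ∀ i, t i = a ^ 2 → t (Fin.last (k + 2)) = a ^ 2) →
          NoCommon z ((P : Matrix (Fin (k + 3)) (Fin (k + 3)) F) * z *
            ((P⁻¹ : GL (Fin (k + 3)) F) : Matrix (Fin (k + 3)) (Fin (k + 3)) F))) ∧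
        ((∀ a, z.charpoly.eval a = 0 → ∀ i, t i = a ^ 2 → t 0 = a ^ 2) →
          NoCommonLeft z ((P : Matrix (Fin (k + 3)) (Fin (k + 3)) F) * z *
            ((P⁻¹ : GL (Fin (k + 3)) F) : Matrix (Fin (k + 3)) (Fin (k + 3)) F))) := by
  classical
  set f := z.charpoly with hf
  set δ := z.det with hδ
  -- the root
  obtain ⟨lam, hlam⟩ : ∃ lam, ∀ a, f.eval a = 0 → a = lam := by
    by_cases h : ∃ a, f.eval a = 0
    · obtain ⟨a, ha⟩ := h
      exact ⟨a, fun b hb => hroot b a hb ha⟩
    · exact ⟨0, fun a ha => absurd ⟨a, ha⟩ h⟩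
  set tl := t (Fin.last (k + 2)) with htl
  -- the diagonals
  set u := avoid ({0, lam, tl / lam} : Finset F)
  have hu := avoid_notMem h4 (S := ({0, lam, tl / lam} : Finset F)) Finset.card_le_three
  simp only [Finset.mem_insert, Finset.mem_singleton, not_or] at hu
  obtain ⟨hu0, hu1, hu2⟩ : u ≠ 0 ∧ u ≠ lam ∧ u ≠ tl / lam := hu
  set d : ℕ → F := fun i => if i = 0 then δ / u ^ (k + 2) else u with hd
  have hd0 : ∀ i, d i ≠ 0 := fun i => by
    simp only [d]
    split_ifs
    · exact div_ne_zero h0 (pow_ne_zero _ hu0)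
    · exact hu0
  set t' : ℕ → F := fun i => if h : i < k + 3 then t ⟨i, h⟩ else 1 with ht'
  have ht'0 : ∀ i, t' i ≠ 0 := fun i => by
    simp only [t']
    split_ifs
    exacts [ht _, one_ne_zero]
  have htt : ∀ i : Fin (k + 3), t' i.val = t i := fun i => by simp [t']
  set d' : ℕ → F := fun i => t' i / d i with hd'
  have hd'0 : ∀ i, d' i ≠ 0 := fun i => div_ne_zero (ht'0 i) (hd0 i)
  have hdprod : ∏ i : Fin (k + 3), d i.val = δ := by
    rw [Fin.prod_univ_succ]
    simp only [d, Fin.val_zero, Fin.val_succ, if_pos, Nat.succ_ne_zero, if_false, Finset.prod_const,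
      Finset.card_univ, Fintype.card_fin]
    exact div_mul_cancel₀ _ (pow_ne_zero _ hu0)
  have hd'prod : ∏ i : Fin (k + 3), d' i.val = δ := by
    simp only [d', htt, Finset.prod_div_distrib, hdprod, hprod]
    field_simp
  have hf0 : f.eval 0 = (-1) ^ (k + 3) * δ := by
    have := Matrix.det_eq_sign_charpoly_coeff z
    rw [Fintype.card_fin] at this
    rw [← coeff_zero_eq_eval_zero, hδ, this, ← mul_assoc, ← mul_pow, neg_one_mul, neg_neg, one_pow, one_mul, hf]
  have hfdeg : f.natDegree = k + 3 := by rw [hf, Matrix.charpoly_natDegree_eq_dim, Fintype.card_fin]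
  obtain ⟨ν, hν0, hνl, hMc, hMf⟩ := exists_nu (m := k + 3) (d := d) (by omega) (Matrix.charpoly_monic z)
    hfdeg hd0 (by rw [hdprod]; exact hf0)
  obtain ⟨ν', hν'0, hν'l, hM'c, hM'f⟩ := exists_nu (m := k + 3) (d := d') (by omega) (Matrix.charpoly_monic z)
    hfdeg hd'0 (by rw [hd'prod]; exact hf0)
  have hl1 : (Fin.last (k + 2)).val + 1 = k + 3 := by simp
  have hnl : ν (Fin.last (k + 2)) ≠ 0 := by
    rw [hνl _ hl1]
    refine div_ne_zero (neg_ne_zero.2 fun e => hu1 ?_) (hd0 _)
    have := hlam _ e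
    simpa [d] using this
  have hn'l : ν' (Fin.last (k + 2)) ≠ 0 := by
    rw [hν'l _ hl1]
    refine div_ne_zero (neg_ne_zero.2 fun e => hu2 ?_) (hd'0 _)
    have h1 := hlam _ e
    have hb : d' (Fin.last (k + 2)).val = tl / u := by
      show t' (Fin.last (k + 2)).val / d (Fin.last (k + 2)).val = _
      rw [htt]
      simp [d, htl]
    rw [hb] at h1
    rw [← h1]
    field_simp [hu0, ht (Fin.last (k + 2)), htl]
  obtain ⟨Q, hQ⟩ := exists_conj_of_sim (sim_of_isCyc hMc hc hMf)
  obtain ⟨R, hR⟩ := exists_conj_of_sim (sim_of_isCyc hc hM'c hM'f.symm)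
  -- the free diagonal
  set pm : F := -ν' (Fin.last (k + 2)) / ν (Fin.last (k + 2)) with hpm
  have hpm0 : pm ≠ 0 := div_ne_zero (neg_ne_zero.2 hn'l) hnl
  set p₀ : ℕ → F := fun i => if i = 0 then 1 else pSeq d d' pm (k + 2) (k + 2 - i) with hp₀
  have hps : ∀ j, pSeq d d' pm (k + 2) j ≠ 0 := by
    intro j
    rcases j with _ | j
    · exact hpm0
    · intro e
      have := avoid_notMem h4 (S := ({0, -(d (k + 2 - j) * pSeq d d' pm (k + 2) j) / d' (k + 2 - (j + 1))} : Finset F))
        (Finset.card_le_two.trans (by norm_num))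
      rw [pSeq] at e
      apply this
      rw [e]
      exact Finset.mem_insert_self _ _
  have hp₀0 : ∀ i, p₀ i ≠ 0 := fun i => by
    simp only [p₀]
    split_ifs
    exacts [one_ne_zero, hps _]
  have hgood : ∀ i, 2 ≤ i → i + 1 < k + 3 → p₀ i * d' i + d (i + 1) * p₀ (i + 1) ≠ 0 := by
    intro i hi hi' e
    simp only [p₀, if_neg (show i ≠ 0 by omega), if_neg (show i + 1 ≠ 0 by omega)] at e
    obtain ⟨j, hj⟩ : ∃ j, k + 2 - i = j + 1 := ⟨k + 2 - i - 1, by omega⟩
    rw [hj, show k + 2 - (i + 1) = j by omega] at e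
    have hav := avoid_notMem h4 (S := ({0, -(d (k + 2 - j) * pSeq d d' pm (k + 2) j) / d' (k + 2 - (j + 1))} : Finset F))
      (Finset.card_le_two.trans (by norm_num))
    rw [pSeq] at e
    apply hav
    simp only [Finset.mem_insert, Finset.mem_singleton]
    right
    rw [show k + 2 - (j + 1) = i by omega, show k + 2 - j = i + 1 by omega, eq_div_iff (hd'0 i)]
    rw [show k + 2 - (j + 1) = i by omega, show k + 2 - j = i + 1 by omega] at e
    linear_combination e
  set pi' : F := avoid ({0, -(d 2 * p₀ 2) / d' 1, -d' 0 / d 1} : Finset F) with hpi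
  have hpi' := avoid_notMem h4 (S := ({0, -(d 2 * p₀ 2) / d' 1, -d' 0 / d 1} : Finset F)) Finset.card_le_three
  simp only [Finset.mem_insert, Finset.mem_singleton, not_or, ← hpi] at hpi'
  -- determinants
  set others : F := ∏ i ∈ (Finset.univ.erase (1 : Fin (k + 3))), p₀ i.val
  have hothers : others ≠ 0 := Finset.prod_ne_zero_iff.mpr fun i _ => hp₀0 _
  set base : Fˣ := GeneralLinearGroup.det Q * Units.mk0 others hothers * GeneralLinearGroup.det R with hbase
  refine ⟨base * Units.mk0 pi' hpi'.1, fun r hr => ?_⟩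
  obtain ⟨p1, hp1r, hp1c⟩ : ∃ p1 : Fˣ, base * p1 = r ∧
      ((t 1 = t 2 → (p1 : F) * d' 1 + d 2 * p₀ 2 ≠ 0) ∧ (t 0 = t 1 → d' 0 + d 1 * (p1 : F) ≠ 0)) := by
    rcases hr with rfl | ⟨h01, h12⟩
    · refine ⟨Units.mk0 pi' hpi'.1, rfl, fun _ e => hpi'.2.1 ?_, fun _ e => hpi'.2.2 ?_⟩
      · rw [eq_div_iff (hd'0 1)]
        simp only [Units.val_mk0] at e
        linear_combination e
      · rw [eq_div_iff (hd0 1)]
        simp only [Units.val_mk0] at e
        linear_combination e
    · exact ⟨base⁻¹ * r, by rw [mul_inv_cancel_left], fun e => absurd e h12, fun e => absurd e h01⟩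
  set p : ℕ → F := fun i => if i = 1 then (p1 : F) else p₀ i with hp
  have hp0 : ∀ i, p i ≠ 0 := fun i => by
    simp only [p]
    split_ifs
    exacts [p1.ne_zero, hp₀0 i]
  have hpl : p (k + 2) = pm := by simp [p, p₀, pSeq]
  set a : ℕ → F := fun j => if h : j < k + 3 then -(ν' ⟨j, h⟩ + ν ⟨j, h⟩ * p j) / ν (Fin.last (k + 2)) else 0
    with ha
  set P : Matrix (Fin (k + 3)) (Fin (k + 3)) F := lastRow p a with hP
  have hPdet : P.det = others * (p1 : F) := by
    rw [hP, det_lastRow, ← Finset.prod_erase_mul _ _ (Finset.mem_univ (1 : Fin (k + 3)))]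
    congr 1
    · refine Finset.prod_congr rfl fun i hi => ?_
      have : i.val ≠ 1 := fun e => (Finset.mem_erase.mp hi).1 (Fin.ext (by simpa using e))
      simp [p, this]
  have hP0 : P.det ≠ 0 := by rw [hPdet]; exact mul_ne_zero hothers p1.ne_zero
  -- `P` transports the rows
  have hνP : ν ᵥ* P = -ν' := by
    funext j
    rw [vecMul, dotProduct, Pi.neg_apply]
    rcases eq_or_ne j (Fin.last (k + 2)) with rfl | hj
    · rw [Finset.sum_eq_single (Fin.last (k + 2))]
      · simp only [hP, lastRow, Matrix.of_apply, if_pos, Fin.val_last, hpl, hpm]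
        field_simp
      · intro l _ hl
        rw [hP, lastRow_lower, mul_zero]
        have : l.val ≠ k + 2 := fun e => hl (Fin.ext (by simpa using e))
        simp only [Fin.val_last]
        omega
      · simp
    · have hj' : j.val < k + 2 := by
        have : j.val ≠ k + 2 := fun e => hj (Fin.ext (by simpa using e))
        omega
      rw [Finset.sum_eq_add_of_mem j (Fin.last (k + 2)) (Finset.mem_univ _) (Finset.mem_univ _) hj]
      · simp only [hP, lastRow, Matrix.of_apply, if_pos, Fin.val_last,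
          if_neg (show ¬ k + 2 = j.val by omega), a, dif_pos j.isLt]
        field_simp
        ring
      · intro l _ hl
        have h1 : l.val ≠ j.val := fun e => hl.1 (Fin.ext e)
        have h2 : l.val ≠ k + 2 := fun e => hl.2 (Fin.ext (by simpa using e))
        simp [hP, lastRow, h1, h2]
  -- transport of `eRow`
  have hPe0 : P *ᵥ Pi.single 0 1 = Pi.single 0 1 := by
    funext i
    rw [mulVec_single_one]
    simp only [Matrix.col_apply, hP, lastRow, Matrix.of_apply, Fin.val_zero]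
    rcases eq_or_ne i 0 with rfl | hi
    · simp [p, p₀]
    · have : i.val ≠ 0 := fun e => hi (Fin.ext e)
      simp only [if_neg this, Pi.single_eq_of_ne hi, a, dif_pos (show 0 < k + 3 by omega)]
      rw [show (⟨0, by omega⟩ : Fin (k + 3)) = 0 from rfl, hν0, hν'0]
      simp
  have hPE : P * eRow ν' = eRow (-ν) * P := by
    simp only [eRow, Matrix.mul_add, Matrix.add_mul, Matrix.mul_one, Matrix.one_mul, mul_vecMulVec,
      vecMulVec_mul, neg_vecMul, hνP, neg_neg, hPe0]
  have hPu : IsUnit P.det := isUnit_iff_ne_zero.2 hP0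
  set L2 := P * bid d' * P⁻¹ with hL2
  set z₁ := bid d * eRow ν with hz₁
  set z₂ := eRow (-ν) * L2 with hz₂
  have hT : z₁ * z₂ = bid d * L2 := by
    rw [hz₁, hz₂, Matrix.mul_assoc, ← Matrix.mul_assoc (eRow ν), eRow_mul hν0, add_neg_cancel]
    simp [eRow]
  -- the product
  set T := bid d * L2 with hTdef
  haveI : Invertible P := P.invertibleOfIsUnitDet hPu
  have hPlow : ∀ i j : Fin (k + 3), i.val < j.val → P i j = 0 := lastRow_lower p a
  have hL2low : ∀ i j : Fin (k + 3), i.val < j.val → L2 i j = 0 := by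
    refine (lower_mul (lower_mul hPlow (bid_lower d')).1 fun i j h => ?_).1
    exact blockTriangular_inv_of_blockTriangular (M := P) (b := OrderDual.toDual)
      (fun i j h => hPlow i j (by exact_mod_cast h)) (by exact_mod_cast h)
  have hTlow : ∀ i j : Fin (k + 3), i.val < j.val → T i j = 0 := (lower_mul (bid_lower d) hL2low).1
  have hTP : T * P = bid d * P * bid d' := by
    rw [hTdef, hL2]
    simp only [Matrix.mul_assoc, nonsing_inv_mul _ hPu, Matrix.mul_one]
  have hPd : ∀ i : Fin (k + 3), P i i = p i.val := fun i => by simp [hP, lastRow]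
  have hdd : ∀ i, d i * d' i = t' i := fun i => by
    show d i * (t' i / d i) = _
    rw [mul_div_cancel₀ _ (hd0 i)]
  have hTd : ∀ i, T i i = t i := by
    intro i
    have h := congrFun (congrFun hTP i) i
    rw [(lower_mul hTlow hPlow).2.1, (lower_mul (lower_mul (bid_lower d) hPlow).1 (bid_lower d')).2.1,
      (lower_mul (bid_lower d) hPlow).2.1, bid_diag, bid_diag, hPd] at h
    refine mul_right_cancel₀ (hp0 i.val) (h.trans ?_)
    rw [← htt i, ← hdd]
    ring
  have hTg : Grouped fun i => T i i := by simpa only [hTd] using hg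
  have hTs : ∀ (i : Fin (k + 3)) (h : i.val + 1 < k + 3), T ⟨i.val + 1, h⟩ ⟨i.val + 1, h⟩ = T i i →
      T ⟨i.val + 1, h⟩ i ≠ 0 := by
    intro i hi he e0
    rw [hTd, hTd] at he
    have h := congrFun (congrFun hTP ⟨i.val + 1, hi⟩) i
    rw [(lower_mul hTlow hPlow).2.2 _ _ rfl,
      (lower_mul (lower_mul (bid_lower d) hPlow).1 (bid_lower d')).2.2 _ _ rfl,
      (lower_mul (bid_lower d) hPlow).2.2 _ _ rfl, (lower_mul (bid_lower d) hPlow).2.1,
      bid_diag, bid_diag, bid_sub _ _ _ rfl, bid_sub _ _ _ rfl, hPd, hPd, e0, zero_mul, zero_add, hTd] at h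
    simp only [] at h
    have hoff : t ⟨i.val + 1, hi⟩ * P ⟨i.val + 1, hi⟩ i = d (i.val + 1) * d' i.val * P ⟨i.val + 1, hi⟩ i := by
      by_cases hlast : i.val + 1 = k + 2
      · congr 1
        rw [he, ← htt i, ← hdd]
        simp only [d, if_neg (Nat.succ_ne_zero _), if_neg (show i.val ≠ 0 by omega)]
      · rw [show P ⟨i.val + 1, hi⟩ i = 0 by simp [hP, lastRow]; omega]
        simp
    have hzero : p i.val * d' i.val + d (i.val + 1) * p (i.val + 1) = 0 := by
      rw [hoff] at h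
      linear_combination -h
    rcases Nat.lt_or_ge i.val 2 with hi2 | hi2
    · rcases Nat.eq_zero_or_pos i.val with h1 | h1
      · have hi0 : i = 0 := Fin.ext h1
        subst hi0
        refine hp1c.2 (Eq.symm (by simpa using he)) ?_
        simpa [p, p₀] using hzero
      · have hi1 : i = 1 := Fin.ext (by simp; omega)
        subst hi1
        refine hp1c.1 (he.symm.trans (congrArg t (Fin.ext (by simp [Nat.mod_eq_of_lt (show 2 < k + 3 by omega)])))) ?_
        simpa [p, p₀] using hzero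
    · refine hgood i.val hi2 hi ?_
      simpa [p, show i.val ≠ 1 by omega, show i ≠ 0 from fun e => by simp [e] at hi2] using hzero
  -- the conjugating matrix
  set Pu : GL (Fin (k + 3)) F := GeneralLinearGroup.mkOfDetNeZero P hP0
  set Eu : GL (Fin (k + 3)) F := GeneralLinearGroup.mkOfDetNeZero (eRow ν') (by rw [det_eRow hν'0]; exact one_ne_zero)
  set G := Q * (Pu * Eu * R) with hG
  have hM'2 : (Pu * Eu : GL (Fin (k + 3)) F).1 * (bid d' * eRow ν') =
      z₂ * (Pu * Eu : GL (Fin (k + 3)) F).1 := by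
    show P * eRow ν' * (bid d' * eRow ν') = z₂ * (P * eRow ν')
    rw [hPE, hz₂, hL2]
    simp only [Matrix.mul_assoc]
    rw [← hPE, ← Matrix.mul_assoc P⁻¹, nonsing_inv_mul _ hPu, Matrix.one_mul]
  have hy : (G : Matrix (Fin (k + 3)) (Fin (k + 3)) F) * z *
      ((G⁻¹ : GL (Fin (k + 3)) F) : Matrix (Fin (k + 3)) (Fin (k + 3)) F) =
      (Q : Matrix (Fin (k + 3)) (Fin (k + 3)) F) * z₂ *
        ((Q⁻¹ : GL (Fin (k + 3)) F) : Matrix (Fin (k + 3)) (Fin (k + 3)) F) := by
    simp only [hG, _root_.mul_inv_rev, Units.val_mul, Matrix.mul_assoc]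
    simp only [← Matrix.mul_assoc ((R : Matrix (Fin (k + 3)) (Fin (k + 3)) F)),
      ← Matrix.mul_assoc (z : Matrix (Fin (k + 3)) (Fin (k + 3)) F)]
    have hR' : (R : Matrix (Fin (k + 3)) (Fin (k + 3)) F) * z *
        ((R⁻¹ : GL (Fin (k + 3)) F) : Matrix (Fin (k + 3)) (Fin (k + 3)) F) = bid d' * eRow ν' := hR.symm
    have h2 : (Pu * Eu : GL (Fin (k + 3)) F).1 * (bid d' * eRow ν') *
        ((Pu * Eu)⁻¹ : GL (Fin (k + 3)) F).1 = z₂ := by
      rw [hM'2, Matrix.mul_assoc, Units.mul_inv, Matrix.mul_one]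
    rw [← h2, ← hR', _root_.mul_inv_rev]
    simp only [Units.val_mul, Matrix.mul_assoc]
  refine ⟨G, ?_, ?_, fun hlast => ?_, fun hfirst => ?_⟩
  · rw [hG, map_mul, map_mul, map_mul]
    have h1 : GeneralLinearGroup.det Eu = 1 := Units.ext (by simpa [Eu] using det_eRow hν'0)
    have h2 : GeneralLinearGroup.det Pu = Units.mk0 others hothers * p1 :=
      Units.ext (by simpa [Pu] using hPdet)
    rw [h1, h2, mul_one, ← hp1r, hbase]
    simp [mul_comm, mul_left_comm, mul_assoc]
  · rw [hy, hQ]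
    refine Mate.conj Q ⟨?_, fun c => ?_⟩
    · rw [hT, charpoly_lower hTlow]
      simp only [hTd]
    · rw [hT]
      exact eigLe_lower hTlow hTg hTs c
  · rw [hy, hQ]
    refine NoCommon.conj Q fun v α β hv hv2 => ?_
    by_contra hv0
    have hzT : T *ᵥ v = (β * α) • v := by
      rw [← hT, ← mulVec_mulVec, hv2, mulVec_smul, hv, smul_smul]
    have hα : f.eval α = 0 := by rw [hf, ← hMf]; exact root_of_eigen hv0 hv
    have hβ : f.eval β = 0 := by
      have e : z₂.charpoly = f := by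
        have h := congrArg Matrix.charpoly hy
        rw [charpoly_conj, charpoly_conj] at h
        exact h.symm
      rw [← e]
      exact root_of_eigen hv0 hv2
    rw [hlam β hβ, ← hlam α hα, ← sq] at hzT
    have hTroot : T.charpoly.eval (α ^ 2) = 0 := root_of_eigen hv0 hzT
    rw [charpoly_lower hTlow, eval_prod, Finset.prod_eq_zero_iff] at hTroot
    obtain ⟨i, -, hi⟩ := hTroot
    rw [eval_sub, eval_X, eval_C, sub_eq_zero, hTd] at hi
    have hl := hlast α hα i hi.symm
    -- the eigenvector is the last basis vector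
    set el : Fin (k + 3) → F := Pi.single (Fin.last (k + 2)) 1
    have hel : T *ᵥ el = (α ^ 2) • el := by
      funext j
      rw [mulVec_single_one, Matrix.col_apply, Pi.smul_apply, smul_eq_mul]
      rcases eq_or_ne j (Fin.last (k + 2)) with rfl | hj
      · rw [hTd, ← htl, hl]
        simp [el]
      · rw [hTlow j _ (by
          have : j.val ≠ k + 2 := fun e => hj (Fin.ext (by simpa using e))
          simp only [Fin.val_last]
          omega)]
        simp [el, hj]
    obtain ⟨c, hcv⟩ := eigLe_iff.mp (eigLe_lower hTlow hTg hTs _) el v hel hzT (fun e => by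
      simpa [el] using congrFun e (Fin.last (k + 2)))
    have h := congrFun hv 0
    have hne : (Fin.last (k + 2)) ≠ 0 := Fin.ne_of_val_ne (by simp)
    rw [hcv, hz₁, mulVec_smul, ← mulVec_mulVec, eRow_mulVec, mulVec_add, mulVec_smul] at h
    simp only [el, bid_mulVec_single, dotProduct_single, mul_one, Pi.smul_apply, Pi.add_apply,
      Pi.single_eq_of_ne hne.symm, smul_eq_mul, mul_zero, Fin.val_zero, Fin.val_last, if_pos] at h
    simp [hnl, hd0 0] at h
    exact hv0 (by rw [hcv, h, zero_smul])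
  · rw [hy, hQ]
    refine NoCommonLeft.conj Q fun ψ α β hψ hψ2 => ?_
    by_contra hψ0
    have hψT : ψ ᵥ* T = (β * α) • ψ := by
      rw [← hT, ← vecMul_vecMul, hψ, smul_vecMul, hψ2, smul_smul, mul_comm]
    have hroot' : ∀ (A : Matrix (Fin (k + 3)) (Fin (k + 3)) F) (c : F), ψ ᵥ* A = c • ψ → A.charpoly.eval c = 0 := by
      intro A c hA
      rw [← charpoly_transpose]
      exact root_of_eigen hψ0 (by rw [mulVec_transpose]; exact hA)
    have hα : f.eval α = 0 := by rw [hf, ← hMf]; exact hroot' _ _ hψ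
    have hβ : f.eval β = 0 := by
      have e : z₂.charpoly = f := by
        have h := congrArg Matrix.charpoly hy
        rw [charpoly_conj, charpoly_conj] at h
        exact h.symm
      rw [← e]
      exact hroot' _ _ hψ2
    rw [hlam β hβ, ← hlam α hα, ← sq] at hψT
    have hTroot : T.charpoly.eval (α ^ 2) = 0 := hroot' _ _ hψT
    rw [charpoly_lower hTlow, eval_prod, Finset.prod_eq_zero_iff] at hTroot
    obtain ⟨i, -, hi⟩ := hTroot
    rw [eval_sub, eval_X, eval_C, sub_eq_zero, hTd] at hi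
    have hl := hfirst α hα i hi.symm
    set e1 : Fin (k + 3) → F := Pi.single 0 1
    have he1 : e1 ᵥ* T = (α ^ 2) • e1 := by
      funext j
      rw [single_one_vecMul, Matrix.row_apply, Pi.smul_apply, smul_eq_mul]
      rcases eq_or_ne j 0 with rfl | hj
      · rw [hTd, hl]
        simp [e1]
      · rw [hTlow 0 j (by
          have : j.val ≠ 0 := fun e => hj (Fin.ext e)
          simp only [Fin.val_zero]
          omega)]
        simp [e1, hj]
    obtain ⟨c, hcv⟩ := eigLe_iff.mp (eigLe_transpose.mpr (eigLe_lower hTlow hTg hTs (α ^ 2))) e1 ψ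
      (by rw [mulVec_transpose]; exact he1) (by rw [mulVec_transpose]; exact hψT) (fun e => by
      simpa [e1] using congrFun e 0)
    have h := congrFun hψ (Fin.last (k + 2))
    have hne : (Fin.last (k + 2)) ≠ 0 := Fin.ne_of_val_ne (by simp)
    have hrow : ∀ j, (bid d * eRow ν : Matrix (Fin (k + 3)) (Fin (k + 3)) F) 0 j = d 0 * eRow ν 0 j := fun j => by
      rw [Matrix.mul_apply, Finset.sum_eq_single 0]
      · rw [bid_diag]; rfl
      · intro l _ hl
        rw [bid_lower d 0 l (by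
          have : l.val ≠ 0 := fun e => hl (Fin.ext e)
          simp only [Fin.val_zero]
          omega), zero_mul]
      · simp
    rw [hcv, hz₁, smul_vecMul, single_one_vecMul, Pi.smul_apply, Matrix.row_apply, hrow] at h
    simp [e1, eRow, vecMulVec_apply, one_apply, hne, hne.symm, hnl, hd0 0] at h
    exact hψ0 (by rw [hcv, h, zero_smul])

end CfsgLib.CoverPSL
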