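import Cfsg.Agent.CoverPSL.Four
import Cfsg.Agent.OreSL.Small

/-!
# Sets of primary cyclic blocks

Every matrix is similar to a sum of cyclic blocks, each with at most one eigenvalue. The determinants of
a centraliser form a subgroup containing what each block contributes.
-/

set_option autoImplicit false

namespace CfsgLib.CoverPSL

open Matrix Polynomial CfsgLib.OreSL

variable {F : Type*} [Field F] {n N : ℕ}

/-- The characteristic polynomial has at most one root. -/
def OneRoot {ι : Type*} [Fintype ι] [DecidableEq ι] (A : Matrix ι ι F) : Prop :=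
  ∀ a b, A.charpoly.eval a = 0 → A.charpoly.eval b = 0 → a = b

/-- A matrix with an eigenvalue has no other root of its characteristic polynomial, not even in an extension. -/
def Pure {m : ℕ} (A : Matrix (Fin m) (Fin m) F) : Prop :=
  ∀ c, A.charpoly.eval c = 0 → A.charpoly = (X - C c) ^ m

/-- Every matrix is similar to a sum of cyclic blocks with at most one eigenvalue each. -/
theorem exists_prim_decomp (A : Matrix (Fin n) (Fin n) F) :
    ∃ (N : ℕ) (B : Fin N → Blk F) (e : Fin n ≃ (Σ i, Fin ((B i).m + 1))),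
      Sim (Matrix.reindex e e A) (blockDiagonal' fun i => (B i).mat) ∧
        ∀ i, OneRoot (B i).mat ∧ Pure (B i).mat := by
  classical
  obtain ⟨N, p, e, hpe, ⟨φ⟩⟩ := GLClass.exists_data A
  have hd : ∀ i, 0 < (p i ^ e i).natDegree := fun i => by
    rw [natDegree_pow]
    exact Nat.mul_pos (hpe i).2.2 (hpe i).2.1.natDegree_pos
  choose B b hb using fun i => exists_block ((hpe i).1.pow (e i)) (hd i)
  have hroot : ∀ i c, (B i).mat.charpoly.eval c = 0 → p i = X - C c := by
    intro i c hc
    rw [Matrix.eval_charpoly, ← Matrix.exists_mulVec_eq_zero_iff] at hc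
    obtain ⟨v, hv0, hv⟩ := hc
    rw [sub_mulVec, scalar_apply, ← smul_one_eq_diagonal, smul_mulVec, one_mulVec, sub_eq_zero] at hv
    set u : F[X] ⧸ Submodule.span F[X] {p i ^ e i} := (b i).equivFun.symm v with hu
    have hu0 : u ≠ 0 := fun h => hv0 (by
      rw [← (b i).equivFun.apply_symm_apply v, ← hu, h, map_zero])
    have hX : (X : F[X]) • u = c • u := by
      apply (b i).equivFun.injective
      rw [LinearEquiv.map_smul (b i).equivFun c u, show (b i).equivFun u = v from (b i).equivFun.apply_symm_apply v, hv, ← hb i]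
      have h := LinearMap.toMatrix_mulVec_repr (b i) (b i)
        (((X : F[X]) • LinearMap.id : (F[X] ⧸ Submodule.span F[X] {p i ^ e i}) →ₗ[F[X]] _).restrictScalars F) u
      have hr : ((b i).repr u : Fin ((B i).m + 1) → F) = v := (b i).equivFun.apply_symm_apply v
      rw [hr] at h
      rw [Module.Basis.equivFun_apply, h]
      rfl
    have hq : ∀ q : F[X], q • u = q.eval c • u := by
      intro q
      induction q using Polynomial.induction_on' with
      | add q r hq hr => rw [add_smul, hq, hr, eval_add, add_smul]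
      | monomial k a =>
        induction k with
        | zero =>
          rw [monomial_zero_left, eval_C, ← algebraMap_smul F[X] a u, Polynomial.algebraMap_eq]
        | succ k ih =>
          rw [← monomial_mul_X, mul_smul, hX, smul_comm, ih, smul_smul, eval_mul, eval_X, mul_comm c]
    have hz : (p i ^ e i) • u = 0 := by
      obtain ⟨w, hw⟩ := Submodule.Quotient.mk_surjective _ u
      rw [← hw, ← Submodule.Quotient.mk_smul, Submodule.Quotient.mk_eq_zero, smul_eq_mul]
      exact Ideal.mem_span_singleton.2 (dvd_mul_right _ _)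
    rw [hq, eval_pow, smul_eq_zero, or_iff_left hu0, pow_eq_zero_iff (hpe i).2.2.ne'] at hz
    exact eq_of_monic_of_associated (hpe i).1 (monic_X_sub_C c)
      (((irreducible_X_sub_C c).associated_of_dvd (hpe i).2.1 (dvd_iff_isRoot.2 hz)).symm)
  have hchar : ∀ i, (B i).mat.charpoly = p i ^ e i := by
    intro i
    have key : ∀ (q : F[X]) (u : F[X] ⧸ Submodule.span F[X] {p i ^ e i}),
        aeval (B i).mat q *ᵥ (b i).equivFun u = (b i).equivFun (q • u) := by
      have hX : ∀ u : F[X] ⧸ Submodule.span F[X] {p i ^ e i},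
          (B i).mat *ᵥ (b i).equivFun u = (b i).equivFun ((X : F[X]) • u) := by
        intro u
        rw [← hb i, Module.Basis.equivFun_apply, Module.Basis.equivFun_apply, LinearMap.toMatrix_mulVec_repr]
        rfl
      intro q
      induction q using Polynomial.induction_on' with
      | add q r hq hr => intro u; rw [map_add, add_mulVec, hq, hr, add_smul, map_add]
      | monomial k a =>
        induction k with
        | zero =>
          intro u
          rw [monomial_zero_left, aeval_C, Algebra.algebraMap_eq_smul_one, smul_mulVec, one_mulVec,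
            ← LinearEquiv.map_smul (b i).equivFun a u, ← algebraMap_smul F[X] a u, Polynomial.algebraMap_eq]
        | succ k ih =>
          intro u
          rw [← monomial_mul_X, map_mul, aeval_X, ← mulVec_mulVec, hX, ih, mul_smul]
    obtain ⟨w, hw⟩ := (B i).cyc
    refine charpoly_of_annihilate hw ((hpe i).1.pow (e i)) ?_ ?_
    · have h := Module.finrank_eq_card_basis (b i)
      rw [Fintype.card_fin] at h
      exact ((finrank_quotient_span_eq_natDegree (f := p i ^ e i)).symm.trans h)
    · obtain ⟨u, rfl⟩ := (b i).equivFun.surjective w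
      rw [key, show (p i ^ e i) • u = 0 from ?_, map_zero]
      obtain ⟨v, rfl⟩ := Submodule.Quotient.mk_surjective _ u
      rw [← Submodule.Quotient.mk_smul, Submodule.Quotient.mk_eq_zero, smul_eq_mul]
      exact Ideal.mem_span_singleton.2 (dvd_mul_right _ _)
  have hpure : ∀ i, Pure (B i).mat := by
    intro i c hc
    have h1 := congrArg natDegree (hchar i)
    rw [Matrix.charpoly_natDegree_eq_dim, Fintype.card_fin, natDegree_pow, hroot i c hc, natDegree_X_sub_C,
      mul_one] at h1
    rw [hchar i, hroot i c hc, h1]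
  let J : (Fin n → F) ≃ₗ[F] GLClass.Model p e :=
    (Module.AEval'.of (Matrix.toLin' A)).trans (φ.restrictScalars F)
  have hJ : ∀ v, J (Matrix.toLin' A v) = (X : F[X]) • J v := by
    intro v
    show φ (Module.AEval'.of (Matrix.toLin' A) (Matrix.toLin' A v)) = _
    rw [← Module.AEval'.X_smul_of, map_smul]
    rfl
  let bb : Module.Basis (Σ i, Fin ((B i).m + 1)) F (Fin n → F) := (Pi.basis b).map J.symm
  have hcard : Fintype.card (Fin n) = Fintype.card (Σ i, Fin ((B i).m + 1)) := by
    rw [← Module.finrank_eq_card_basis bb, Module.finrank_fin_fun, Fintype.card_fin]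
  let ee := Fintype.equivOfCardEq hcard
  refine ⟨N, B, ee, ?_, fun i => ⟨fun a c ha hc => ?_, hpure i⟩⟩
  · let bf := (Pi.basisFun F (Fin n)).reindex ee
    have hA' : LinearMap.toMatrix bf bf (Matrix.toLin' A) = Matrix.reindex ee ee A := by
      ext i j
      simp [bf, LinearMap.toMatrix_apply, Matrix.mulVec_single]
    have hM : LinearMap.toMatrix bb bb (Matrix.toLin' A) = blockDiagonal' fun i => (B i).mat := by
      ext ⟨i, k⟩ ⟨j, l⟩
      rw [LinearMap.toMatrix_apply]
      simp only [bb, Module.Basis.map_apply, Module.Basis.map_repr, LinearEquiv.trans_apply,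
        LinearEquiv.symm_symm]
      rw [hJ, LinearEquiv.apply_symm_apply, Pi.basis_repr, Pi.basis_apply, Pi.smul_apply]
      rcases eq_or_ne i j with rfl | hij
      · rw [blockDiagonal'_apply_eq, Pi.single_eq_same, ← hb i, LinearMap.toMatrix_apply]
        rfl
      · rw [blockDiagonal'_apply_ne _ _ _ hij, Pi.single_eq_of_ne hij, smul_zero, map_zero]
        rfl
    refine ⟨bb.toMatrix bf, ?_, ?_⟩
    · have h1 := congrArg Matrix.det (bb.toMatrix_mul_toMatrix_flip bf)
      rw [det_mul, det_one] at h1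
      intro e0
      rw [e0, zero_mul] at h1
      exact zero_ne_one h1
    · rw [← hA', ← hM, basis_toMatrix_mul_linearMap_toMatrix, linearMap_toMatrix_mul_basis_toMatrix]
  · have h := (hroot i a ha).symm.trans (hroot i c hc)
    simpa using h

/-- Permuting coordinates is a similarity. -/
theorem sim_perm {ι : Type*} [Fintype ι] [DecidableEq ι] (σ : Equiv.Perm ι) (A : Matrix ι ι F) :
    Sim A (Matrix.reindex σ σ A) := by
  refine ⟨(1 : Matrix ι ι F).submatrix σ.symm id, ?_, ?_⟩
  · rw [det_permute, det_one, mul_one]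
    rcases Int.units_eq_one_or (Equiv.Perm.sign σ.symm) with h | h <;> simp [h]
  · ext i j
    simp [Matrix.mul_apply, Matrix.one_apply, Equiv.symm_apply_eq]
    rw [Finset.sum_eq_single (σ.symm i) (fun b _ hb => if_neg fun h => hb (by simp [h])) (by simp)]
    simp

/-- `M` is similar to a copy of the blocks of `s`. -/
def SimRep (B : Fin N → Blk F) (s : Finset (Fin N)) {α : Type*} [Fintype α] [DecidableEq α]
    (M : Matrix α α F) : Prop :=
  ∃ e : α ≃ (Σ i : s, Fin ((B i.1).m + 1)), Sim (Matrix.reindex e e M) (gb B s)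

variable {B : Fin N → Blk F} {s t : Finset (Fin N)}

theorem SimRep.of_rep {α : Type*} [Fintype α] [DecidableEq α] {M : Matrix α α F} (h : Rep B s M) :
    SimRep B s M :=
  let ⟨e, he⟩ := h
  ⟨e, Sim.of_eq he⟩

theorem SimRep.of_sim {α : Type*} [Fintype α] [DecidableEq α] {M M' : Matrix α α F} (h : SimRep B s M)
    (hs : Sim M' M) : SimRep B s M' :=
  let ⟨e, he⟩ := h
  ⟨e, (hs.reindex e).trans he⟩

theorem simRep_singleton (B : Fin N → Blk F) (a : Fin N) : SimRep B {a} (B a).mat :=
  .of_rep (rep_singleton B a)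

theorem simRep_exists (B : Fin N → Blk F) (s : Finset (Fin N)) :
    ∃ (m : ℕ) (M : Matrix (Fin m) (Fin m) F), SimRep B s M := by
  classical
  refine ⟨_, Matrix.reindex (Fintype.equivFin _) (Fintype.equivFin _) (gb B s),
    (Fintype.equivFin _).symm, Sim.of_eq ?_⟩
  ext i j
  simp

theorem SimRep.union (hd : _root_.Disjoint s t) {a b : ℕ} {M : Matrix (Fin a) (Fin a) F}
    {M' : Matrix (Fin b) (Fin b) F} (h : SimRep B s M) (h' : SimRep B t M') :
    SimRep B (s ∪ t) (dsum M M') := by
  classical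
  obtain ⟨e, he⟩ := h
  obtain ⟨e', he'⟩ := h'
  obtain ⟨u, hu⟩ := (rep_self B s).union hd (rep_self B t)
  refine ⟨finSumFinEquiv.symm.trans ((Equiv.sumCongr e e').trans u), ?_⟩
  have h1 := (he.fromBlocks he').reindex u
  rw [hu] at h1
  refine (Sim.of_eq ?_).trans h1
  rw [dsum]
  ext i j
  simp only [Matrix.reindex_apply, submatrix_apply, Equiv.symm_trans_apply, Equiv.symm_symm,
    Equiv.symm_apply_apply]
  generalize u.symm i = p
  generalize u.symm j = q
  rcases p with p | p <;> rcases q with q | q <;> simp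

theorem SimRep.sizes {α : Type*} [Fintype α] [DecidableEq α] {M : Matrix α α F} (h : SimRep B s M) :
    Fintype.card α = ∑ i ∈ s, ((B i).m + 1) := by
  obtain ⟨e, -⟩ := h
  rw [Fintype.card_congr e, Fintype.card_sigma, ← Finset.sum_coe_sort s]
  simp

theorem SimRep.sim {m : ℕ} {M M' : Matrix (Fin m) (Fin m) F} (h : SimRep B s M) (h' : SimRep B s M') :
    Sim M M' := by
  classical
  obtain ⟨e, he⟩ := h
  obtain ⟨e', he'⟩ := h'
  have h1 := (he.trans he'.symm).reindex e'.symm
  refine ((sim_perm (e.trans e'.symm) M).trans ?_).trans (h1.trans (Sim.of_eq ?_))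
  · refine Sim.of_eq ?_
    ext i j
    simp
  · ext i j
    simp

/-- The blocks of a matrix. -/
theorem exists_simRep (A : Matrix (Fin n) (Fin n) F) :
    ∃ (N : ℕ) (B : Fin N → Blk F), SimRep B Finset.univ A ∧ ∀ i, OneRoot (B i).mat ∧ Pure (B i).mat := by
  classical
  obtain ⟨N, B, e, hsim, hP⟩ := exists_prim_decomp A
  let f : (Σ i : ↥(Finset.univ : Finset (Fin N)), Fin ((B i.1).m + 1)) ≃ (Σ i, Fin ((B i).m + 1)) :=
    Equiv.sigmaCongrLeft (β := fun i => Fin ((B i).m + 1)) (Equiv.subtypeUnivEquiv Finset.mem_univ)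
  refine ⟨N, B, ⟨e.trans f.symm, (Sim.of_eq ?_).trans ((hsim.reindex f.symm).trans (Sim.of_eq ?_))⟩, hP⟩
  · ext i j
    simp
  · ext ⟨⟨a, ha⟩, x⟩ ⟨⟨b, hb⟩, y⟩
    show blockDiagonal' (fun i => (B i).mat) ⟨a, x⟩ ⟨b, y⟩ = gb B Finset.univ ⟨⟨a, ha⟩, x⟩ ⟨⟨b, hb⟩, y⟩
    rcases eq_or_ne a b with rfl | hab
    · simp [gb, blockDiagonal'_apply_eq]
    · simp [gb, blockDiagonal'_apply_ne, hab]

/-- A set of one-dimensional blocks is a diagonal matrix. -/
theorem simRep_diagonal {l : ℕ} (e : Fin l ≃ s) (v : Fin l → F)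
    (hm : ∀ j, (B (e j).1).m = 0) (hv : ∀ j p, (B (e j).1).mat p p = v j) :
    SimRep B s (Matrix.diagonal v) := by
  classical
  let f : Fin l ≃ (Σ i : s, Fin ((B i.1).m + 1)) :=
    Equiv.ofBijective (fun j => ⟨e j, 0⟩) ⟨fun a b h => e.injective (congrArg Sigma.fst h), fun x => by
      obtain ⟨i, p⟩ := x
      obtain ⟨j, rfl⟩ := e.surjective i
      refine ⟨j, ?_⟩
      have : p = 0 := Fin.ext (by have := p.isLt; have := hm j; simp only [Fin.val_zero]; omega)
      rw [this]⟩
  refine ⟨f, Sim.of_eq ?_⟩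
  ext x y
  obtain ⟨i, rfl⟩ := f.surjective x
  obtain ⟨j, rfl⟩ := f.surjective y
  have hf : ∀ i, f i = ⟨e i, 0⟩ := fun _ => rfl
  simp only [Matrix.reindex_apply, submatrix_apply, Equiv.symm_apply_apply]
  simp only [gb, hf]
  rcases eq_or_ne i j with rfl | hij
  · rw [diagonal_apply_eq, blockDiagonal'_apply_eq, hv]
  · rw [diagonal_apply_ne _ hij, blockDiagonal'_apply_ne _ _ _ (fun h => hij (e.injective h))]

/-- The determinants of the centraliser. -/
def centDet {ι : Type*} [Fintype ι] [DecidableEq ι] (x : Matrix ι ι F) : Subgroup Fˣ where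
  carrier := {u | ∃ C : GL ι F, (C : Matrix ι ι F) * x = x * (C : Matrix ι ι F) ∧
    GeneralLinearGroup.det C = u}
  one_mem' := ⟨1, by simp, map_one _⟩
  mul_mem' := by
    rintro _ _ ⟨C, hC, rfl⟩ ⟨D, hD, rfl⟩
    exact ⟨C * D, by rw [Units.val_mul, Matrix.mul_assoc, hD, ← Matrix.mul_assoc, hC, Matrix.mul_assoc],
      map_mul _ _ _⟩
  inv_mem' := by
    rintro _ ⟨C, hC, rfl⟩
    refine ⟨C⁻¹, ?_, map_inv _ _⟩
    calc ((C⁻¹ : GL ι F) : Matrix ι ι F) * x
        = ((C⁻¹ : GL ι F) : Matrix ι ι F) * (x * (C : Matrix ι ι F)) * ((C⁻¹ : GL ι F) : Matrix ι ι F) := by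
          simp only [Matrix.mul_assoc, Units.mul_inv, Matrix.mul_one]
      _ = x * ((C⁻¹ : GL ι F) : Matrix ι ι F) := by
          rw [← hC, ← Matrix.mul_assoc ((C⁻¹ : GL ι F) : Matrix ι ι F), Units.inv_mul, Matrix.one_mul]

section centDet

variable {ι κ : Type*} [Fintype ι] [DecidableEq ι] [Fintype κ] [DecidableEq κ] {x y : Matrix ι ι F}

theorem mem_centDet {u : Fˣ} (C : Matrix ι ι F) (hC : C * x = x * C) (hd : C.det = u) :
    u ∈ centDet x :=
  ⟨GeneralLinearGroup.mkOfDetNeZero C (by rw [hd]; exact u.ne_zero), hC, Units.ext (by simpa using hd)⟩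

theorem centDet_sim (h : Sim x y) : centDet x ≤ centDet y := by
  rintro u ⟨C, hC, rfl⟩
  obtain ⟨P, -, rfl⟩ := (simIn_top_iff.2 h).eq_conj
  refine ⟨P * C * P⁻¹, ?_, by rw [map_mul, map_mul, map_inv, mul_comm (GeneralLinearGroup.det P), mul_inv_cancel_right]⟩
  simp only [Units.val_mul, Matrix.mul_assoc]
  rw [← Matrix.mul_assoc ((P⁻¹ : GL ι F) : Matrix ι ι F) (P : Matrix ι ι F), Units.inv_mul, Matrix.one_mul,
    ← Matrix.mul_assoc ((P⁻¹ : GL ι F) : Matrix ι ι F) (P : Matrix ι ι F), Units.inv_mul, Matrix.one_mul,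
    ← Matrix.mul_assoc (C : Matrix ι ι F), hC, Matrix.mul_assoc]

theorem centDet_reindex (e : ι ≃ κ) : centDet x ≤ centDet (Matrix.reindex e e x) := by
  rintro u ⟨C, hC, rfl⟩
  refine mem_centDet (Matrix.reindex e e (C : Matrix ι ι F)) ?_ (det_reindex_self e _)
  simp only [Matrix.reindex_apply, submatrix_mul_equiv, hC]

theorem centDet_fromBlocks_left (z : Matrix ι ι F) (w : Matrix κ κ F) :
    centDet z ≤ centDet (Matrix.fromBlocks z 0 0 w) := by
  rintro u ⟨C, hC, rfl⟩
  refine mem_centDet (Matrix.fromBlocks (C : Matrix ι ι F) 0 0 1) ?_ ?_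
  · simp [fromBlocks_multiply, hC]
  · rw [det_fromBlocks_zero₂₁, det_one, mul_one]
    rfl

/-- `SimIn` for the centraliser determinants is conjugacy by determinant one. -/
theorem SimIn.of_centDet (h : SimIn (centDet x) x y) : SimIn ⊥ x y := by
  obtain ⟨P, hP, e⟩ := h
  obtain ⟨C, hC, hd⟩ := hP
  refine ⟨P * C⁻¹, by rw [map_mul, map_inv, hd, mul_inv_cancel]; exact one_mem _, ?_⟩
  have hC' : ((C⁻¹ : GL ι F) : Matrix ι ι F) * x = x * ((C⁻¹ : GL ι F) : Matrix ι ι F) := by
    calc ((C⁻¹ : GL ι F) : Matrix ι ι F) * x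
        = ((C⁻¹ : GL ι F) : Matrix ι ι F) * (x * (C : Matrix ι ι F)) * ((C⁻¹ : GL ι F) : Matrix ι ι F) := by
          simp only [Matrix.mul_assoc, Units.mul_inv, Matrix.mul_one]
      _ = x * ((C⁻¹ : GL ι F) : Matrix ι ι F) := by
          rw [← hC, ← Matrix.mul_assoc ((C⁻¹ : GL ι F) : Matrix ι ι F), Units.inv_mul, Matrix.one_mul]
  rw [Units.val_mul, Matrix.mul_assoc, hC', ← Matrix.mul_assoc, e, Matrix.mul_assoc]

theorem Cov.of_centDet {k : ℕ} {g : Matrix ι ι F} (h : Cov (centDet x) x k g) : Cov ⊥ x k g := by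
  induction k generalizing g with
  | zero => exact h
  | succ k ih =>
    obtain ⟨y, r, hy, hr, e⟩ := h
    exact ⟨y, r, hy.of_centDet, ih hr, e⟩

theorem det_mem_centDet (hx : x.det ≠ 0) : Units.mk0 x.det hx ∈ centDet x := mem_centDet x rfl rfl

theorem pow_card_mem_centDet (μ : Fˣ) : μ ^ Fintype.card ι ∈ centDet x :=
  mem_centDet ((μ : F) • 1) (by simp) (by simp [det_smul])

end centDet

/-- The blocks contribute to the centraliser determinants. -/
theorem SimRep.centDet_le {A : Matrix (Fin n) (Fin n) F} (h : SimRep B Finset.univ A) (i : Fin N) :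
    centDet (B i).mat ≤ centDet A := by
  classical
  obtain ⟨m, R, hR⟩ := simRep_exists B (Finset.univ.erase i)
  have hu := (simRep_singleton B i).union (Finset.disjoint_singleton_left.mpr (Finset.notMem_erase i _)) hR
  rw [← Finset.insert_eq, Finset.insert_erase (Finset.mem_univ i)] at hu
  have hn : (B i).m + 1 + m = n := by
    have h1 := hu.sizes
    rwa [← h.sizes, Fintype.card_fin, Fintype.card_fin] at h1
  subst hn
  exact ((centDet_fromBlocks_left (B i).mat R).trans (centDet_reindex finSumFinEquiv)).trans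
    (centDet_sim (hu.sim h))

end CfsgLib.CoverPSL
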