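import Cfsg.Agent.CoverPSL.Pieces

/-!
# Assembling blocks of size at least two
-/

set_option autoImplicit false

namespace CfsgLib.CoverPSL

open Matrix Polynomial CfsgLib.OreSL

variable {F : Type*} [Field F] {n N : ℕ}

/-- `v` is the value of an element of `K`. -/
def InSub (K : Subgroup Fˣ) (v : F) : Prop := ∃ u ∈ K, (u : F) = v

theorem InSub.top {v : F} (hv : v ≠ 0) : InSub (⊤ : Subgroup Fˣ) v :=
  ⟨Units.mk0 v hv, Subgroup.mem_top _, rfl⟩

theorem InSub.one (K : Subgroup Fˣ) : InSub K (1 : F) := ⟨1, one_mem K, rfl⟩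

theorem InSub.mul {K : Subgroup Fˣ} {v w : F} (hv : InSub K v) (hw : InSub K w) : InSub K (v * w) := by
  obtain ⟨a, ha, rfl⟩ := hv
  obtain ⟨b, hb, rfl⟩ := hw
  exact ⟨a * b, mul_mem ha hb, Units.val_mul a b⟩

theorem InSub.div {K : Subgroup Fˣ} {v w : F} (hv : InSub K v) (hw : InSub K w) : InSub K (v / w) := by
  obtain ⟨a, ha, rfl⟩ := hv
  obtain ⟨b, hb, rfl⟩ := hw
  exact ⟨a / b, div_mem ha hb, Units.val_div_eq_div_val a b⟩

theorem InSub.ne_zero {K : Subgroup Fˣ} {v : F} (hv : InSub K v) : v ≠ 0 := by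
  obtain ⟨a, -, rfl⟩ := hv
  exact a.ne_zero

/-- A mate which can be put on top of anything, with values in `K`. -/
def Top {m : ℕ} (K : Subgroup Fˣ) (z : Matrix (Fin m) (Fin m) F) : Prop :=
  ∃ (P : GL (Fin m) F) (t : Fin m → F),
    Mate z ((P : Matrix (Fin m) (Fin m) F) * z * ((P⁻¹ : GL (Fin m) F) : Matrix (Fin m) (Fin m) F)) t ∧
    NoCommon z ((P : Matrix (Fin m) (Fin m) F) * z * ((P⁻¹ : GL (Fin m) F) : Matrix (Fin m) (Fin m) F)) ∧
    (∃ S : Finset F, S.card ≤ 3 ∧ ∀ i, t i ∈ S) ∧ ∀ i, InSub K (t i)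

theorem leftIn_univ {m : ℕ} (x y : Matrix (Fin m) (Fin m) F) : LeftIn x y Set.univ :=
  fun _ _ _ _ _ _ => Set.mem_univ _

/-- `Sq` transported along a similarity. -/
theorem Sq.sim {K : Subgroup Fˣ} {L : Set (F × F)} {x x' : Matrix (Fin n) (Fin n) F} {t : Fin n → F}
    (hx : Sq K L x t) (h : Sim x x') : Sq K Set.univ x' t := by
  intro r
  obtain ⟨P, hP, hM, -⟩ := hx r
  obtain ⟨Q, rfl⟩ := exists_conj_of_sim h
  refine ⟨Q * P * Q⁻¹, ?_, ?_, leftIn_univ _ _⟩
  · rwa [map_mul, map_mul, map_inv, mul_comm (GeneralLinearGroup.det Q), mul_inv_cancel_right]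
  · have e : ((Q * P * Q⁻¹ : GL (Fin n) F) : Matrix (Fin n) (Fin n) F) *
        ((Q : Matrix (Fin n) (Fin n) F) * x * ((Q⁻¹ : GL (Fin n) F) : Matrix (Fin n) (Fin n) F)) *
        (((Q * P * Q⁻¹)⁻¹ : GL (Fin n) F) : Matrix (Fin n) (Fin n) F) =
        (Q : Matrix (Fin n) (Fin n) F) * ((P : Matrix (Fin n) (Fin n) F) * x *
          ((P⁻¹ : GL (Fin n) F) : Matrix (Fin n) (Fin n) F)) * ((Q⁻¹ : GL (Fin n) F) : Matrix (Fin n) (Fin n) F) := by
      simp only [_root_.mul_inv_rev, inv_inv, Units.val_mul, Matrix.mul_assoc]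
      simp only [← Matrix.mul_assoc ((Q⁻¹ : GL (Fin n) F) : Matrix (Fin n) (Fin n) F) (Q : Matrix (Fin n) (Fin n) F),
        Units.inv_mul, Matrix.one_mul]
    rw [e]
    exact hM.conj Q

variable [Fintype F]

/-- Every block of size at least two has a mate to put on top. -/
theorem top_of_block (h4 : 4 ≤ Fintype.card F) (A : Blk F) (hone : OneRoot A.mat) (hm : 1 ≤ A.m)
    (hd0 : A.mat.det ≠ 0) (K : Subgroup Fˣ) (hδ : InSub K A.mat.det)
    (h2 : A.m = 1 → ∃ s, InSub K s ∧ s ≠ A.mat.det ∧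
      ((∃ l, A.mat.charpoly.eval l = 0) ∨ s ≠ -A.mat.det)) : Top K A.mat := by
  classical
  obtain ⟨m, z, hc⟩ := A
  rcases Nat.lt_or_ge m 2 with hm2 | hm2
  · obtain rfl : m = 1 := by simp only at hm; omega
    obtain ⟨s, hsK, hsδ, hgood⟩ := h2 rfl
    simp only at hgood hsδ hδ hone hd0 ⊢
    change Matrix (Fin 2) (Fin 2) F at z
    obtain ⟨P, hM, hN⟩ := gl2_mate h4 z (IsCyc.ne_scalar le_rfl hc) hd0 s hsK.ne_zero
      (hgood.imp_right fun h => ⟨hsδ, h⟩)
    refine ⟨P, _, hM, hN fun a b ha hb => ?_, ⟨{s, z.det ^ 2 / s}, Finset.card_le_two.trans (by norm_num),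
      fun i => by fin_cases i <;> simp⟩, fun i => by
        fin_cases i
        · exact hsK
        · exact (sq z.det ▸ hδ.mul hδ).div hsK⟩
    obtain rfl := hone a b ha hb
    have hT : z.trace = 2 * a ∧ z.det = a ^ 2 := by
      rw [eval_charpoly_two] at ha
      have ha' : z.charpoly.eval (z.trace - a) = 0 := by
        rw [eval_charpoly_two]
        linear_combination ha
      have := hone a (z.trace - a) (by rw [eval_charpoly_two]; exact ha) ha'
      have hT : z.trace = 2 * a := by linear_combination -this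
      rw [hT] at ha
      exact ⟨hT, by linear_combination ha⟩
    rw [← sq, ← hT.2]
    refine ⟨hsδ.symm, fun e => hsδ ?_⟩
    rw [eq_div_iff hsK.ne_zero] at e
    exact mul_left_cancel₀ hd0 (e.trans (sq _))
  · obtain ⟨k, rfl⟩ : ∃ k, m = k + 2 := ⟨m - 2, by omega⟩
    simp only at hδ hone hd0 ⊢
    change Matrix (Fin (k + 3)) (Fin (k + 3)) F at z
    change IsCyc (m := k + 3) z at hc
    have hτ : InSub K (z.det ^ 2) := sq z.det ▸ hδ.mul hδ
    have hcard : ∀ t : Fin (k + 3) → F, (∀ i, t i = z.det ^ 2 ∨ t i = 1) →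
        ∃ S : Finset F, S.card ≤ 3 ∧ ∀ i, t i ∈ S := fun t ht =>
      ⟨{z.det ^ 2, 1}, Finset.card_le_two.trans (by norm_num), fun i => by simpa using ht i⟩
    have mk : ∀ (j : Fin (k + 3)) (t : Fin (k + 3) → F), (t = fun i => if i = j then z.det ^ 2 else 1) →
        Grouped t → (∀ a, z.charpoly.eval a = 0 → ∀ i, t i = a ^ 2 → t (Fin.last (k + 2)) = a ^ 2) →
        Top K z := by
      intro j t ht hg hlast
      have hv : ∀ i, t i = z.det ^ 2 ∨ t i = 1 := fun i => by
        rw [ht]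
        by_cases h : i = j <;> simp [h]
      have hprod : ∏ i, t i = z.det ^ 2 := by rw [ht]; simp
      obtain ⟨r₀, h⟩ := block_pair h4 z hc hd0 hone t
        (fun i => by rcases hv i with h | h <;> rw [h] <;> first | exact pow_ne_zero _ hd0 | exact one_ne_zero)
        hg hprod
      obtain ⟨P, -, hM, hN, -⟩ := h r₀ (Or.inl rfl)
      exact ⟨P, t, hM, hN hlast, hcard t hv, fun i => by
        rcases hv i with h | h <;> rw [h]
        exacts [hτ, InSub.one K]⟩
    by_cases h1 : ∃ κ, z.charpoly.eval κ = 0 ∧ κ ^ 2 = 1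
    · obtain ⟨κ, hκ, hκ1⟩ := h1
      refine mk 0 _ rfl (fun i j hij e h => ?_) fun a ha i _ => ?_
      · have hj : j ≠ 0 := fun e => by
          subst e
          exact absurd hij (Fin.not_lt_zero i)
        have hi1 : (⟨i.val + 1, h⟩ : Fin (k + 3)) ≠ 0 := Fin.ne_of_val_ne (Nat.succ_ne_zero _)
        simp only [hj, if_false] at e
        simp only [hi1, if_false, e]
      · rw [if_neg (by simp [Fin.ext_iff]), hone a κ ha hκ, hκ1]
    · refine mk (Fin.last (k + 2)) _ rfl (fun i j hij e h => ?_) fun a ha i hi => ?_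
      · have hi' : i ≠ Fin.last (k + 2) := (lt_of_lt_of_le hij (Fin.le_last j)).ne
        simp only [hi', if_false] at e ⊢
        split_ifs with h'
        · have hj : j = Fin.last (k + 2) := by
            refine le_antisymm (Fin.le_last j) ?_
            rw [← h']
            exact Nat.succ_le_of_lt hij
          simpa [hj] using e.symm
        · rfl
      · rw [if_pos rfl]
        split_ifs at hi with h'
        · exact hi
        · exact absurd ⟨a, ha, hi.symm⟩ h1

/-- Stack blocks with top mates over a matrix which has mates. -/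
theorem exists_stack (h4 : 4 ≤ Fintype.card F) {G : Subgroup Fˣ} {K : Subgroup Fˣ} {B : Fin N → Blk F}
    {s₀ : Finset (Fin N)} {m₀ : ℕ} {M₀ : Matrix (Fin m₀) (Fin m₀) F} {t₀ : Fin m₀ → F} {L₀ : Set (F × F)}
    (h₀ : SimRep B s₀ M₀) (hx : Sq G L₀ M₀ t₀) (hd : M₀.det ≠ 0)
    (hs₀ : G = ⊤ ∨ ∃ i, (∀ j, t₀ j = t₀ i → j = i) ∧ ¬ InSub K (t₀ i)) (s : Finset (Fin N))
    (hdisj : _root_.Disjoint s s₀) (hs : ∀ i ∈ s, (B i).mat.det ≠ 0 ∧ Top K (B i).mat) :
    ∃ (m : ℕ) (M : Matrix (Fin m) (Fin m) F) (t : Fin m → F) (L : Set (F × F)),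
      SimRep B (s ∪ s₀) M ∧ Sq G L M t ∧ M.det ≠ 0 ∧
        (G = ⊤ ∨ ∃ i, (∀ j, t j = t i → j = i) ∧ ¬ InSub K (t i)) := by
  classical
  induction s using Finset.induction_on with
  | empty => exact ⟨m₀, M₀, t₀, L₀, by rwa [Finset.empty_union], hx, hd, hs₀⟩
  | @insert a s ha ih =>
    rw [Finset.disjoint_insert_left] at hdisj
    obtain ⟨m, M, t, L, hR, hSq, hM, hsimp⟩ := ih hdisj.2 fun i hi => hs i (Finset.mem_insert_of_mem hi)
    obtain ⟨hda, P, t1, hMate, hNC, hcard, hK⟩ := hs a (Finset.mem_insert_self a s)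
    refine ⟨_, dsum (B a).mat M, Fin.append t1 t, _, ?_,
      Sq.link h4 hda P hMate (leftIn_univ _ _) hcard (fun v α β hv h1 h2 => absurd (hNC v α β h1 h2) hv) hM hSq,
      by rw [det_dsum]; exact mul_ne_zero hda hM, hsimp.imp_right ?_⟩
    · rw [Finset.insert_union, Finset.insert_eq]
      exact (simRep_singleton B a).union (Finset.disjoint_singleton_left.mpr (by
        rw [Finset.mem_union, not_or]; exact ⟨ha, hdisj.1⟩)) hR
    · rintro ⟨i, hi, hiK⟩
      refine ⟨Fin.natAdd _ i, fun j hj => ?_, by rwa [Fin.append_right]⟩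
      rw [Fin.append_right] at hj
      induction j using Fin.addCases with
      | left j => rw [Fin.append_left] at hj; exact absurd (hj ▸ hK j) hiK
      | right j => rw [Fin.append_right] at hj; rw [hi j hj]

theorem exists_ne_three (h4 : 4 ≤ Fintype.card F) (a b c : F) : ∃ s, s ≠ a ∧ s ≠ b ∧ s ≠ c := by
  classical
  have := avoid_notMem h4 (S := ({a, b, c} : Finset F)) Finset.card_le_three
  simp only [Finset.mem_insert, Finset.mem_singleton, not_or] at this
  exact ⟨_, this⟩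

/-- Blocks of size at least two have top mates with arbitrary values. -/
theorem top_free (h4 : 4 ≤ Fintype.card F) (A : Blk F) (hone : OneRoot A.mat) (hm : 1 ≤ A.m)
    (hd0 : A.mat.det ≠ 0) : Top ⊤ A.mat :=
  top_of_block h4 A hone hm hd0 ⊤ (InSub.top hd0) fun _ => by
    obtain ⟨s, h0, h1, h2⟩ := exists_ne_three h4 0 A.mat.det (-A.mat.det)
    exact ⟨s, InSub.top h0, h1, Or.inr h2⟩

/-- A set of blocks of size at least two has mates. -/
theorem exists_sq_blocks (h4 : 4 ≤ Fintype.card F) {B : Fin N → Blk F} {s : Finset (Fin N)}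
    (hne : s.Nonempty) (hB : ∀ i ∈ s, OneRoot (B i).mat ∧ 1 ≤ (B i).m ∧ (B i).mat.det ≠ 0) :
    ∃ (m : ℕ) (M : Matrix (Fin m) (Fin m) F) (t : Fin m → F) (L : Set (F × F)),
      SimRep B s M ∧ Sq ⊤ L M t ∧ M.det ≠ 0 := by
  classical
  obtain ⟨a, ha⟩ := hne
  obtain ⟨P, t1, hM, -, -, -⟩ := top_free h4 (B a) (hB a ha).1 (hB a ha).2.1 (hB a ha).2.2
  obtain ⟨m, M, t, L, h1, h2, h3, -⟩ := exists_stack h4 (G := ⊤) (K := ⊤) (simRep_singleton B a)
    (L₀ := Set.univ) (t₀ := t1) (fun r => ⟨P, Subgroup.mem_top _, hM, leftIn_univ _ _⟩) (hB a ha).2.2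
    (Or.inl rfl) (s.erase a) (Finset.disjoint_singleton_right.mpr (Finset.notMem_erase a s)) fun i hi =>
      have h := hB i (Finset.mem_of_mem_erase hi)
      ⟨h.2.2, top_free h4 (B i) h.1 h.2.1 h.2.2⟩
  rw [Finset.union_comm, ← Finset.insert_eq, Finset.insert_erase ha] at h1
  exact ⟨m, M, t, L, h1, h2, h3⟩

/-- A matrix without one-dimensional blocks has mates in every class of the centraliser determinants. -/
theorem exists_sq_centDet (h4 : 4 ≤ Fintype.card F) (hn : 4 ≤ n) {x : Matrix (Fin n) (Fin n) F}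
    (hx0 : x.det ≠ 0) {B : Fin N → Blk F} (hrep : SimRep B Finset.univ x)
    (hB : ∀ i, OneRoot (B i).mat ∧ 1 ≤ (B i).m ∧ (B i).mat.det ≠ 0) :
    ∃ (t : Fin n → F), Sq (centDet x) Set.univ x t ∧
      (centDet x = ⊤ ∨ ∃ i, ∀ j, t j = t i → j = i) := by
  classical
  have fin : ∀ (G : Subgroup Fˣ) {m : ℕ} (M : Matrix (Fin m) (Fin m) F) (t : Fin m → F) (L : Set (F × F)),
      SimRep B Finset.univ M → Sq G L M t → (G = ⊤ ∨ ∃ i, ∀ j, t j = t i → j = i) →
      ∃ t : Fin n → F, Sq G Set.univ x t ∧ (G = ⊤ ∨ ∃ i, ∀ j, t j = t i → j = i) := by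
    intro G m M t L hR hS hi
    obtain rfl : m = n := by
      have h1 := hR.sizes
      rwa [← hrep.sizes, Fintype.card_fin, Fintype.card_fin] at h1
    exact ⟨t, hS.sim (hR.sim hrep), hi⟩
  haveI : Nonempty (Fin N) := by
    by_contra h
    rw [not_nonempty_iff] at h
    have := hrep.sizes
    rw [Fintype.card_fin, Finset.sum_of_isEmpty] at this
    omega
  by_cases hG : centDet x = ⊤
  · obtain ⟨m, M, t, L, h1, h2, -⟩ := exists_sq_blocks h4 Finset.univ_nonempty fun i _ => hB i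
    rw [hG]
    exact fin ⊤ M t L h1 h2 (Or.inl rfl)
  set G := centDet x with hGdef
  have hδ : ∀ i, InSub G (B i).mat.det := fun i =>
    ⟨Units.mk0 _ (hB i).2.2, hrep.centDet_le i (det_mem_centDet _), rfl⟩
  have hsmall : ∀ i, (B i).m = 1 → (∀ u : Fˣ, u ^ 2 ∈ G) ∧ ∃ l, (B i).mat.charpoly.eval l = 0 := by
    intro i hi
    have hle := hrep.centDet_le i
    generalize hA : B i = A at hi hle
    obtain ⟨m, z, hc⟩ := A
    simp only at hi
    subst hi
    refine ⟨fun u => hle (by simpa using pow_card_mem_centDet (x := z) u), ?_⟩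
    by_contra hroot
    push Not at hroot
    refine hG (eq_top_iff.2 ?_)
    rw [← centDet_irred z hroot]
    exact hle
  have htop : ∀ i, Top G (B i).mat := fun i => top_of_block h4 (B i) (hB i).1 (hB i).2.1 (hB i).2.2 G (hδ i)
    fun hi => by
      obtain ⟨hsq, hroot⟩ := hsmall i hi
      rcases eq_or_ne (B i).mat.det 1 with h1 | h1
      · obtain ⟨c, hc0, hc1, hcm⟩ := exists_ne_three h4 0 1 (-1)
        refine ⟨c ^ 2, ⟨Units.mk0 c hc0 ^ 2, hsq _, by simp⟩, fun e => ?_, Or.inl hroot⟩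
        rw [h1, sq_eq_one_iff] at e
        exact e.elim hc1 hcm
      · exact ⟨1, InSub.one G, h1.symm, Or.inl hroot⟩
  have stack : ∀ (s₀ : Finset (Fin N)) {m₀ : ℕ} (M₀ : Matrix (Fin m₀) (Fin m₀) F) (t₀ : Fin m₀ → F)
      (L₀ : Set (F × F)), SimRep B s₀ M₀ → Sq G L₀ M₀ t₀ → M₀.det ≠ 0 →
      (∃ i, (∀ j, t₀ j = t₀ i → j = i) ∧ ¬ InSub G (t₀ i)) →
      ∃ t : Fin n → F, Sq G Set.univ x t ∧ (G = ⊤ ∨ ∃ i, ∀ j, t j = t i → j = i) := by
    intro s₀ m₀ M₀ t₀ L₀ h0 hS hd hi
    obtain ⟨m, M, t, L, h1, h2, -, h3⟩ := exists_stack h4 h0 hS hd (Or.inr hi) (Finset.univ \ s₀)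
      Finset.sdiff_disjoint fun i _ => ⟨(hB i).2.2, htop i⟩
    rw [Finset.sdiff_union_of_subset (Finset.subset_univ _)] at h1
    exact fin G M t L h1 h2 (h3.imp_right fun ⟨i, h, _⟩ => ⟨i, h⟩)
  by_cases hbig : ∃ i, 2 ≤ (B i).m
  · obtain ⟨i₀, hi₀⟩ := hbig
    obtain ⟨hone, -, hd0⟩ := hB i₀
    have hδ0 := hδ i₀
    have hR := simRep_singleton B i₀
    generalize B i₀ = A at hi₀ hone hd0 hδ0 hR
    obtain ⟨m, z, hc⟩ := A
    simp only at hi₀ hone hd0 hδ0 hR
    obtain ⟨k, rfl⟩ : ∃ k, m = k + 2 := ⟨m - 2, by omega⟩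
    change Matrix (Fin (k + 3)) (Fin (k + 3)) F at z
    change IsCyc (m := k + 3) z at hc
    obtain ⟨a, haG, haδ⟩ := exists_notMem_ne h4 hG (-z.det)
    have ha : ¬ InSub G (a : F) := fun ⟨u, hu, e⟩ => haG (Units.ext e ▸ hu)
    set τ := z.det ^ 2 with hτdef
    have hτ : InSub G τ := by rw [hτdef, sq]; exact hδ0.mul hδ0
    have hb : ¬ InSub G (τ / a) := fun h => ha (by
      have := hτ.div h
      rwa [div_div_cancel₀ hτ.ne_zero] at this)
    have hab : (a : F) ≠ τ / a := fun e => by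
      rw [eq_div_iff a.ne_zero, hτdef] at e
      have : ((a : F) - z.det) * (a + z.det) = 0 := by linear_combination e
      rcases mul_eq_zero.mp this with h | h
      exacts [ha (sub_eq_zero.mp h ▸ hδ0), haδ (eq_neg_of_add_eq_zero_left h)]
    set t : Fin (k + 3) → F := fun i => if i.val = 0 then (a : F) else if i.val = 1 then τ / a else 1
    have hta : ∀ i, t i = a → i.val = 0 := fun i hi => by
      simp only [t] at hi
      split_ifs at hi with h1 h2
      exacts [h1, absurd hi.symm hab, absurd (InSub.one G) (hi ▸ ha)]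
    have htb : ∀ i, t i = τ / a → i.val = 1 := fun i hi => by
      simp only [t] at hi
      split_ifs at hi with h1 h2
      exacts [absurd hi hab, h2, absurd (InSub.one G) (hi ▸ hb)]
    have hg : Grouped t := by
      intro i j hij e h
      have hij' : i.val < j.val := hij
      rcases lt_trichotomy i.val 1 with h1 | h1 | h1
      · have := hta j (by rw [← e]; simp only [t]; rw [if_pos (by omega)])
        omega
      · have := htb j (by rw [← e]; simp only [t]; rw [if_neg (by omega), if_pos h1])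
        omega
      · simp only [t]
        rw [if_neg (Nat.succ_ne_zero _), if_neg (by omega), if_neg (by omega), if_neg (by omega)]
    have ht0 : ∀ i, t i ≠ 0 := fun i => by
      simp only [t]
      split_ifs
      exacts [a.ne_zero, div_ne_zero hτ.ne_zero a.ne_zero, one_ne_zero]
    have hprod : ∏ i, t i = z.det ^ 2 := by
      rw [Fin.prod_univ_succ, Fin.prod_univ_succ]
      simp [t, mul_div_cancel₀, a.ne_zero, hτdef]
    obtain ⟨r₀, hpair⟩ := block_pair h4 z hc hd0 hone t ht0 hg hprod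
    refine stack {i₀} z t Set.univ hR (fun r => ?_) hd0 ⟨0, fun j hj => Fin.ext (hta j hj), ha⟩
    obtain ⟨P, hP, hM, -⟩ := hpair r⁻¹ (Or.inr ⟨fun e => hab e, fun e => hb (by
      have : t 1 = τ / a := by simp [t]
      rw [this] at e
      have h2 : ((2 : Fin (k + 3)) : ℕ) = 2 := Nat.mod_eq_of_lt (show 2 < k + 3 by omega)
      have : t 2 = 1 := by simp only [t]; rw [if_neg (by omega), if_neg (by omega)]
      rw [e, this]
      exact InSub.one G)⟩)
    exact ⟨P, by rw [hP, mul_inv_cancel]; exact one_mem G, hM, leftIn_univ _ _⟩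
  · -- all blocks have size two
    push Not at hbig
    have hm1 : ∀ i, (B i).m = 1 := fun i => by have := hbig i; have := (hB i).2.1; omega
    obtain ⟨i₀⟩ := ‹Nonempty (Fin N)›
    obtain ⟨i₁, hne⟩ : ∃ i₁, i₁ ≠ i₀ := by
      by_contra hc
      push Not at hc
      have h1 := hrep.sizes
      rw [Fintype.card_fin, show (Finset.univ : Finset (Fin N)) = {i₀} from
        Finset.eq_singleton_iff_unique_mem.2 ⟨Finset.mem_univ _, fun i _ => hc i⟩, Finset.sum_singleton,
        hm1] at h1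
      omega
    obtain ⟨hsq, κ, hκ⟩ := hsmall i₀ (hm1 i₀)
    obtain ⟨-, hroot1⟩ := hsmall i₁ (hm1 i₁)
    have hR := (simRep_singleton B i₁).union
      (Finset.disjoint_singleton.mpr hne) (simRep_singleton B i₀)
    have hδ0 := hδ i₀
    have hδ1 := hδ i₁
    obtain ⟨hone0, -, hd0⟩ := hB i₀
    obtain ⟨hone1, -, hd1⟩ := hB i₁
    have hm0' := hm1 i₀
    have hm1' := hm1 i₁
    generalize B i₀ = A0 at hκ hR hδ0 hone0 hd0 hm0'
    generalize B i₁ = A1 at hroot1 hR hδ1 hone1 hd1 hm1'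
    obtain ⟨m0, z0, hc0⟩ := A0
    obtain ⟨m1, z1, hc1⟩ := A1
    simp only at hm0' hm1'
    subst hm0' hm1'
    simp only at hκ hR hδ0 hone0 hd0 hroot1 hδ1 hone1 hd1
    obtain ⟨a, haG, haδ⟩ := exists_notMem_ne h4 hG (-z1.det)
    have ha : ¬ InSub G (a : F) := fun ⟨u, hu, e⟩ => haG (Units.ext e ▸ hu)
    obtain ⟨hD0, hfree⟩ := j2_mate h4 z0 hc0 hone0 hd0 hκ
    obtain ⟨P1, hM1, hNC⟩ := gl2_mate h4 z1 (IsCyc.ne_scalar le_rfl hc1) hd1 (a : F) a.ne_zero (Or.inl hroot1)
    have hNC' := hNC fun p q hp hq => by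
      obtain rfl := hone1 p q hp hq
      have hpp : p * p = z1.det := by
        obtain ⟨l, hl⟩ := hroot1
        have := (j2_mate h4 z1 hc1 hone1 hd1 hp).1
        rw [this, sq]
      rw [hpp]
      refine ⟨fun e => ha (e ▸ hδ1), fun e => ?_⟩
      rw [eq_div_iff a.ne_zero, sq] at e
      exact ha (mul_left_cancel₀ hd1 e ▸ hδ1)
    have hSq0 : Sq G Set.univ z0 ![κ ^ 2, κ ^ 2] := fun r => by
      obtain ⟨P, hP, hM⟩ := hfree G hsq r
      exact ⟨P, hP, hM, leftIn_univ _ _⟩
    refine stack _ _ _ _ hR (Sq.link h4 hd1 P1 hM1 (leftIn_univ _ _)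
      ⟨{(a : F), z1.det ^ 2 / a}, Finset.card_le_two.trans (by norm_num), fun i => by fin_cases i <;> simp⟩
      (fun v α β hv h1 h2 => absurd (hNC' v α β h1 h2) hv) hd0 hSq0)
      (by rw [det_dsum]; exact mul_ne_zero hd1 hd0) ⟨Fin.castAdd 2 0, fun j hj => ?_, ?_⟩
    · rw [Fin.append_left] at hj
      induction j using Fin.addCases with
      | left j =>
        rw [Fin.append_left] at hj
        fin_cases j
        · rfl
        · exfalso
          simp at hj
          rw [div_eq_iff a.ne_zero] at hj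
          have : ((a : F) - z1.det) * (a + z1.det) = 0 := by linear_combination -hj
          rcases mul_eq_zero.mp this with h | h
          exacts [ha (sub_eq_zero.mp h ▸ hδ1), haδ (eq_neg_of_add_eq_zero_left h)]
      | right j =>
        rw [Fin.append_right] at hj
        refine absurd ?_ ha
        have : (![κ ^ 2, κ ^ 2] : Fin 2 → F) j = κ ^ 2 := by fin_cases j <;> rfl
        rw [this] at hj
        simp at hj
        rw [← hj, ← hD0]
        exact hδ0
    · rw [Fin.append_left]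
      exact ha

end CfsgLib.CoverPSL
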