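import Cfsg.Agent.CoverPSL.Four

/-!
# The step along an eigenline

`CovNC Λ x k g` is a product of `k` conjugates without common left eigenvector for an eigenvalue in `Λ`.
Such products lift to one more dimension with one more factor.
-/

set_option autoImplicit false

namespace CfsgLib.CoverPSL

open Matrix Polynomial CfsgLib.OreSL CfsgLib.Sourour

variable {F : Type*} [Field F] {m n : ℕ}

/-- The matrices of `ys` have no common left eigenvector with eigenvalue in `Λ`. -/
def NoLeft (Λ : Set F) (ys : List (Matrix (Fin n) (Fin n) F)) : Prop :=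
  ∀ l ∈ Λ, ∀ ψ : Fin n → F, (∀ y ∈ ys, ψ ᵥ* y = l • ψ) → ψ = 0

/-- `g` is a product of `k` conjugates of `x` without common left eigenvector. -/
def CovNC (Λ : Set F) (x : Matrix (Fin n) (Fin n) F) (k : ℕ) (g : Matrix (Fin n) (Fin n) F) : Prop :=
  ∃ ys : List (Matrix (Fin n) (Fin n) F), ys.length = k ∧ (∀ y ∈ ys, SimIn ⊤ x y) ∧ ys.prod = g ∧ NoLeft Λ ys

theorem cov_of_list {x : Matrix (Fin n) (Fin n) F} :
    ∀ ys : List (Matrix (Fin n) (Fin n) F), (∀ y ∈ ys, SimIn ⊤ x y) → Cov ⊤ x ys.length ys.prod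
  | [], _ => cov_zero
  | y :: ys, h => by
    rw [List.prod_cons, List.length_cons]
    exact (cov_of_list ys fun z hz => h z (List.mem_cons_of_mem _ hz)).cons (h y List.mem_cons_self)

theorem CovNC.cov {Λ : Set F} {x g : Matrix (Fin n) (Fin n) F} {k : ℕ} (h : CovNC Λ x k g) :
    Cov ⊤ x k g := by
  obtain ⟨ys, rfl, hs, rfl, -⟩ := h
  exact cov_of_list ys hs

theorem CovNC.mono {Λ Λ' : Set F} {x g : Matrix (Fin n) (Fin n) F} {k : ℕ} (hΛ : Λ' ⊆ Λ)
    (h : CovNC Λ x k g) : CovNC Λ' x k g := by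
  obtain ⟨ys, h1, h2, h3, h4⟩ := h
  exact ⟨ys, h1, h2, h3, fun l hl => h4 l (hΛ hl)⟩

theorem CovNC.base {Λ : Set F} {x x' g : Matrix (Fin n) (Fin n) F} {k : ℕ} (h : CovNC Λ x k g)
    (hs : Sim x' x) : CovNC Λ x' k g := by
  obtain ⟨ys, h1, h2, h3, h4⟩ := h
  exact ⟨ys, h1, fun y hy => (simIn_top_iff.2 hs).trans (h2 y hy), h3, h4⟩

/-- One more factor keeps the invariant. -/
theorem CovNC.cons {Λ : Set F} {x y g : Matrix (Fin n) (Fin n) F} {k : ℕ} (hy : SimIn ⊤ x y)
    (h : CovNC Λ x k g) : CovNC Λ x (k + 1) (y * g) := by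
  obtain ⟨ys, rfl, hs, rfl, hn⟩ := h
  refine ⟨y :: ys, rfl, ?_, List.prod_cons, fun l hl ψ hψ => hn l hl ψ fun z hz => hψ z (List.mem_cons_of_mem _ hz)⟩
  rintro z hz
  rcases List.mem_cons.mp hz with rfl | hz
  exacts [hy, hs z hz]

theorem blk_one : blk (1 : F) 0 0 (1 : Matrix (Fin m) (Fin m) F) = 1 := by
  ext i j
  refine Fin.cases ?_ (fun i => ?_) i <;> refine Fin.cases ?_ (fun j => ?_) j <;>
    simp [one_apply, eq_comm]

/-- A lower block with a coupling in the image. -/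
theorem simIn_blk (l : F) {x y : Matrix (Fin m) (Fin m) F} (h : SimIn ⊤ x y) (w : Fin m → F) :
    SimIn ⊤ (blk l 0 0 x) (blk l 0 ((y - l • 1) *ᵥ w) y) := by
  obtain ⟨P, -, e⟩ := h
  have hP : (P : Matrix (Fin m) (Fin m) F).det ≠ 0 := ((Matrix.isUnit_iff_isUnit_det _).mp P.isUnit).ne_zero
  refine simIn_top_iff.2 ⟨blk 1 0 (-w) (P : Matrix (Fin m) (Fin m) F), by rwa [det_blk_lower, one_mul], ?_⟩
  rw [blk_mul, blk_mul]
  simp only [zero_vecMul, mul_one, one_mul, smul_zero, add_zero, zero_dotProduct, mulVec_zero,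
    vecMulVec_zero, zero_add, one_smul, dotProduct_zero, e]
  congr 1
  rw [mulVec_neg, sub_mulVec, smul_mulVec, one_mulVec]
  module

/-- Couplings reach everything orthogonal to the common eigenvectors. -/
theorem exists_lift {l : F} (hl0 : l ≠ 0) {x : Matrix (Fin m) (Fin m) F} (ys : List (Matrix (Fin m) (Fin m) F))
    (hys : ∀ y ∈ ys, SimIn ⊤ x y) :
    ∃ W : Submodule F (Fin m → F), (∀ ψ : Fin m → F, (∀ r ∈ W, ψ ⬝ᵥ r = 0) → ∀ y ∈ ys, ψ ᵥ* y = l • ψ) ∧
      ∀ r ∈ W, ∃ zs : List (Matrix (Fin (m + 1)) (Fin (m + 1)) F), zs.length = ys.length ∧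
        (∀ z ∈ zs, SimIn ⊤ (blk l 0 0 x) z) ∧ zs.prod = blk (l ^ ys.length) 0 r ys.prod ∧
        ∀ y ∈ ys, ∃ z ∈ zs, ∃ u, z = blk l 0 u y := by
  induction ys with
  | nil =>
    refine ⟨⊥, fun ψ _ y hy => by simp at hy, fun r hr => ⟨[], rfl, by simp, ?_, by simp⟩⟩
    rw [Submodule.mem_bot] at hr
    simp [hr, blk_one]
  | cons y ys ih =>
    obtain ⟨W, hW, hlift⟩ := ih fun z hz => hys z (List.mem_cons_of_mem _ hz)
    set c := l ^ ys.length
    have hl : c ≠ 0 := pow_ne_zero _ hl0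
    refine ⟨LinearMap.range (y - l • 1).mulVecLin ⊔ W.map y.mulVecLin, fun ψ hψ => ?_, fun r hr => ?_⟩
    · have h1 : ψ ᵥ* y = l • ψ := by
        rw [← sub_eq_zero]
        funext i
        have := hψ ((y - l • 1) *ᵥ Pi.single i 1) (Submodule.mem_sup_left ⟨_, rfl⟩)
        rw [dotProduct_mulVec, vecMul_sub, vecMul_smul, vecMul_one] at this
        simpa using this
      intro z hz
      rcases List.mem_cons.mp hz with rfl | hz
      · exact h1
      refine hW ψ (fun r hr => ?_) z hz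
      have := hψ (y *ᵥ r) (Submodule.mem_sup_right ⟨r, hr, rfl⟩)
      rw [dotProduct_mulVec, h1, smul_dotProduct, smul_eq_mul, mul_eq_zero] at this
      exact this.resolve_left hl0
    · obtain ⟨p, ⟨w, rfl⟩, q, ⟨r', hr', rfl⟩, rfl⟩ := Submodule.mem_sup.mp hr
      obtain ⟨zs, hlen, hsim, hprod, hmem⟩ := hlift r' hr'
      refine ⟨blk l 0 ((y - l • 1) *ᵥ (c⁻¹ • w)) y :: zs, by simp [hlen], ?_, ?_, ?_⟩
      · intro z hz
        rcases List.mem_cons.mp hz with rfl | hz
        exacts [simIn_blk l (hys y List.mem_cons_self) _, hsim z hz]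
      · rw [List.prod_cons, hprod, blk_mul, List.prod_cons, List.length_cons, pow_succ']
        simp only [zero_vecMul, zero_dotProduct, smul_zero, add_zero, vecMulVec_zero, zero_add,
          mulVec_smul, smul_inv_smul₀ hl]
        rfl
      · intro y' hy'
        rcases List.mem_cons.mp hy' with rfl | hy'
        · exact ⟨_, List.mem_cons_self, _, rfl⟩
        · obtain ⟨z, hz, u, hu⟩ := hmem y' hy'
          exact ⟨z, List.mem_cons_of_mem _ hz, u, hu⟩

variable [Fintype F]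

/-- An invertible matrix carrying one independent family to another. -/
theorem exists_rows {p : ℕ} {u v : Fin p → Fin n → F} (hu : LinearIndependent F u)
    (hv : LinearIndependent F v) : ∃ Q : GL (Fin n) F, ∀ i, u i ᵥ* (Q : Matrix (Fin n) (Fin n) F) = v i := by
  classical
  let b1 := Module.Basis.sumExtend hu
  let b2 := Module.Basis.sumExtend hv
  haveI := Fintype.ofFinite (Module.Basis.sumExtendIndex hu)
  haveI := Fintype.ofFinite (Module.Basis.sumExtendIndex hv)
  have hc1 := Module.finrank_eq_card_basis b1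
  have hc2 := Module.finrank_eq_card_basis b2
  rw [Module.finrank_fin_fun, Fintype.card_sum, Fintype.card_fin] at hc1 hc2
  let e := Fintype.equivOfCardEq (α := Module.Basis.sumExtendIndex hu) (β := Module.Basis.sumExtendIndex hv) (by omega)
  let φ := b1.equiv b2 (Equiv.sumCongr (Equiv.refl _) e)
  set Q := (LinearMap.toMatrix' φ.toLinearMap)ᵀ with hQ
  have hQd : Q.det ≠ 0 := by
    rw [hQ, det_transpose, LinearMap.det_toMatrix']
    exact (LinearEquiv.isUnit_det' φ).ne_zero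
  refine ⟨GeneralLinearGroup.mkOfDetNeZero Q hQd, fun i => ?_⟩
  show u i ᵥ* Q = v i
  rw [hQ, vecMul_transpose, ← Matrix.toLin'_apply, Matrix.toLin'_toMatrix', LinearEquiv.coe_coe]
  have e1 : b1 (Sum.inl i) = u i := by
    simp [b1, Module.Basis.sumExtend]
    rfl
  have e2 : b2 (Sum.inl i) = v i := by
    simp [b2, Module.Basis.sumExtend]
    rfl
  rw [← e1, ← e2]
  simp [φ]

omit [Fintype F] in
theorem rank_transpose_sub (x : Matrix (Fin n) (Fin n) F) (μ : F) : (xᵀ - μ • 1).rank = (x - μ • 1).rank := by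
  rw [← Matrix.rank_transpose (x - μ • 1), transpose_sub, transpose_smul, transpose_one]

omit [Fintype F] in
theorem indep_four {a b w1 w2 : Fin n → F} (hab : LinearIndependent F ![a, b])
    (h1 : w1 ∉ Submodule.span F ({a, b} : Set (Fin n → F)))
    (h2 : w2 ∉ Submodule.span F ({a, b, w1} : Set (Fin n → F))) :
    LinearIndependent F ![a, w1, b, w2] := by
  rw [Fintype.linearIndependent_iff]
  intro c hc
  simp only [Fin.sum_univ_four, Matrix.cons_val_zero, Matrix.cons_val_one, Matrix.cons_val] at hc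
  have c3 : c 3 = 0 := by
    by_contra h
    refine h2 ?_
    have e : w2 = (c 3)⁻¹ • -(c 0 • a + c 1 • w1 + c 2 • b) := by
      rw [eq_inv_smul_iff₀ h]
      linear_combination (norm := module) hc
    rw [e]
    exact Submodule.smul_mem _ _ (neg_mem (add_mem (add_mem
      (Submodule.smul_mem _ _ (Submodule.subset_span (by simp))) (Submodule.smul_mem _ _ (Submodule.subset_span (by simp))))
      (Submodule.smul_mem _ _ (Submodule.subset_span (by simp)))))
  rw [c3, zero_smul, add_zero] at hc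
  have c1 : c 1 = 0 := by
    by_contra h
    refine h1 ?_
    have e : w1 = (c 1)⁻¹ • -(c 0 • a + c 2 • b) := by
      rw [eq_inv_smul_iff₀ h]
      linear_combination (norm := module) hc
    rw [e]
    exact Submodule.smul_mem _ _ (neg_mem (add_mem
      (Submodule.smul_mem _ _ (Submodule.subset_span (by simp))) (Submodule.smul_mem _ _ (Submodule.subset_span (by simp)))))
  rw [c1, zero_smul, add_zero] at hc
  have := Fintype.linearIndependent_iff.mp hab ![c 0, c 2] (by simpa [Fin.sum_univ_two] using hc)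
  intro i
  fin_cases i
  exacts [this 0, c1, this 1, c3]

/-- The first factor. -/
theorem exists_first (h4 : 4 ≤ Fintype.card F) (hn : 5 ≤ n) {X g : Matrix (Fin n) (Fin n) F} (hw : Wide X) (hX0 : X.det ≠ 0)
    (hg : ∀ c : F, g ≠ c • 1) (hg0 : g.det ≠ 0) {c : F} (hc : c ≠ 0) :
    ∃ (y h : Matrix (Fin n) (Fin n) F) (e : Fin n → F), SimIn ⊤ X y ∧ g = y * h ∧ e ≠ 0 ∧ e ᵥ* h = c • e ∧
      (∀ (σ : F) (a : Fin n → F), h ≠ σ • 1 + vecMulVec a e) ∧ ∀ l : F, e ᵥ* y ≠ l • e := by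
  classical
  have hwT : Wide Xᵀ := fun μ => by rw [rank_transpose_sub]; exact hw μ
  obtain ⟨u1, u2, hli⟩ := exists_pair h4 hn hwT
  rw [mulVec_transpose, mulVec_transpose] at hli
  -- a covector which is not an eigenvector
  obtain ⟨ω, hω⟩ : ∃ ω : Fin n → F, ∀ l : F, ω ᵥ* g ≠ l • ω := by
    by_contra hcon
    push Not at hcon
    haveI : Nonempty (Fin n) := ⟨⟨0, by omega⟩⟩
    obtain ⟨l, hl⟩ := hcon (Pi.single (Classical.arbitrary (Fin n)) 1)
    refine hg l (Matrix.ext fun i j => ?_)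
    obtain ⟨a, ha⟩ := hcon (Pi.single i 1)
    obtain ⟨b, hb⟩ := hcon (Pi.single i 1 + Pi.single (Classical.arbitrary (Fin n)) 1)
    set i0 := Classical.arbitrary (Fin n)
    have hai : a = l := by
      rcases eq_or_ne i i0 with rfl | hne
      · have := congrFun (ha.symm.trans hl) i0
        simpa using this
      · rw [add_vecMul, ha, hl, smul_add] at hb
        have h1 := congrFun hb i
        have h2 := congrFun hb i0
        simp [hne, hne.symm] at h1 h2
        rw [h1, h2]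
    have := congrFun ha j
    rw [hai] at this
    simpa [Pi.single_apply, one_apply, eq_comm] using this
  set g' : GL (Fin n) F := GeneralLinearGroup.mkOfDetNeZero g hg0
  set φ := c • (ω ᵥ* ((g'⁻¹ : GL (Fin n) F) : Matrix (Fin n) (Fin n) F)) with hφ
  have hφg : φ ᵥ* g = c • ω := by
    rw [hφ, smul_vecMul, vecMul_vecMul, show g = (g' : Matrix (Fin n) (Fin n) F) from rfl, Units.inv_mul,
      vecMul_one]
  have hω0 : ω ≠ 0 := fun e => hω 0 (by simp [e])
  have hφω : LinearIndependent F ![φ, ω] := by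
    rw [LinearIndependent.pair_iff]
    intro s t hst
    rcases eq_or_ne s 0 with rfl | hs
    · rw [zero_smul, zero_add, smul_eq_zero] at hst
      exact ⟨rfl, hst.resolve_right hω0⟩
    · exfalso
      have e := congrArg (fun v => v ᵥ* g) hst
      simp only [add_vecMul, smul_vecMul, hφg, zero_vecMul, smul_smul] at e
      rcases eq_or_ne t 0 with rfl | ht
      · rw [zero_smul, add_zero, smul_eq_zero] at e
        exact e.elim (mul_ne_zero hs hc) hω0
      · refine hω (-(s * c) / t) ?_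
        rw [div_eq_inv_mul, mul_smul, eq_inv_smul_iff₀ ht, neg_smul]
        exact eq_neg_of_add_eq_zero_right e
  obtain ⟨T, hT⟩ : ∃ T : Finset F, T.card = 4 :=
    (Finset.exists_subset_card_eq (s := (Finset.univ : Finset F)) (n := 4) (by rw [Finset.card_univ]; omega)).imp
      fun _ h => h.2
  have hlt : ∀ S : Finset (Fin n → F), S.card ≤ 3 → Submodule.span F (S : Set (Fin n → F)) ≠ ⊤ := by
    intro S hS e
    have := finrank_span_finset_le_card (R := F) S
    rw [Set.finrank, e, finrank_top, Module.finrank_fin_fun] at this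
    omega
  obtain ⟨z, hz⟩ := exists_avoid [Submodule.span F ({φ, ω} : Set (Fin n → F))] T (by simp [hT]) (by
    simp only [List.mem_cons, List.not_mem_nil, or_false]
    rintro W rfl
    simpa using hlt {φ, ω} (Finset.card_le_two.trans (by norm_num)))
  obtain ⟨z', hz'⟩ := exists_avoid [Submodule.span F ({φ, ω, z} : Set (Fin n → F)),
      Submodule.span F ({ω, z ᵥ* g} : Set (Fin n → F))] T (by simp [hT]) (by
    simp only [List.mem_cons, List.not_mem_nil, or_false]
    rintro W (rfl | rfl)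
    · simpa using hlt {φ, ω, z} Finset.card_le_three
    · simpa using hlt {ω, z ᵥ* g} (Finset.card_le_two.trans (by norm_num)))
  simp only [List.mem_cons, List.not_mem_nil, or_false, forall_eq_or_imp, forall_eq] at hz hz'
  obtain ⟨Q, hQ⟩ := exists_rows hli (indep_four hφω hz hz'.1)
  set y := ((Q⁻¹ : GL (Fin n) F) : Matrix (Fin n) (Fin n) F) * X * (Q : Matrix (Fin n) (Fin n) F)
  have hy : SimIn ⊤ X y := by
    simpa only [inv_inv] using SimIn.conj Q⁻¹ (Subgroup.mem_top _) X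
  have hyy : ∀ u, (u ᵥ* (Q : Matrix (Fin n) (Fin n) F)) ᵥ* y = (u ᵥ* X) ᵥ* (Q : Matrix (Fin n) (Fin n) F) := fun u => by
    simp only [y, vecMul_vecMul, ← Matrix.mul_assoc, Units.mul_inv, Matrix.one_mul]
  have hy1 : φ ᵥ* y = ω := by
    rw [show φ = u1 ᵥ* (Q : Matrix (Fin n) (Fin n) F) from (hQ 0).symm, hyy]
    exact hQ 2
  have hy2 : z ᵥ* y = z' := by
    rw [show z = u2 ᵥ* (Q : Matrix (Fin n) (Fin n) F) from (hQ 1).symm, hyy]
    exact hQ 3
  have hy0 : y.det ≠ 0 := by rw [← hy.det_eq]; exact hX0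
  set y' : GL (Fin n) F := GeneralLinearGroup.mkOfDetNeZero y hy0
  set h := ((y'⁻¹ : GL (Fin n) F) : Matrix (Fin n) (Fin n) F) * g
  have hgy : g = y * h := by
    rw [← Matrix.mul_assoc, show y = (y' : Matrix (Fin n) (Fin n) F) from rfl, Units.mul_inv, Matrix.one_mul]
  refine ⟨y, h, ω, hy, hgy, hω0, ?_, fun σ a e => ?_, fun l e => ?_⟩
  · rw [← hy1, vecMul_vecMul, ← hgy, hφg, hy1]
  · have hσ : σ ≠ 0 := by
      rintro rfl
      rw [zero_smul, zero_add] at e
      refine hg0 ?_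
      rw [hgy, det_mul, e]
      refine mul_eq_zero_of_right _ ?_
      by_contra hd
      have h1 := Matrix.rank_of_isUnit (vecMulVec a ω) ((Matrix.isUnit_iff_isUnit_det _).mpr (isUnit_iff_ne_zero.2 hd))
      have h2 := Matrix.rank_vecMulVec_le a ω
      rw [Fintype.card_fin] at h1
      omega
    refine hz'.2 ?_
    have hzg : z ᵥ* g = σ • z' + (z' ⬝ᵥ a) • ω := by
      rw [hgy, ← vecMul_vecMul, hy2, e, vecMul_add, vecMul_smul, vecMul_one, vecMul_vecMulVec]
    rw [show z' = σ⁻¹ • (z ᵥ* g - (z' ⬝ᵥ a) • ω) by rw [hzg, add_sub_cancel_right, inv_smul_smul₀ hσ]]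
    exact Submodule.smul_mem _ _ (sub_mem (Submodule.subset_span (by simp))
      (Submodule.smul_mem _ _ (Submodule.subset_span (by simp))))
  · have h1 : (l • φ - ω) ᵥ* y = 0 := by rw [sub_vecMul, smul_vecMul, hy1, e, sub_self]
    by_contra _
    have h2 : l • φ - ω = 0 := by
      by_contra hne
      exact hy0 (Matrix.exists_vecMul_eq_zero_iff.mp ⟨_, hne, h1⟩)
    have := (LinearIndependent.pair_iff.mp hφω) l (-1) (by rw [neg_one_smul, ← sub_eq_add_neg, h2])
    exact (by simp : (-1 : F) ≠ 0) this.2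

/-- The step along an eigenline. -/
theorem covNC_step (h4 : 4 ≤ Fintype.card F) (hm : 4 ≤ m) {Λ : Set F} {x : Matrix (Fin m) (Fin m) F} {k : ℕ}
    (hk : 1 ≤ k) {l : F} (hl : l ∈ Λ) (hl0 : l ≠ 0) (hx0 : x.det ≠ 0) (hw : Wide (blk l 0 0 x))
    (ih : ∀ g : Matrix (Fin m) (Fin m) F, (∀ c : F, g ≠ c • 1) → g.det = x.det ^ k → CovNC Λ x k g)
    {g : Matrix (Fin (m + 1)) (Fin (m + 1)) F} (hg : ∀ c : F, g ≠ c • 1)
    (hdet : g.det = (blk l 0 0 x).det ^ (k + 1)) : CovNC Λ (blk l 0 0 x) (k + 1) g := by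
  classical
  have hX0 : (blk l 0 0 x).det ≠ 0 := by rw [det_blk_lower]; exact mul_ne_zero hl0 hx0
  obtain ⟨y, h, e, hy, hgy, he, heh, hns, hey⟩ :=
    exists_first h4 (by omega) hw hX0 hg (by rw [hdet]; exact pow_ne_zero _ hX0) (pow_ne_zero k hl0)
  -- a basis starting with `e`
  have hp : LinearIndependent F (![Pi.single (0 : Fin (m + 1)) 1] : Fin 1 → Fin (m + 1) → F) :=
    linearIndependent_unique_iff.mpr (by simp)
  obtain ⟨Q, hQ⟩ := exists_rows hp (v := ![e]) (linearIndependent_unique_iff.mpr (by simpa using he))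
  have hQe : Pi.single (0 : Fin (m + 1)) 1 ᵥ* (Q : Matrix (Fin (m + 1)) (Fin (m + 1)) F) = e := hQ 0
  set H := (Q : Matrix (Fin (m + 1)) (Fin (m + 1)) F) * h * ((Q⁻¹ : GL (Fin (m + 1)) F) : Matrix (Fin (m + 1)) (Fin (m + 1)) F)
    with hH
  set r : Fin m → F := fun i => H i.succ 0
  set g₁ : Matrix (Fin m) (Fin m) F := Matrix.of fun i j => H i.succ j.succ
  have hH0 : Pi.single (0 : Fin (m + 1)) 1 ᵥ* H = l ^ k • Pi.single (0 : Fin (m + 1)) 1 := by
    rw [hH, ← vecMul_vecMul, ← vecMul_vecMul, hQe, heh, smul_vecMul, ← hQe, vecMul_vecMul, Units.mul_inv,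
      vecMul_one]
  have hHb : H = blk (l ^ k) 0 r g₁ := by
    ext i j
    refine Fin.cases ?_ (fun i => Fin.cases rfl (fun j => rfl) j) i
    · have := congrFun hH0 j
      rw [single_one_vecMul, Matrix.row_apply] at this
      rw [this]
      refine Fin.cases ?_ (fun j => ?_) j <;> simp
  have hg₁ : ∀ c : F, g₁ ≠ c • 1 := by
    intro σ hσ
    set a' : Fin (m + 1) → F := Fin.cons (l ^ k - σ) r
    refine hns σ (((Q⁻¹ : GL (Fin (m + 1)) F) : Matrix (Fin (m + 1)) (Fin (m + 1)) F) *ᵥ a') ?_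
    have hH' : H = σ • 1 + vecMulVec a' (Pi.single 0 1) := by
      rw [hHb, hσ]
      ext i j
      refine Fin.cases ?_ (fun i => ?_) i <;> refine Fin.cases ?_ (fun j => ?_) j <;>
        simp [a', vecMulVec_apply, one_apply, eq_comm]
    have hh : h = ((Q⁻¹ : GL (Fin (m + 1)) F) : Matrix (Fin (m + 1)) (Fin (m + 1)) F) * H * (Q : Matrix (Fin (m + 1)) (Fin (m + 1)) F) := by
      rw [hH]
      simp only [Matrix.mul_assoc, Units.inv_mul, Matrix.mul_one]
      rw [← Matrix.mul_assoc, Units.inv_mul, Matrix.one_mul]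
    rw [hh, hH', Matrix.mul_add, Matrix.add_mul, Matrix.mul_smul, Matrix.smul_mul, Matrix.mul_one, Units.inv_mul,
      mul_vecMulVec, vecMulVec_mul, hQe]
  have hd : g₁.det = x.det ^ k := by
    have h1 := congrArg Matrix.det hgy
    have h2 : H.det = h.det := det_units_conj Q h
    rw [det_mul, ← h2, hHb, ← hy.det_eq, hdet, pow_succ'] at h1
    have h3 := (mul_left_cancel₀ hX0 h1).symm
    rw [det_blk_lower, det_blk_lower, mul_pow] at h3
    exact mul_left_cancel₀ (pow_ne_zero _ hl0) h3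
  obtain ⟨ys, hlen, hys, hprod, hNC⟩ := ih g₁ hg₁ hd
  obtain ⟨W, hW, hlift⟩ := exists_lift hl0 ys hys
  have hWtop : r ∈ W := by
    by_contra hr
    obtain ⟨f, hf, hf0⟩ := Submodule.exists_le_ker_of_notMem hr
    set ψ : Fin m → F := fun i => f (Pi.single i 1) with hψdef
    have hψ : ∀ v, ψ ⬝ᵥ v = f v := fun v => by
      conv_rhs => rw [pi_eq_sum_univ' v]
      simp [dotProduct, ψ, mul_comm]
    have hψ0 := hNC l hl ψ (hW ψ fun r hr => by rw [hψ]; exact hf0 hr)
    exact hf (by rw [← hψ, hψ0, zero_dotProduct])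
  obtain ⟨zs, hzlen, hzs, hzprod, hmem⟩ := hlift r hWtop
  set cj : Matrix (Fin (m + 1)) (Fin (m + 1)) F →* Matrix (Fin (m + 1)) (Fin (m + 1)) F :=
    { toFun := fun A => ((Q⁻¹ : GL (Fin (m + 1)) F) : Matrix (Fin (m + 1)) (Fin (m + 1)) F) * A * (Q : Matrix (Fin (m + 1)) (Fin (m + 1)) F)
      map_one' := by rw [Matrix.mul_one, Units.inv_mul]
      map_mul' := fun A B => by
        simp only [Matrix.mul_assoc]
        rw [← Matrix.mul_assoc (Q : Matrix (Fin (m + 1)) (Fin (m + 1)) F) ((Q⁻¹ : GL (Fin (m + 1)) F) : Matrix (Fin (m + 1)) (Fin (m + 1)) F),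
          Units.mul_inv, Matrix.one_mul] }
  refine ⟨y :: zs.map cj, by simp [hzlen, hlen], ?_, ?_, ?_⟩
  · intro z hz
    rcases List.mem_cons.mp hz with rfl | hz
    · exact hy
    · obtain ⟨w, hw', rfl⟩ := List.mem_map.mp hz
      exact (hzs w hw').trans (by simpa only [inv_inv, cj, MonoidHom.coe_mk, OneHom.coe_mk] using SimIn.conj Q⁻¹ (Subgroup.mem_top _) w)
  · rw [List.prod_cons, ← map_list_prod, hzprod, hlen, hprod, ← hHb, hgy]
    congr 1
    show _ * H * _ = h
    rw [hH]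
    simp only [Matrix.mul_assoc, Units.inv_mul, Matrix.mul_one]
    rw [← Matrix.mul_assoc, Units.inv_mul, Matrix.one_mul]
  · intro α hα ψ hψ
    set ψ' := ψ ᵥ* ((Q⁻¹ : GL (Fin (m + 1)) F) : Matrix (Fin (m + 1)) (Fin (m + 1)) F)
    have hz : ∀ z ∈ zs, ψ' ᵥ* z = α • ψ' := by
      intro z hz
      have := hψ (cj z) (List.mem_cons_of_mem _ (List.mem_map.mpr ⟨z, hz, rfl⟩))
      have := congrArg (fun v => v ᵥ* ((Q⁻¹ : GL (Fin (m + 1)) F) : Matrix (Fin (m + 1)) (Fin (m + 1)) F)) this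
      simpa only [ψ', cj, MonoidHom.coe_mk, OneHom.coe_mk, smul_vecMul, vecMul_vecMul, Matrix.mul_assoc,
        Units.mul_inv, Matrix.mul_one] using this
    set b : Fin m → F := fun i => ψ' i.succ
    have hb0 : b = 0 := by
      refine hNC α hα b fun y' hy' => ?_
      obtain ⟨z, hz', u, rfl⟩ := hmem y' hy'
      funext j
      have := congrFun (hz _ hz') j.succ
      simpa [vecMul, dotProduct, Fin.sum_univ_succ, b] using this
    have hψ' : ψ' = ψ' 0 • Pi.single 0 1 := by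
      funext i
      refine Fin.cases ?_ (fun i => ?_) i
      · simp
      · simpa [Pi.single_apply] using congrFun hb0 i
    have hψe : ψ = ψ' 0 • e := by
      rw [← hQe, ← smul_vecMul, ← hψ', vecMul_vecMul, Units.inv_mul, vecMul_one]
    rw [hψe]
    rcases eq_or_ne (ψ' 0) 0 with h0 | h0
    · rw [h0, zero_smul]
    · have := hψ y List.mem_cons_self
      rw [hψe, smul_vecMul, smul_comm] at this
      exact absurd (smul_right_injective _ h0 this) (hey α)

/-- A conjugate avoiding one line. -/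
theorem exists_conj_ne_smul (hn : 2 ≤ n) {x : Matrix (Fin n) (Fin n) F} (hx : ∀ c : F, x ≠ c • 1)
    (h4 : 4 ≤ Fintype.card F) : ∃ y, SimIn ⊤ x y ∧ ∀ c : F, y ≠ c • x := by
  classical
  obtain ⟨v, hv⟩ : ∃ v : Fin n → F, ∀ l : F, x *ᵥ v ≠ l • v := by
    by_contra hcon
    push Not at hcon
    set i0 : Fin n := ⟨0, by omega⟩
    obtain ⟨l, hl⟩ := hcon (Pi.single i0 1)
    refine hx l (Matrix.ext fun i j => ?_)
    obtain ⟨a, ha⟩ := hcon (Pi.single j 1)
    have hal : a = l := by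
      rcases eq_or_ne j i0 with rfl | hne
      · simpa using congrFun (ha.symm.trans hl) i0
      · obtain ⟨b, hb⟩ := hcon (Pi.single j 1 + Pi.single i0 1)
        rw [mulVec_add, ha, hl, smul_add] at hb
        have h1 := congrFun hb j
        have h2 := congrFun hb i0
        simp [hne, hne.symm] at h1 h2
        rw [h1, h2]
    have := congrFun ha i
    rw [hal] at this
    simpa [Pi.single_apply, one_apply, eq_comm] using this
  have hv0 : v ≠ 0 := fun e => hv 0 (by simp [e])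
  have hli : LinearIndependent F ![x *ᵥ v, v] := by
    rw [LinearIndependent.pair_iff]
    intro s t hst
    rcases eq_or_ne s 0 with rfl | hs
    · rw [zero_smul, zero_add, smul_eq_zero] at hst
      exact ⟨rfl, hst.resolve_right hv0⟩
    · refine absurd ?_ (hv (-t / s))
      rw [div_eq_inv_mul, mul_smul, eq_inv_smul_iff₀ hs, neg_smul]
      exact eq_neg_of_add_eq_zero_left hst
  have hli' : LinearIndependent F ![x *ᵥ v + v, v] := by
    rw [LinearIndependent.pair_iff]
    intro s t hst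
    obtain ⟨h1, h2⟩ := LinearIndependent.pair_iff.mp hli s (s + t) (by
      rw [← hst]; module)
    exact ⟨h1, by rwa [h1, zero_add] at h2⟩
  obtain ⟨Q, hQ⟩ := exists_rows hli hli'
  -- work with the transpose
  refine ⟨((Q : Matrix (Fin n) (Fin n) F)ᵀ) * x * (((Q⁻¹ : GL (Fin n) F) : Matrix (Fin n) (Fin n) F))ᵀ, ?_,
    fun c e => ?_⟩
  · refine simIn_top_iff.2 ⟨(Q : Matrix (Fin n) (Fin n) F)ᵀ, ?_, ?_⟩
    · rw [det_transpose]
      exact ((Matrix.isUnit_iff_isUnit_det _).mp Q.isUnit).ne_zero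
    · rw [Matrix.mul_assoc _ _ (Q : Matrix (Fin n) (Fin n) F)ᵀ, ← transpose_mul, Units.mul_inv, transpose_one,
        Matrix.mul_one]
  · have hQ0 : (Q : Matrix (Fin n) (Fin n) F)ᵀ *ᵥ (x *ᵥ v) = x *ᵥ v + v := by
      rw [mulVec_transpose]; exact hQ 0
    have hQ1 : (Q : Matrix (Fin n) (Fin n) F)ᵀ *ᵥ v = v := by rw [mulVec_transpose]; exact hQ 1
    have h1 := congrArg (· *ᵥ v) e
    simp only [← mulVec_mulVec, smul_mulVec] at h1
    have h2 : (((Q⁻¹ : GL (Fin n) F) : Matrix (Fin n) (Fin n) F))ᵀ *ᵥ v = v := by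
      conv_lhs => rw [← hQ1]
      rw [mulVec_mulVec, ← transpose_mul, Units.mul_inv, transpose_one, one_mulVec]
    rw [h2, hQ0] at h1
    obtain ⟨h3, h4'⟩ := LinearIndependent.pair_iff.mp hli (1 - c) 1 (by
      rw [sub_smul, one_smul, one_smul, ← h1]; module)
    exact one_ne_zero h4'

/-- One more factor. -/
theorem covNC_succ (h4 : 4 ≤ Fintype.card F) (hn : 2 ≤ n) {Λ : Set F} {x : Matrix (Fin n) (Fin n) F}
    (hx : ∀ c : F, x ≠ c • 1) (hx0 : x.det ≠ 0) {k : ℕ}
    (ih : ∀ g : Matrix (Fin n) (Fin n) F, (∀ c : F, g ≠ c • 1) → g.det = x.det ^ k → CovNC Λ x k g)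
    (g : Matrix (Fin n) (Fin n) F) (hg : g.det = x.det ^ (k + 1)) : CovNC Λ x (k + 1) g := by
  obtain ⟨y, hy, hyne⟩ := exists_conj_ne_smul hn hx h4
  have key : ∀ z, SimIn ⊤ x z → (∀ c : F, g ≠ c • z) → CovNC Λ x (k + 1) g := by
    intro z hz hne
    have hz0 : z.det ≠ 0 := by rwa [← hz.det_eq]
    set z' : GL (Fin n) F := GeneralLinearGroup.mkOfDetNeZero z hz0
    have e : g = z * (((z'⁻¹ : GL (Fin n) F) : Matrix (Fin n) (Fin n) F) * g) := by
      rw [← Matrix.mul_assoc, show z = (z' : Matrix (Fin n) (Fin n) F) from rfl, Units.mul_inv, Matrix.one_mul]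
    rw [e]
    refine (ih _ (fun c hc => hne c ?_) ?_).cons hz
    · rw [e, hc, Matrix.mul_smul, Matrix.mul_one]
    · have hd := congrArg Matrix.det e
      rw [det_mul, hg, ← hz.det_eq, pow_succ'] at hd
      exact (mul_left_cancel₀ hx0 hd).symm
  by_cases hgx : ∃ c : F, g = c • x
  · obtain ⟨c, hc⟩ := hgx
    refine key y hy fun d hd => hyne (d⁻¹ * c) ?_
    have hd0 : d ≠ 0 := by
      rintro rfl
      haveI : Nonempty (Fin n) := ⟨⟨0, by omega⟩⟩
      have : g.det = 0 := by rw [hd, zero_smul]; simp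
      rw [hg] at this
      exact pow_ne_zero _ hx0 this
    rw [mul_smul, ← hc, hd, inv_smul_smul₀ hd0]
  · push Not at hgx
    exact key x (SimIn.refl _ _) hgx

/-- Four conjugates without common left eigenvector. -/
theorem covNC_four (h4 : 4 ≤ Fintype.card F) (hn : 3 ≤ n) {L : Set (F × F)}
    {x : Matrix (Fin n) (Fin n) F} (hx0 : x.det ≠ 0) {t : Fin n → F} (hx : Sq ⊤ L x t) {Λ : Set F}
    (hΛ : ∀ l ∈ Λ, (l, l ^ 2) ∉ L) {g : Matrix (Fin n) (Fin n) F} (hg : ∀ c : F, g ≠ c • 1)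
    (hdet : g.det = x.det ^ 4) : CovNC Λ x 4 g := by
  obtain ⟨P, -, hM, hL⟩ := hx 1
  have hprod : ∏ i, t i = x.det ^ 2 := by rw [hM.prod_eq, det_mul, det_units_conj, sq]
  have ht : ∀ i, t i ≠ 0 := fun i =>
    Finset.prod_ne_zero_iff.mp (hprod ▸ pow_ne_zero _ hx0) i (Finset.mem_univ _)
  obtain ⟨A, B, hA, hAp, hB, hBp, hAB⟩ := exists_spec_prod h4 hn t ht hg (by rw [hdet, hprod, ← pow_mul])
  obtain ⟨Q, rfl⟩ := exists_conj_of_sim hAB
  set y := (P : Matrix (Fin n) (Fin n) F) * x * ((P⁻¹ : GL (Fin n) F) : Matrix (Fin n) (Fin n) F) with hy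
  have hT : IsCyc (x * y) := isCyc_of_eigLe hM.1 fun i => hM.2 _
  obtain ⟨R, hR⟩ := exists_conj_of_sim (sim_of_isCyc hT hA (hM.1.trans hAp.symm))
  obtain ⟨R', hR'⟩ := exists_conj_of_sim (sim_of_isCyc hT hB (hM.1.trans hBp.symm))
  set c : GL (Fin n) F → Matrix (Fin n) (Fin n) F → Matrix (Fin n) (Fin n) F := fun S a =>
    (S : Matrix (Fin n) (Fin n) F) * a * ((S⁻¹ : GL (Fin n) F) : Matrix (Fin n) (Fin n) F) with hc
  have hcc : ∀ (S S' : GL (Fin n) F) (a : Matrix (Fin n) (Fin n) F), c S (c S' a) = c (S * S') a := fun S S' a => by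
    simp only [c, _root_.mul_inv_rev, Units.val_mul, Matrix.mul_assoc]
  refine ⟨[c (Q * R) x, c (Q * R) y, c (Q * R') x, c (Q * R') y], rfl, ?_, ?_, ?_⟩
  · have h1 : SimIn ⊤ x y := SimIn.conj P (Subgroup.mem_top _) x
    intro z hz
    simp only [List.mem_cons, List.not_mem_nil, or_false] at hz
    rcases hz with rfl | rfl | rfl | rfl
    · exact SimIn.conj _ (Subgroup.mem_top _) x
    · exact h1.trans (SimIn.conj _ (Subgroup.mem_top _) y)
    · exact SimIn.conj _ (Subgroup.mem_top _) x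
    · exact h1.trans (SimIn.conj _ (Subgroup.mem_top _) y)
  · simp only [List.prod_cons, List.prod_nil, Matrix.mul_one]
    rw [← Matrix.mul_assoc (c (Q * R) x), mul_conj, mul_conj]
    show c (Q * R) (x * y) * c (Q * R') (x * y) = _
    rw [← hcc, ← hcc, show c R (x * y) = A from hR.symm, show c R' (x * y) = B from hR'.symm]
    exact mul_conj Q A B
  · intro l hl ψ hψ
    by_contra hne
    set χ := ψ ᵥ* ((Q * R : GL (Fin n) F) : Matrix (Fin n) (Fin n) F) with hχ
    have hback : ∀ a, ψ ᵥ* c (Q * R) a = l • ψ → χ ᵥ* a = l • χ := by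
      intro a ha
      have := congrArg (fun v => v ᵥ* ((Q * R : GL (Fin n) F) : Matrix (Fin n) (Fin n) F)) ha
      simpa only [c, hχ, smul_vecMul, vecMul_vecMul, Matrix.mul_assoc, Units.inv_mul, Matrix.mul_one] using this
    have hχ0 : χ ≠ 0 := fun e => hne (by
      rw [← vecMul_one ψ, ← Units.mul_inv (Q * R), ← vecMul_vecMul, ← hχ, e, zero_vecMul])
    have h1 := hback x (hψ _ (by simp))
    have h2 := hback y (hψ _ (by simp))
    refine hΛ l hl (hL χ l (l ^ 2) hχ0 h1 ?_)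
    rw [← vecMul_vecMul, h1, smul_vecMul, h2, smul_smul, sq]

end CfsgLib.CoverPSL
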