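import Cfsg.Agent.CoverPSL.Units
import Cfsg.Agent.CoverPSL.Step

/-!
# From a base to the whole matrix

The lines outside a base are added one by one, each with one more factor.
-/

set_option autoImplicit false

namespace CfsgLib.CoverPSL

open Matrix Polynomial CfsgLib.OreSL CfsgLib.Sourour

variable {F : Type*} [Field F] {n N : ℕ}

/-- The size of a set of blocks. -/
def size (B : Fin N → Blk F) (s : Finset (Fin N)) : ℕ := ∑ i ∈ s, ((B i).m + 1)

/-- The eigenvalue of a one-dimensional block. -/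
def val (B : Fin N → Blk F) (i : Fin N) : F := (B i).mat 0 0

theorem line_val {B : Fin N → Blk F} {i : Fin N} (h : (B i).m = 0) : Line B i (val B i) :=
  ⟨h, fun p => by
    obtain rfl : p = 0 := Fin.ext (by have := p.isLt; simp only [Fin.val_zero]; omega)
    rfl⟩

theorem SimRep.reindex {B : Fin N → Blk F} {s : Finset (Fin N)} {α β : Type*} [Fintype α] [DecidableEq α]
    [Fintype β] [DecidableEq β] {M : Matrix α α F} (h : SimRep B s M) (e : α ≃ β) :
    SimRep B s (Matrix.reindex e e M) := by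
  obtain ⟨f, hf⟩ := h
  refine ⟨e.symm.trans f, (Sim.of_eq ?_).trans hf⟩
  ext i j
  simp

theorem SimRep.rep_size {B : Fin N → Blk F} {s : Finset (Fin N)} {m : ℕ} {M : Matrix (Fin m) (Fin m) F}
    (h : SimRep B s M) : m = size B s := by
  simpa [size] using h.sizes

theorem SimRep.blk {B : Fin N → Blk F} {s : Finset (Fin N)} {m : ℕ} {M : Matrix (Fin m) (Fin m) F}
    (h : SimRep B s M) {j : Fin N} {l : F} (hj : Line B j l) (hjs : j ∉ s) :
    SimRep B (insert j s) (Sourour.blk l 0 0 M) := by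
  classical
  have h' := (hj.rep.union (Finset.disjoint_singleton_left.mpr hjs) h).reindex (finCongr (Nat.add_comm 1 m))
  rw [← Finset.insert_eq] at h'
  refine h'.of_sim (Sim.of_eq ?_)
  have key : ∀ (p : Fin 1 ⊕ Fin m), finCongr (Nat.add_comm 1 m) (finSumFinEquiv p) =
      Sum.elim (fun _ => 0) Fin.succ p := by
    rintro (p | p) <;> apply Fin.ext
    · simp
    · simp [Nat.add_comm]
  ext i j
  obtain ⟨p, rfl⟩ := (finSumFinEquiv.trans (finCongr (Nat.add_comm 1 m))).surjective i
  obtain ⟨q, rfl⟩ := (finSumFinEquiv.trans (finCongr (Nat.add_comm 1 m))).surjective j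
  simp only [Equiv.trans_apply, Matrix.reindex_apply, submatrix_apply, Equiv.symm_apply_apply, dsum]
  rw [key, key]
  rcases p with p | p <;> rcases q with q | q <;> simp [one_apply, eq_iff_true_of_subsingleton]

theorem wide_of_sim {x y : Matrix (Fin n) (Fin n) F} (h : Sim x y) (hw : Wide x) : Wide y := by
  intro μ
  obtain ⟨P, rfl⟩ := exists_conj_of_sim h
  have hP := (Matrix.isUnit_iff_isUnit_det _).mp P.isUnit
  rw [show (P : Matrix (Fin n) (Fin n) F) * x * ((P⁻¹ : GL (Fin n) F) : Matrix (Fin n) (Fin n) F) - μ • 1 =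
      (P : Matrix (Fin n) (Fin n) F) * (x - μ • 1) * ((P⁻¹ : GL (Fin n) F) : Matrix (Fin n) (Fin n) F) by
    rw [Matrix.mul_sub, Matrix.sub_mul, Matrix.mul_smul, Matrix.smul_mul, Matrix.mul_one, Units.mul_inv],
    rank_mul_eq_left_of_isUnit_det _ _ ((Matrix.isUnit_iff_isUnit_det _).mp (Units.isUnit _)),
    rank_mul_eq_right_of_isUnit_det _ _ hP]
  exact hw μ

theorem wide_blk {m : ℕ} {M : Matrix (Fin m) (Fin m) F} (l : F) (hw : Wide M) : Wide (Sourour.blk l 0 0 M) := by
  intro μ
  refine (hw μ).trans ?_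
  have e : M - μ • 1 = (Sourour.blk l 0 0 M - μ • 1).submatrix Fin.succ Fin.succ := by
    ext i j
    simp [one_apply]
  rw [e]
  exact Matrix.rank_submatrix_le _ _ _

theorem SimRep.det_ne_zero {B : Fin N → Blk F} {x : Matrix (Fin n) (Fin n) F}
    (h : SimRep B Finset.univ x) (hx : x.det ≠ 0) (i : Fin N) : (B i).mat.det ≠ 0 := by
  classical
  obtain ⟨m, R, hR⟩ := simRep_exists B (Finset.univ.erase i)
  have hu := (simRep_singleton B i).union (Finset.disjoint_singleton_left.mpr (Finset.notMem_erase i _)) hR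
  rw [← Finset.insert_eq, Finset.insert_erase (Finset.mem_univ i)] at hu
  have hn : (B i).m + 1 + m = n := by rw [hu.rep_size, h.rep_size]
  subst hn
  intro e
  rw [← (hu.sim h).det_eq, det_dsum, e, zero_mul] at hx
  exact hx rfl

theorem val_ne_zero {B : Fin N → Blk F} {x : Matrix (Fin n) (Fin n) F}
    (h : SimRep B Finset.univ x) (hx : x.det ≠ 0) {i : Fin N} (hi : (B i).m = 0) : val B i ≠ 0 := by
  intro e
  have := h.det_ne_zero hx i
  refine this ?_
  have hp : ∀ p : Fin ((B i).m + 1), p = 0 := fun p => Fin.ext (by have := p.isLt; simp only [Fin.val_zero]; omega)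
  haveI : Subsingleton (Fin ((B i).m + 1)) := ⟨fun p q => (hp p).trans (hp q).symm⟩
  rw [det_eq_elem_of_subsingleton _ 0]
  exact e

variable [Fintype F]

/-- From a base of size at least four to the whole matrix. -/
theorem cov_of_base (h4 : 4 ≤ Fintype.card F) {x : Matrix (Fin n) (Fin n) F} (hx0 : x.det ≠ 0)
    {B : Fin N → Blk F} (hrep : SimRep B Finset.univ x) {s₀ : Finset (Fin N)} {L : Set (F × F)}
    (h₀ : Have B s₀ L) (hsize : 4 ≤ size B s₀)
    (hout : ∀ i, i ∉ s₀ → (B i).m = 0 ∧ (val B i, val B i ^ 2) ∉ L) :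
    (∀ g : Matrix (Fin n) (Fin n) F, (∀ c : F, g ≠ c • 1) → g.det = x.det ^ n → Cov ⊤ x n g) ∧
      (5 ≤ size B s₀ → ∀ g : Matrix (Fin n) (Fin n) F, g.det = x.det ^ n → Cov ⊤ x n g) := by
  classical
  obtain ⟨m₀, M₀, t₀, hR₀, hSq, hd₀⟩ := h₀
  have hm₀ := hR₀.rep_size
  set Λ : Set F := {v | ∃ i, i ∉ s₀ ∧ val B i = v}
  have chain : ∀ s : Finset (Fin N), _root_.Disjoint s s₀ → ∃ (m : ℕ) (M : Matrix (Fin m) (Fin m) F),
      SimRep B (s ∪ s₀) M ∧ m = m₀ + s.card ∧ Wide M ∧ M.det ≠ 0 ∧
      ∀ g : Matrix (Fin m) (Fin m) F, (∀ c : F, g ≠ c • 1) → g.det = M.det ^ (4 + s.card) →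
        CovNC Λ M (4 + s.card) g := by
    intro s hs
    induction s using Finset.induction_on with
    | empty =>
      refine ⟨m₀, M₀, by rwa [Finset.empty_union], by simp, ?_, hd₀, fun g hg hdet => ?_⟩
      · obtain ⟨P, hP, hM, -⟩ := hSq 1
        exact Wide.of_mate (SimIn.conj P (Subgroup.mem_top _) M₀) hM (by omega)
      · exact covNC_four h4 (by omega) hd₀ hSq (fun l hl => by
          obtain ⟨i, hi, rfl⟩ := hl
          exact (hout i hi).2) hg hdet
    | @insert a s ha ih =>
      rw [Finset.disjoint_insert_left] at hs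
      obtain ⟨m, M, hR, hm, hw, hd, hcov⟩ := ih hs.2
      have hl0 := val_ne_zero hrep hx0 (hout a hs.1).1
      refine ⟨m + 1, Sourour.blk (val B a) 0 0 M, ?_, by rw [Finset.card_insert_of_notMem ha]; omega,
        wide_blk _ hw, by rw [det_blk_lower]; exact mul_ne_zero hl0 hd, fun g hg hdet => ?_⟩
      · rw [Finset.insert_union]
        exact hR.blk (line_val (hout a hs.1).1) (by rw [Finset.mem_union, not_or]; exact ⟨ha, hs.1⟩)
      · rw [Finset.card_insert_of_notMem ha, ← Nat.add_assoc] at hdet ⊢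
        exact covNC_step h4 (by omega) (by omega) (show val B a ∈ Λ from ⟨a, hs.1, rfl⟩) hl0 hd (wide_blk _ hw) hcov hg hdet
  obtain ⟨m, M, hR, hm, hw, hd, hcov⟩ := chain (Finset.univ \ s₀) Finset.sdiff_disjoint
  rw [Finset.sdiff_union_of_subset (Finset.subset_univ _)] at hR
  have hmn : m = n := hR.rep_size.trans hrep.rep_size.symm
  subst hmn
  set c := 4 + (Finset.univ \ s₀).card
  have hns : ∀ v : F, M ≠ v • 1 := hw.ne_smul
  have hsim := hR.sim hrep
  have up : ∀ k, c + 1 ≤ k → ∀ g : Matrix (Fin m) (Fin m) F, g.det = M.det ^ k → CovNC Λ M k g := by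
    intro k hk
    induction k, hk using Nat.le_induction with
    | base => exact covNC_succ h4 (by omega) hns hd hcov
    | succ k _ ih => exact covNC_succ h4 (by omega) hns hd fun g _ => ih g
  have back : ∀ g : Matrix (Fin m) (Fin m) F, CovNC Λ M m g → Cov ⊤ x m g := fun g h => (h.base hsim.symm).cov
  refine ⟨fun g hg hdet => back g ?_, fun h5 g hdet => back g (up m (by omega) g (by rw [hdet, hsim.det_eq]))⟩
  rw [← hsim.det_eq] at hdet
  rcases Nat.lt_or_ge c m with h | h
  · exact up m h g hdet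
  · obtain rfl : m = c := by omega
    exact hcov g hg hdet

end CfsgLib.CoverPSL
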