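import Cfsg.Agent.OreSL.Basic
import Mathlib.LinearAlgebra.Matrix.GeneralLinearGroup.Defs

/-!
# Products of conjugates of a matrix

`SimIn N x y` says that `y` is conjugate to `x` by a matrix with determinant in `N`, and `Cov N x k g`
says that `g` is a product of `k` such conjugates.
-/

set_option autoImplicit false

namespace CfsgLib.CoverPSL

open Matrix CfsgLib.OreSL

variable {F : Type*} [Field F] {ι κ : Type*} [Fintype ι] [DecidableEq ι] [Fintype κ] [DecidableEq κ]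

/-- `y` is conjugate to `x` by a matrix with determinant in `N`. -/
def SimIn (N : Subgroup Fˣ) (x y : Matrix ι ι F) : Prop :=
  ∃ P : GL ι F, GeneralLinearGroup.det P ∈ N ∧ (P : Matrix ι ι F) * x = y * (P : Matrix ι ι F)

/-- `g` is a product of `k` conjugates of `x` by matrices with determinant in `N`. -/
def Cov (N : Subgroup Fˣ) (x : Matrix ι ι F) : ℕ → Matrix ι ι F → Prop
  | 0, g => g = 1
  | k + 1, g => ∃ y h, SimIn N x y ∧ Cov N x k h ∧ g = y * h

variable {N N' : Subgroup Fˣ} {x y z : Matrix ι ι F}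

theorem SimIn.refl (N : Subgroup Fˣ) (x : Matrix ι ι F) : SimIn N x x :=
  ⟨1, by simp, by simp⟩

theorem SimIn.symm (h : SimIn N x y) : SimIn N y x := by
  obtain ⟨P, hP, e⟩ := h
  refine ⟨P⁻¹, by simpa using hP, ?_⟩
  calc ((P⁻¹ : GL ι F) : Matrix ι ι F) * y
      = ((P⁻¹ : GL ι F) : Matrix ι ι F) * (y * (P : Matrix ι ι F)) * ((P⁻¹ : GL ι F) : Matrix ι ι F) := by
        simp only [Matrix.mul_assoc, Units.mul_inv, Matrix.mul_one]
    _ = x * ((P⁻¹ : GL ι F) : Matrix ι ι F) := by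
        rw [← e, ← Matrix.mul_assoc ((P⁻¹ : GL ι F) : Matrix ι ι F), Units.inv_mul, Matrix.one_mul]

theorem SimIn.trans (h : SimIn N x y) (h' : SimIn N y z) : SimIn N x z := by
  obtain ⟨P, hP, e⟩ := h
  obtain ⟨Q, hQ, e'⟩ := h'
  refine ⟨Q * P, by rw [map_mul]; exact mul_mem hQ hP, ?_⟩
  rw [Units.val_mul, Matrix.mul_assoc, e, ← Matrix.mul_assoc, e', Matrix.mul_assoc]

theorem SimIn.mono (hN : N ≤ N') (h : SimIn N x y) : SimIn N' x y :=
  let ⟨P, hP, e⟩ := h
  ⟨P, hN hP, e⟩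

theorem SimIn.sim (h : SimIn N x y) : Sim x y := by
  obtain ⟨P, -, e⟩ := h
  exact ⟨P, ((Matrix.isUnit_iff_isUnit_det _).mp P.isUnit).ne_zero, e⟩

theorem simIn_top_iff : SimIn (⊤ : Subgroup Fˣ) x y ↔ Sim x y := by
  refine ⟨SimIn.sim, fun ⟨P, hP, e⟩ => ?_⟩
  exact ⟨GeneralLinearGroup.mkOfDetNeZero P hP, Subgroup.mem_top _, e⟩

theorem SimIn.det_eq (h : SimIn N x y) : x.det = y.det := h.sim.det_eq

/-- The conjugate of `x` by `P`. -/
theorem SimIn.conj (P : GL ι F) (hP : GeneralLinearGroup.det P ∈ N) (x : Matrix ι ι F) :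
    SimIn N x ((P : Matrix ι ι F) * x * ((P⁻¹ : GL ι F) : Matrix ι ι F)) :=
  ⟨P, hP, by simp only [Matrix.mul_assoc, Units.inv_mul, Matrix.mul_one]⟩

theorem SimIn.eq_conj (h : SimIn N x y) : ∃ P : GL ι F, GeneralLinearGroup.det P ∈ N ∧
    y = (P : Matrix ι ι F) * x * ((P⁻¹ : GL ι F) : Matrix ι ι F) := by
  obtain ⟨P, hP, e⟩ := h
  exact ⟨P, hP, by rw [e, Matrix.mul_assoc, Units.mul_inv, Matrix.mul_one]⟩

theorem cov_zero : Cov N x 0 1 := rfl

theorem cov_one (h : SimIn N x y) : Cov N x 1 y := ⟨y, 1, h, rfl, (Matrix.mul_one y).symm⟩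

theorem Cov.mono (hN : N ≤ N') {k : ℕ} {g : Matrix ι ι F} (h : Cov N x k g) : Cov N' x k g := by
  induction k generalizing g with
  | zero => exact h
  | succ k ih =>
    obtain ⟨y, r, hy, hr, e⟩ := h
    exact ⟨y, r, hy.mono hN, ih hr, e⟩

theorem Cov.mul {a b : ℕ} {g h : Matrix ι ι F} (hg : Cov N x a g) (hh : Cov N x b h) :
    Cov N x (a + b) (g * h) := by
  induction a generalizing g with
  | zero => rw [show g = 1 from hg, Matrix.one_mul, Nat.zero_add]; exact hh
  | succ a ih =>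
    obtain ⟨y, r, hy, hr, rfl⟩ := hg
    rw [Nat.add_right_comm]
    exact ⟨y, r * h, hy, ih hr, Matrix.mul_assoc _ _ _⟩

theorem Cov.cons {k : ℕ} {g : Matrix ι ι F} (hy : SimIn N x y) (hg : Cov N x k g) :
    Cov N x (k + 1) (y * g) := ⟨y, g, hy, hg, rfl⟩

theorem Cov.det {k : ℕ} {g : Matrix ι ι F} (h : Cov N x k g) : g.det = x.det ^ k := by
  induction k generalizing g with
  | zero => rw [show g = 1 from h, det_one, pow_zero]
  | succ k ih =>
    obtain ⟨y, r, hy, hr, rfl⟩ := h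
    rw [det_mul, ← hy.det_eq, ih hr, pow_succ']

/-- Replacing the base matrix by a conjugate. -/
theorem Cov.base {k : ℕ} {g : Matrix ι ι F} (h : SimIn N y x) (hg : Cov N x k g) : Cov N y k g := by
  induction k generalizing g with
  | zero => exact hg
  | succ k ih =>
    obtain ⟨z, r, hz, hr, e⟩ := hg
    exact ⟨z, r, h.trans hz, ih hr, e⟩

theorem Cov.conj {k : ℕ} {g g' : Matrix ι ι F} (hg : Cov N x k g) (h : SimIn N g g') :
    Cov N x k g' := by
  obtain ⟨P, hP, rfl⟩ := h.eq_conj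
  clear h
  induction k generalizing g with
  | zero => rw [show g = 1 from hg, Matrix.mul_one, Units.mul_inv]; exact cov_zero
  | succ k ih =>
    obtain ⟨y, r, hy, hr, rfl⟩ := hg
    refine ⟨_, _, hy.trans (SimIn.conj P hP y), ih hr, ?_⟩
    simp only [Matrix.mul_assoc]
    rw [← Matrix.mul_assoc ((P⁻¹ : GL ι F) : Matrix ι ι F) (P : Matrix ι ι F), Units.inv_mul,
      Matrix.one_mul]

theorem Cov.conj_top {k : ℕ} {g g' : Matrix ι ι F} (hg : Cov ⊤ x k g) (h : Sim g g') :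
    Cov ⊤ x k g' :=
  hg.conj (simIn_top_iff.2 h)

/-- `GL` conjugates may be replaced by `N`-conjugates when the centraliser of `x` has enough
determinants. -/
theorem SimIn.of_top (hN : ∀ u : Fˣ, ∃ C : GL ι F,
    (C : Matrix ι ι F) * x = x * (C : Matrix ι ι F) ∧ u * GeneralLinearGroup.det C ∈ N)
    (h : SimIn ⊤ x y) : SimIn N x y := by
  obtain ⟨P, -, e⟩ := h
  obtain ⟨C, hC, hmem⟩ := hN (GeneralLinearGroup.det P)
  refine ⟨P * C, by rwa [map_mul], ?_⟩
  rw [Units.val_mul, Matrix.mul_assoc, hC, ← Matrix.mul_assoc, e, Matrix.mul_assoc]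

theorem SimIn.reindex (h : SimIn N x y) (e : ι ≃ κ) :
    SimIn N (Matrix.reindex e e x) (Matrix.reindex e e y) := by
  obtain ⟨P, hP, h⟩ := h
  have hd : (Matrix.reindex e e (P : Matrix ι ι F)).det ≠ 0 := by
    rw [det_reindex_self]
    exact ((Matrix.isUnit_iff_isUnit_det _).mp P.isUnit).ne_zero
  refine ⟨GeneralLinearGroup.mkOfDetNeZero _ hd, ?_, ?_⟩
  · have : GeneralLinearGroup.det (GeneralLinearGroup.mkOfDetNeZero _ hd) = GeneralLinearGroup.det P :=
      Units.ext (det_reindex_self e _)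
    rwa [this]
  · show Matrix.reindex e e (P : Matrix ι ι F) * _ = _ * Matrix.reindex e e (P : Matrix ι ι F)
    simp only [reindex_apply, submatrix_mul_equiv, h]

theorem Cov.reindex {k : ℕ} {g : Matrix ι ι F} (hg : Cov N x k g) (e : ι ≃ κ) :
    Cov N (Matrix.reindex e e x) k (Matrix.reindex e e g) := by
  induction k generalizing g with
  | zero =>
    rw [show g = 1 from hg]
    simp only [reindex_apply, submatrix_one_equiv]
    exact cov_zero
  | succ k ih =>
    obtain ⟨y, r, hy, hr, rfl⟩ := hg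
    refine ⟨_, _, hy.reindex e, ih hr, ?_⟩
    simp only [reindex_apply, submatrix_mul_equiv]

end CfsgLib.CoverPSL
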