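import Cfsg.Agent.OreSL.Witness
import Cfsg.Agent.GLClass.Modules
import Cfsg.Agent.CoverPSL.Defs
import Mathlib.LinearAlgebra.Matrix.Charpoly.LinearMap
import Mathlib.LinearAlgebra.Matrix.Block
import Mathlib.RingTheory.Coprime.Lemmas

/-!
# Cyclic matrices with split characteristic polynomial

Two cyclic matrices with the same characteristic polynomial are similar; a matrix with split
characteristic polynomial and eigenspaces of dimension at most one is cyclic.
-/

set_option autoImplicit false

namespace CfsgLib.CoverPSL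

open Matrix Polynomial CfsgLib.OreSL

variable {F : Type*} [Field F] {n : ℕ}

/-- The eigenspace for `t` has dimension at most one. -/
def EigLe (A : Matrix (Fin n) (Fin n) F) (t : F) : Prop :=
  n ≤ (A - t • 1).rank + 1

theorem eigLe_transpose {A : Matrix (Fin n) (Fin n) F} {t : F} : EigLe Aᵀ t ↔ EigLe A t := by
  rw [EigLe, EigLe, ← rank_transpose (A - t • 1), transpose_sub, transpose_smul, transpose_one]

theorem eigLe_iff {A : Matrix (Fin n) (Fin n) F} {t : F} :
    EigLe A t ↔ ∀ v w, A *ᵥ v = t • v → A *ᵥ w = t • w → v ≠ 0 → ∃ c : F, w = c • v := by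
  have hker : ∀ v, v ∈ LinearMap.ker (A - t • 1).mulVecLin ↔ A *ᵥ v = t • v := fun v => by
    rw [LinearMap.mem_ker, mulVecLin_apply, sub_mulVec, smul_mulVec, one_mulVec, sub_eq_zero]
  have hrn := (A - t • 1).mulVecLin.finrank_range_add_finrank_ker
  rw [Module.finrank_fin_fun] at hrn
  have e : EigLe A t ↔ Module.finrank F (LinearMap.ker (A - t • 1).mulVecLin) ≤ 1 := by
    unfold EigLe Matrix.rank
    omega
  rw [e]
  constructor
  · intro h v w hv hw hv0
    obtain ⟨u, hu⟩ := finrank_le_one_iff.mp h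
    obtain ⟨a, ha⟩ := hu ⟨v, (hker v).2 hv⟩
    obtain ⟨b, hb⟩ := hu ⟨w, (hker w).2 hw⟩
    have ha' : a • (u : Fin n → F) = v := congrArg Subtype.val ha
    have hb' : b • (u : Fin n → F) = w := congrArg Subtype.val hb
    have ha0 : a ≠ 0 := fun e0 => hv0 (by rw [← ha', e0, zero_smul])
    exact ⟨b / a, by rw [← ha', smul_smul, div_mul_cancel₀ _ ha0, hb']⟩
  · intro h
    by_cases h0 : ∀ v : LinearMap.ker (A - t • 1).mulVecLin, v = 0
    · exact finrank_le_one (0 : LinearMap.ker (A - t • 1).mulVecLin) fun w => ⟨0, by rw [h0 w, smul_zero]⟩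
    · push Not at h0
      obtain ⟨v, hv⟩ := h0
      refine finrank_le_one v fun w => ?_
      obtain ⟨c, hc⟩ := h v w ((hker _).1 v.2) ((hker _).1 w.2) (fun e0 => hv (Subtype.ext e0))
      exact ⟨c, Subtype.ext hc.symm⟩

/-- Two cyclic matrices with the same characteristic polynomial are similar. -/
theorem sim_of_isCyc {A B : Matrix (Fin n) (Fin n) F} (hA : IsCyc A) (hB : IsCyc B)
    (h : A.charpoly = B.charpoly) : Sim A B := by
  classical
  rcases Nat.eq_zero_or_pos n with rfl | hn
  · exact Sim.of_eq (Subsingleton.elim _ _)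
  obtain ⟨v, hv⟩ := hA
  obtain ⟨w, hw⟩ := hB
  set V : Matrix (Fin n) (Fin n) F := Matrix.of fun i (j : Fin n) => (A ^ (j : ℕ) *ᵥ v) i with hV
  set W : Matrix (Fin n) (Fin n) F := Matrix.of fun i (j : Fin n) => (B ^ (j : ℕ) *ᵥ w) i with hW
  -- both intertwine with the companion matrix
  set C : Matrix (Fin n) (Fin n) F := Matrix.of fun i j =>
    if j.val + 1 = n then -A.charpoly.coeff i.val else if i.val = j.val + 1 then 1 else 0 with hC
  have key : ∀ (M : Matrix (Fin n) (Fin n) F) (u : Fin n → F), M.charpoly = A.charpoly →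
      M * (Matrix.of fun i (j : Fin n) => (M ^ (j : ℕ) *ᵥ u) i) =
        (Matrix.of fun i (j : Fin n) => (M ^ (j : ℕ) *ᵥ u) i) * C := by
    intro M u hM
    ext i j
    have hl : (M * Matrix.of fun i (j : Fin n) => (M ^ (j : ℕ) *ᵥ u) i) i j =
        (M ^ (j.val + 1) *ᵥ u) i := by
      rw [pow_succ', ← mulVec_mulVec]
      rfl
    rw [hl, Matrix.mul_apply]
    simp only [hC, Matrix.of_apply]
    by_cases hj : j.val + 1 = n
    · simp only [if_pos hj]
      have hch := Matrix.aeval_self_charpoly M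
      rw [aeval_eq_sum_range, Matrix.charpoly_natDegree_eq_dim, Fintype.card_fin, Finset.sum_range_succ] at hch
      have hm : M.charpoly.coeff n = 1 := by
        have hd := Matrix.charpoly_natDegree_eq_dim M
        rw [Fintype.card_fin] at hd
        exact (congrArg M.charpoly.coeff hd.symm).trans (Matrix.charpoly_monic M).coeff_natDegree
      rw [hm, one_smul, add_eq_zero_iff_eq_neg'] at hch
      rw [hj, hch, neg_mulVec, sum_mulVec, Pi.neg_apply, Finset.sum_apply,
        ← Fin.sum_univ_eq_sum_range (fun k => ((M.charpoly.coeff k • M ^ k) *ᵥ u) i) n,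
        ← Finset.sum_neg_distrib, hM]
      refine Finset.sum_congr rfl fun k _ => ?_
      rw [smul_mulVec, Pi.smul_apply, smul_eq_mul]
      ring
    · simp only [if_neg hj]
      rw [Finset.sum_eq_single (⟨j.val + 1, by omega⟩ : Fin n)]
      · simp
      · intro b _ hb
        rw [if_neg fun e => hb (Fin.ext e), mul_zero]
      · simp
  have hVd : V.det ≠ 0 :=
    ((Matrix.isUnit_iff_isUnit_det V).mp (Matrix.linearIndependent_cols_iff_isUnit.mp (by exact hv))).ne_zero
  have hWd : W.det ≠ 0 :=
    ((Matrix.isUnit_iff_isUnit_det W).mp (Matrix.linearIndependent_cols_iff_isUnit.mp (by exact hw))).ne_zero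
  have sA : Sim C A := ⟨V, hVd, (key A v rfl).symm⟩
  have sB : Sim C B := ⟨W, hWd, (key B w h.symm).symm⟩
  exact sA.symm.trans sB

/-- A matrix with split characteristic polynomial and small eigenspaces is cyclic. -/
theorem isCyc_of_eigLe {A : Matrix (Fin n) (Fin n) F} {t : Fin n → F}
    (hA : A.charpoly = ∏ i, (X - C (t i))) (he : ∀ i, EigLe A (t i)) : IsCyc A := by
  classical
  obtain ⟨N, p, e, hpe, ⟨φ⟩⟩ := GLClass.exists_data A
  have hzero : ∀ q : F[X], aeval A q = 0 → ∀ i, p i ^ e i ∣ q := fun q hq => by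
    refine GLClass.dvd_of_smul_eq_zero fun y => ?_
    obtain ⟨z, rfl⟩ := φ.surjective y
    rw [← map_smul, GLClass.smul_eq_zero_of_aeval hq, map_zero]
  -- every factor is linear
  have hlin : ∀ i, ∃ j, p i = X - C (t j) := fun i => by
    have h1 : p i ∣ ∏ j, (X - C (t j)) :=
      (dvd_pow_self _ (hpe i).2.2.ne').trans (hzero _ (hA ▸ Matrix.aeval_self_charpoly A) i)
    obtain ⟨j, -, hj⟩ := ((hpe i).2.1.prime.dvd_finsetProd_iff _).mp h1
    exact ⟨j, eq_of_monic_of_associated (hpe i).1 (monic_X_sub_C _)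
      ((hpe i).2.1.associated_of_dvd (irreducible_X_sub_C _) hj)⟩
  choose r hr using hlin
  -- the roots are distinct
  have hinj : ∀ i j, i ≠ j → t (r i) ≠ t (r j) := by
    intro i j hij hrij
    let ξ : Fin N → GLClass.Model p e := fun k =>
      Pi.single k (Submodule.Quotient.mk (p k ^ (e k - 1)))
    have hξX : ∀ k, (X - C (t (r k))) • ξ k = 0 := fun k => by
      funext l
      simp only [ξ, Pi.smul_apply, Pi.zero_apply]
      rcases eq_or_ne l k with rfl | hl
      · rw [Pi.single_eq_same, ← Submodule.Quotient.mk_smul, Submodule.Quotient.mk_eq_zero,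
          smul_eq_mul, ← hr, ← pow_succ', Nat.sub_add_cancel (hpe l).2.2]
        exact Submodule.mem_span_singleton_self _
      · rw [Pi.single_eq_of_ne hl, smul_zero]
    have hξ0 : ∀ k, ξ k k ≠ 0 := fun k h0 => by
      simp only [ξ, Pi.single_eq_same, Submodule.Quotient.mk_eq_zero] at h0
      have hd := natDegree_le_of_dvd (Ideal.mem_span_singleton.1 h0) (pow_ne_zero _ (hpe k).2.1.ne_zero)
      rw [natDegree_pow, natDegree_pow, hr, natDegree_X_sub_C, mul_one, mul_one] at hd
      have := (hpe k).2.2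
      omega
    let J : (Fin n → F) ≃ₗ[F] GLClass.Model p e :=
      (Module.AEval'.of (Matrix.toLin' A)).trans (φ.restrictScalars F)
    have hJ : ∀ (c : F) v, J (A *ᵥ v) - c • J v = (X - C c) • J v := fun c v => by
      have hX : J (A *ᵥ v) = (X : F[X]) • J v := by
        show φ (Module.AEval'.of (Matrix.toLin' A) (Matrix.toLin' A v)) = _
        rw [← Module.AEval'.X_smul_of, map_smul]
        rfl
      rw [hX, ← algebraMap_smul F[X] c (J v), Polynomial.algebraMap_eq]
      exact (sub_smul _ _ _).symm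
    have heig : ∀ k, t (r k) = t (r i) → A *ᵥ J.symm (ξ k) = t (r i) • J.symm (ξ k) := fun k hk => by
      apply J.injective
      rw [map_smul, ← sub_eq_zero, hJ, LinearEquiv.apply_symm_apply, ← hk, hξX]
    obtain ⟨c, hc⟩ := eigLe_iff.mp (he (r i)) _ _ (heig i rfl) (heig j hrij.symm) (fun h0 => hξ0 i (by
      rw [show ξ i = 0 from J.symm.map_eq_zero_iff.mp h0]
      rfl))
    rw [← map_smul, J.symm.injective.eq_iff] at hc
    have := congrFun hc j
    rw [Pi.smul_apply] at this
    refine hξ0 j (this.trans ?_)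
    simp only [ξ, Pi.single_eq_of_ne hij.symm, smul_zero]
  -- the cyclic vector
  let J : (Fin n → F) ≃ₗ[F] GLClass.Model p e :=
    (Module.AEval'.of (Matrix.toLin' A)).trans (φ.restrictScalars F)
  let one : GLClass.Model p e := fun _ => Submodule.Quotient.mk 1
  refine ⟨J.symm one, ?_⟩
  rw [Fintype.linearIndependent_iff]
  intro c hc
  set q : F[X] := ∑ i : Fin n, C (c i) * X ^ (i : ℕ) with hq
  have hqz : q • one = 0 := by
    have hJq : ∀ (q' : F[X]) v, J (aeval A q' *ᵥ v) = q' • J v := fun q' v => by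
      show φ (Module.AEval'.of (Matrix.toLin' A) (aeval A q' *ᵥ v)) =
        q' • φ (Module.AEval'.of (Matrix.toLin' A) v)
      rw [← map_smul]
      refine congrArg φ ?_
      rw [← Module.AEval.of_aeval_smul, GLClass.aeval_toLin']
      rfl
    have := hJq q (J.symm one)
    rw [LinearEquiv.apply_symm_apply] at this
    rw [← this, show aeval A q *ᵥ J.symm one = 0 by
      rw [← hc, hq, map_sum, sum_mulVec]
      refine Finset.sum_congr rfl fun i _ => ?_
      rw [map_mul, aeval_C, map_pow, aeval_X, ← Algebra.smul_def, smul_mulVec], map_zero]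
  have hdvd : ∀ i, p i ^ e i ∣ q := fun i => by
    have := congrFun hqz i
    simp only [one, Pi.smul_apply, Pi.zero_apply] at this
    rw [← Submodule.Quotient.mk_smul, Submodule.Quotient.mk_eq_zero, smul_eq_mul, mul_one] at this
    exact Ideal.mem_span_singleton.1 this
  have hprod : ∏ i, p i ^ e i ∣ q :=
    Fintype.prod_dvd_of_coprime (fun i j hij => IsCoprime.pow (by
      rw [hr, hr]
      exact isCoprime_X_sub_C_of_isUnit_sub (sub_ne_zero.2 (hinj i j hij)).isUnit)) hdvd
  have hdeg : (∏ i, p i ^ e i).natDegree = n := by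
    rw [natDegree_prod _ _ fun i _ => pow_ne_zero _ (hpe i).2.1.ne_zero]
    simp only [natDegree_pow]
    rw [← GLClass.finrank_model p e fun i => (hpe i).2.1.ne_zero, ← J.finrank_eq, Module.finrank_fin_fun]
  have hlt : q.degree < (n : WithBot ℕ) := degree_sum_fin_lt c
  have hq0 : q = 0 := by
    by_contra h0
    have := natDegree_le_of_dvd hprod h0
    rw [degree_eq_natDegree h0] at hlt
    have hlt' : q.natDegree < n := by exact_mod_cast hlt
    omega
  intro i
  have := congrArg (fun f => f.coeff (i : ℕ)) hq0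
  simpa [hq, Fin.val_inj] using this

/-- Equal values of `t` are contiguous. -/
def Grouped (t : Fin n → F) : Prop :=
  ∀ i j : Fin n, i < j → t i = t j → ∀ h : i.val + 1 < n, t ⟨i.val + 1, h⟩ = t i

theorem eigLe_lower {A : Matrix (Fin n) (Fin n) F} (hA : ∀ i j : Fin n, i.val < j.val → A i j = 0)
    (hg : Grouped fun i => A i i)
    (hs : ∀ (i : Fin n) (h : i.val + 1 < n), A ⟨i.val + 1, h⟩ ⟨i.val + 1, h⟩ = A i i →
      A ⟨i.val + 1, h⟩ i ≠ 0) (t : F) : EigLe A t := by
  classical
  rw [eigLe_iff]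
  intro v w hv hw hv0
  -- the first nonzero coordinate of an eigenvector is the last one with diagonal entry `t`
  have first : ∀ (u : Fin n → F), A *ᵥ u = t • u → ∀ i, (∀ j, j < i → u j = 0) → u i ≠ 0 →
      A i i = t ∧ ∀ j, i < j → A j j ≠ t := by
    intro u hu i hlow hi
    have hrow : ∀ k : Fin n, i.val ≤ k.val →
        ∑ j ∈ Finset.univ.filter (fun j : Fin n => i.val ≤ j.val ∧ j.val ≤ k.val), A k j * u j = t * u k := by
      intro k hk
      rw [← show (A *ᵥ u) k = t * u k from congrFun hu k, mulVec, dotProduct]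
      refine Finset.sum_subset (Finset.subset_univ _) fun j _ hj => ?_
      simp only [Finset.mem_filter, Finset.mem_univ, true_and, not_and, not_le] at hj
      rcases Nat.lt_or_ge j.val i.val with h | h
      · rw [hlow j h, mul_zero]
      · rw [hA k j (hj h), zero_mul]
    have hii : A i i = t := by
      have := hrow i le_rfl
      rw [Finset.sum_eq_single i] at this
      · exact mul_right_cancel₀ hi this
      · intro j hj hji
        simp only [Finset.mem_filter, Finset.mem_univ, true_and] at hj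
        exact absurd (Fin.ext (by omega)) hji
      · simp
    refine ⟨hii, fun j hij hj => ?_⟩
    have hlt : i.val + 1 < n := lt_of_le_of_lt (Nat.succ_le_of_lt hij) j.isLt
    have hd : A ⟨i.val + 1, hlt⟩ ⟨i.val + 1, hlt⟩ = A i i := hg i j hij (hii.trans hj.symm) hlt
    have := hrow ⟨i.val + 1, hlt⟩ (Nat.le_succ _)
    rw [Finset.sum_eq_add_of_mem i ⟨i.val + 1, hlt⟩ (by simp) (Finset.mem_filter.mpr ⟨Finset.mem_univ _, Nat.le_succ _, le_rfl⟩)
      (fun e0 => by have := congrArg Fin.val e0; simp at this), hd, hii] at this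
    · exact mul_ne_zero (hs i hlt hd) hi (add_eq_right.mp this)
    · intro l hl hne
      simp only [Finset.mem_filter, Finset.mem_univ, true_and] at hl
      have h1 : l.val ≠ i.val := fun e0 => hne.1 (Fin.ext e0)
      have h2 : l.val ≠ i.val + 1 := fun e0 => hne.2 (Fin.ext e0)
      omega
  obtain ⟨i, hi, hlow⟩ : ∃ i, v i ≠ 0 ∧ ∀ j, j < i → v j = 0 := by
    obtain ⟨i, hi, hmin⟩ := (Finset.univ.filter fun j => v j ≠ 0).exists_min_image id (by
      obtain ⟨j, hj⟩ := Function.ne_iff.mp hv0
      exact ⟨j, by simpa using hj⟩)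
    refine ⟨i, (Finset.mem_filter.mp hi).2, fun j hj => ?_⟩
    by_contra h0
    exact absurd (hmin j (by simp [h0])) (not_le.mpr hj)
  obtain ⟨hii, hlast⟩ := first v hv i hlow hi
  refine ⟨w i / v i, ?_⟩
  by_contra hne
  set u := w - (w i / v i) • v
  have hu0 : u ≠ 0 := sub_ne_zero.2 hne
  have hu : A *ᵥ u = t • u := by
    simp only [u, mulVec_sub, mulVec_smul, hv, hw, smul_sub, smul_comm t (w i / v i)]
  obtain ⟨k, hk, hklow⟩ : ∃ k, u k ≠ 0 ∧ ∀ j, j < k → u j = 0 := by
    obtain ⟨k, hk, hmin⟩ := (Finset.univ.filter fun j => u j ≠ 0).exists_min_image id (by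
      obtain ⟨j, hj⟩ := Function.ne_iff.mp hu0
      exact ⟨j, by simpa using hj⟩)
    refine ⟨k, (Finset.mem_filter.mp hk).2, fun j hj => ?_⟩
    by_contra h0
    exact absurd (hmin j (by simp [h0])) (not_le.mpr hj)
  obtain ⟨hkk, hklast⟩ := first u hu k hklow hk
  rcases lt_trichotomy k i with h | h | h
  · exact hklast i h hii
  · exact hk (by simp [h, u, div_mul_cancel₀ _ hi])
  · exact hlast k h hkk

theorem charpoly_lower {A : Matrix (Fin n) (Fin n) F} (hA : ∀ i j : Fin n, i.val < j.val → A i j = 0) :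
    A.charpoly = ∏ i, (X - C (A i i)) := by
  rw [← charpoly_transpose]
  exact charpoly_of_isUpperTriangular _ (fun i j h => by rw [transpose_apply]; exact hA j i h)

/-- A lower triangular matrix with grouped diagonal and connected groups is cyclic. -/
theorem isCyc_lower {A : Matrix (Fin n) (Fin n) F} (hA : ∀ i j : Fin n, i.val < j.val → A i j = 0)
    (hg : Grouped fun i => A i i)
    (hs : ∀ (i : Fin n) (h : i.val + 1 < n), A ⟨i.val + 1, h⟩ ⟨i.val + 1, h⟩ = A i i →
      A ⟨i.val + 1, h⟩ i ≠ 0) : IsCyc A :=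
  isCyc_of_eigLe (charpoly_lower hA) fun i => eigLe_lower hA hg hs _

/-- The same for upper triangular matrices. -/
theorem isCyc_upper {A : Matrix (Fin n) (Fin n) F} (hA : ∀ i j : Fin n, j.val < i.val → A i j = 0)
    (hg : Grouped fun i => A i i)
    (hs : ∀ (i : Fin n) (h : i.val + 1 < n), A ⟨i.val + 1, h⟩ ⟨i.val + 1, h⟩ = A i i →
      A i ⟨i.val + 1, h⟩ ≠ 0) : IsCyc A := by
  have hA' : ∀ i j : Fin n, i.val < j.val → Aᵀ i j = 0 := fun i j h => hA j i h
  refine isCyc_of_eigLe (t := fun i => A i i) ?_ fun i => ?_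
  · rw [← charpoly_transpose, charpoly_lower hA']
    rfl
  · exact eigLe_transpose.mp (eigLe_lower hA' hg hs _)

end CfsgLib.CoverPSL
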