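import Cfsg.Agent.CoverPSL.LUStep
import Cfsg.Agent.Sourour.Transvection
import Cfsg.Agent.CoverPSL.Cyclic
import Mathlib.Data.Fin.Tuple.Sort

/-!
# Triangular factorisation with prescribed repeated diagonal

A matrix `g` with `rank (g - σ) ≥ 2` for all `σ` is similar to `L * U`, both factors cyclic triangular
with the prescribed diagonal `t`.
-/

set_option autoImplicit false

namespace CfsgLib.CoverPSL

open Matrix Module Submodule CfsgLib.Sourour CfsgLib.RegUnip CfsgLib.OreSL

universe u

variable {K : Type*} [Field K] {n : ℕ}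

/-- `g - σ` has rank at least two for every scalar `σ`. -/
def Wide {ι : Type*} [Fintype ι] [DecidableEq ι] (g : Matrix ι ι K) : Prop :=
  ∀ σ : K, 2 ≤ (g - σ • 1).rank

theorem Wide.ne_smul {ι : Type*} [Fintype ι] [DecidableEq ι] {g : Matrix ι ι K} (h : Wide g) (c : K) :
    g ≠ c • 1 := by
  intro e
  have := h c
  rw [e, sub_self, Matrix.rank_zero] at this
  omega

/-- Lower triangular with diagonal `t`, connected inside groups. -/
def LowOk (t : Fin n → K) (L : Matrix (Fin n) (Fin n) K) : Prop :=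
  (∀ i j : Fin n, i.val < j.val → L i j = 0) ∧ (∀ i, L i i = t i) ∧
    ∀ (i : Fin n) (h : i.val + 1 < n), t ⟨i.val + 1, h⟩ = t i → L ⟨i.val + 1, h⟩ i ≠ 0

theorem LowOk.isCyc {t : Fin n → K} (hg : Grouped t) {L : Matrix (Fin n) (Fin n) K} (h : LowOk t L) :
    IsCyc L ∧ L.charpoly = ∏ i, (Polynomial.X - Polynomial.C (t i)) := by
  have e : (fun i => L i i) = t := funext h.2.1
  refine ⟨isCyc_lower h.1 (e ▸ hg) fun i hi he => h.2.2 i hi (by rwa [h.2.1, h.2.1] at he), ?_⟩
  rw [charpoly_lower h.1]
  simp only [h.2.1]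

theorem LowOk.isCyc_transpose {t : Fin n → K} (hg : Grouped t) {U : Matrix (Fin n) (Fin n) K}
    (h : LowOk t Uᵀ) : IsCyc U ∧ U.charpoly = ∏ i, (Polynomial.X - Polynomial.C (t i)) := by
  have e : (fun i => U i i) = t := funext h.2.1
  refine ⟨isCyc_upper (fun i j hij => h.1 j i hij) (e ▸ hg)
    fun i hi he => h.2.2 i hi ?_, ?_⟩
  · have h1 := h.2.1 i
    have h2 := h.2.1 ⟨i.val + 1, hi⟩
    rw [transpose_apply] at h1 h2
    rwa [h1, h2] at he
  · rw [← charpoly_transpose, charpoly_lower h.1]
    simp only [h.2.1]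

theorem LowOk.blk {m : ℕ} {t : Fin (m + 2) → K} {c : Fin (m + 1) → K}
    {D : Matrix (Fin (m + 1)) (Fin (m + 1)) K} (hD : LowOk (fun i => t i.succ) D)
    (hc : t 1 = t 0 → c 0 ≠ 0) : LowOk t (Sourour.blk (t 0) 0 c D) := by
  refine ⟨fun i j => ?_, fun i => ?_, fun i hi => ?_⟩
  · refine Fin.cases ?_ (fun i => ?_) i <;> refine Fin.cases ?_ (fun j => ?_) j <;> intro h
    · simp at h
    · simp
    · simp at h
    · simpa using hD.1 i j (by simpa using h)
  · refine Fin.cases ?_ (fun i => ?_) i
    · simp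
    · simpa using hD.2.1 i
  · intro he
    refine Fin.cases ?_ (fun j => ?_) i hi he
    · intro _ he
      show Sourour.blk (t 0) 0 c D (Fin.succ 0) 0 ≠ 0
      rw [blk_succ_zero]
      exact hc he
    · intro hi he
      show Sourour.blk (t 0) 0 c D (Fin.succ ⟨j.val + 1, by simpa using hi⟩) j.succ ≠ 0
      rw [blk_succ_succ]
      exact hD.2.2 j (by simpa using hi) he

open Classical in
/-- The multiplicity of a value. -/
noncomputable def mult (t : Fin n → K) (x : K) : ℕ := (Finset.univ.filter fun i => t i = x).card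

theorem mult_pos (t : Fin n → K) (i : Fin n) : 1 ≤ mult t (t i) := by
  classical
  exact Finset.card_pos.mpr ⟨i, by simp⟩

theorem two_le_mult {t : Fin n → K} {x : K} {i j : Fin n} (hij : i ≠ j) (hi : t i = x) (hj : t j = x) :
    2 ≤ mult t x := by
  classical
  exact Finset.one_lt_card.mpr ⟨i, by simp [hi], j, by simp [hj], hij⟩

theorem exists_other {t : Fin n → K} {x : K} (h : 2 ≤ mult t x) (i : Fin n) : ∃ j, j ≠ i ∧ t j = x := by
  classical
  obtain ⟨a, ha, b, hb, hab⟩ := Finset.one_lt_card.mp h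
  simp only [Finset.mem_filter] at ha hb
  by_cases h1 : a = i
  · exact ⟨b, fun e => hab (h1.trans e.symm), hb.2⟩
  · exact ⟨a, h1, ha.2⟩

theorem mult_succ {m : ℕ} (t : Fin (m + 1) → K) (x : K) [Decidable (t 0 = x)] :
    mult t x = mult (fun i : Fin m => t i.succ) x + if t 0 = x then 1 else 0 := by
  classical
  rw [mult, mult, Finset.card_filter, Finset.card_filter, Fin.sum_univ_succ, add_comm]
  congr 1
  split_ifs <;> rfl

/-- The last value occurs most often. -/
def Shape (t : Fin (n + 1) → K) (p : Prop) : Prop :=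
  (∀ i, t i ≠ t (Fin.last n) → mult t (t i) ≤ mult t (t (Fin.last n)) ∧
    (p → t i = t 0 → mult t (t i) + 1 ≤ mult t (t (Fin.last n)))) ∧
  (p → 1 ≤ n → 2 ≤ mult t (t (Fin.last n)))

theorem const_of_first_eq_last {t : Fin (n + 1) → K} (hg : Grouped t) (h : t 0 = t (Fin.last n))
    (i : Fin (n + 1)) : t i = t 0 := by
  have key : ∀ (m : ℕ) (hm : m < n + 1), t ⟨m, hm⟩ = t 0 := by
    intro m
    induction m with
    | zero => intro _; rfl
    | succ m ihm =>
      intro hm
      have hm' := ihm (Nat.lt_of_succ_lt hm)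
      refine (hg ⟨m, Nat.lt_of_succ_lt hm⟩ (Fin.last _) ?_ (hm'.trans h) hm).trans hm'
      simp [Fin.lt_def]
      omega
  exact key i.val i.isLt

theorem before_last {t : Fin (n + 2) → K} (hg : Grouped t) (h : 2 ≤ mult t (t (Fin.last (n + 1)))) :
    t ⟨n, by omega⟩ = t (Fin.last (n + 1)) := by
  obtain ⟨j, hj, hjt⟩ := exists_other h (Fin.last (n + 1))
  have hj' : j.val ≤ n := by
    have : j.val ≠ n + 1 := fun e => hj (Fin.ext (by simpa using e))
    omega
  have key : ∀ (m : ℕ) (hm : m < n + 2), j.val ≤ m → t ⟨m, hm⟩ = t (Fin.last (n + 1)) := by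
    intro m
    induction m with
    | zero =>
      intro hm h0
      rwa [show (⟨0, hm⟩ : Fin (n + 2)) = j from Fin.ext (by simp; omega)]
    | succ m ihm =>
      intro hm hjm
      rcases eq_or_lt_of_le hjm with e | e
      · rwa [show (⟨m + 1, hm⟩ : Fin (n + 2)) = j from Fin.ext (by simp [e])]
      · have hm' := ihm (Nat.lt_of_succ_lt hm) (by omega)
        refine (hg ⟨m, Nat.lt_of_succ_lt hm⟩ (Fin.last _) ?_ hm' hm).trans hm'
        simp [Fin.lt_def]
        omega
  exact key n (by omega) hj'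

/-- The scalars whose rank has to be kept. -/
def Need (t : Fin n → K) (p : Prop) (σ : K) : Prop :=
  ∃ i, σ = t i ^ 2 ∧ ((∃ j, j ≠ i ∧ t j = t i) ∨ (p ∧ i.val = 0))

theorem need_tail {m : ℕ} {t : Fin (m + 2) → K} {p : Prop} {σ : K}
    (h : Need (fun i : Fin (m + 1) => t i.succ) (t 1 = t 0) σ) : Need t p σ := by
  obtain ⟨i, rfl, ⟨j, hj, e⟩ | ⟨e, hi⟩⟩ := h
  · exact ⟨i.succ, rfl, Or.inl ⟨j.succ, fun e' => hj (Fin.succ_inj.mp e'), e⟩⟩
  · obtain rfl : i = 0 := Fin.ext hi
    exact ⟨1, rfl, Or.inl ⟨0, by simp, e.symm⟩⟩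

theorem exists_LU_diag' (T : Finset K) (hT : T.card = 4)
    (hT5 : (2 : K) ≠ 0 → ∃ T' : Finset K, T'.card = 5) :
    ∀ (k : ℕ) (V : Type u) [AddCommGroup V] [Module K V] [FiniteDimensional K V],
      finrank K V = k + 1 → ∀ t : Fin (k + 1) → K, (∀ i, t i ≠ 0) → Grouped t → ∀ p : Prop,
      Shape t p →
      ∀ A : Module.End K V, LinearMap.det A = (∏ i, t i) ^ 2 → (1 ≤ k → ∀ μ : K, A ≠ μ • 1) →
      (∀ σ, Need t p σ → 1 ≤ k → 2 ≤ finrank K (LinearMap.range (A - σ • 1))) →
      ∀ c0 : V, c0 ≠ 0 → ∀ r0 : Module.Dual K V, r0 ≠ 0 →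
      ∃ (b : Basis (Fin (k + 1)) K V) (L U : Matrix (Fin (k + 1)) (Fin (k + 1)) K),
        LowOk t L ∧ LowOk t Uᵀ ∧ LinearMap.toMatrix b b A = L * U ∧
          (p → b.repr c0 0 ≠ 0 ∧ r0 (b 0) ≠ 0) := by
  intro k
  induction k with
  | zero =>
    intro V _ _ _ hV t ht _ p _ A hdet _ _ c0 hc0 r0 hr0
    let b : Basis (Fin 1) K V := Module.finBasisOfFinrankEq K V hV
    have h1 : LowOk t (diagonal t) :=
      ⟨fun i j h => by omega, fun i => diagonal_apply_eq _ _, fun i h => absurd h (by omega)⟩
    refine ⟨b, diagonal t, diagonal t, h1, by rwa [diagonal_transpose], ?_, fun _ => ⟨fun e => ?_, fun e => ?_⟩⟩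
    · rw [diagonal_mul_diagonal]
      ext i j
      obtain rfl : i = 0 := Fin.fin_one_eq_zero i
      obtain rfl : j = 0 := Fin.fin_one_eq_zero j
      rw [← LinearMap.det_toMatrix b, det_fin_one, Fin.prod_univ_one] at hdet
      rw [hdet, diagonal_apply_eq]
      ring
    · refine hc0 (b.repr.map_eq_zero_iff.mp (Finsupp.ext fun i => ?_))
      rw [Fin.fin_one_eq_zero i, e]
      rfl
    · refine hr0 (b.ext fun i => ?_)
      rw [Fin.fin_one_eq_zero i, e, LinearMap.zero_apply]
  | succ k ih =>
    intro V _ _ _ hV t ht hg p hshape A hdet hA hN c0 hc0 r0 hr0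
    have ht0 := ht 0
    set a := t 0 ^ 2 with ha'
    have ha : a ≠ 0 := pow_ne_zero _ ht0
    by_cases hall : ∀ i, t i = t 0
    · -- one group: rescale to the unipotent factorisation
      have hconst := hall
      have hdet' : LinearMap.det (a⁻¹ • A) = 1 := by
        rw [LinearMap.det_smul, hdet, hV, Finset.prod_congr rfl (fun i _ => hconst i), Finset.prod_const,
          Finset.card_univ, Fintype.card_fin, ← pow_mul, mul_comm _ 2, pow_mul, ← mul_pow, ← ha',
          inv_mul_cancel₀ ha, one_pow]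
      have hrange : LinearMap.range (a⁻¹ • A - 1) = LinearMap.range (A - a • 1) := by
        rw [show a⁻¹ • A - 1 = a⁻¹ • (A - a • 1) by rw [smul_sub, inv_smul_smul₀ ha]]
        exact LinearMap.range_smul _ _ (inv_ne_zero ha)
      have hgood : 1 ≤ k + 1 → Good (a⁻¹ • A) := fun _ => by
        refine ⟨hrange ▸ hN a ⟨0, rfl, Or.inl ⟨1, by simp, hconst 1⟩⟩ (by omega), fun μ e => ?_⟩
        refine hA (by omega) (a * μ) ?_
        rw [mul_smul, ← e, smul_inv_smul₀ ha]
      obtain ⟨b, L, U, hL, hU, hLU, hc, hr⟩ :=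
        exists_LU T hT hT5 (k + 1) V hV (a⁻¹ • A) hdet' hgood c0 hc0 r0 hr0
      have ok : ∀ {M : Matrix (Fin (k + 1 + 1)) (Fin (k + 1 + 1)) K}, RegLower M → LowOk t (t 0 • M) :=
        fun {M} h => ⟨fun i j hij => by simp [h.1 i j hij], fun i => by simp [h.2.1 i, hconst i],
          fun i hi _ => by simpa [ht0] using h.2.2 ⟨i.val + 1, hi⟩ i rfl⟩
      refine ⟨b, t 0 • L, t 0 • U, ok hL, by rw [transpose_smul]; exact ok hU, ?_, fun _ => ⟨hc, hr⟩⟩
      rw [Matrix.smul_mul, Matrix.mul_smul, ← hLU, map_smul, smul_smul, smul_smul, ← sq, ← ha',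
        mul_inv_cancel₀ ha, one_smul]
    · -- one step
      have hinj : Function.Injective A := by
        refine LinearMap.ker_eq_bot.mp (le_bot_iff.mp fun x hx => (mem_bot K).mpr ?_)
        by_contra hx0
        have h0 := LinearMap.det_eq_zero_iff_ker_ne_bot.mpr
          (fun e => hx0 ((mem_bot K).mp (e ▸ hx)) : LinearMap.ker A ≠ ⊥)
        rw [hdet] at h0
        exact pow_ne_zero _ (Finset.prod_ne_zero_iff.mpr fun i _ => ht i) h0
      classical
      -- the tail
      set t' : Fin (k + 1) → K := fun i => t i.succ with ht'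
      have hg' : Grouped t' := fun i j hij e h => hg i.succ j.succ (Fin.succ_lt_succ_iff.mpr hij) e
        (by simpa using h)
      set last := Fin.last (k + 1) with hlastdef
      have h0l : t 0 ≠ t last := fun e => hall (const_of_first_eq_last hg e)
      have hsh1 : ∀ i, t i ≠ t last → mult t (t i) ≤ mult t (t last) ∧
          (p → t i = t 0 → mult t (t i) + 1 ≤ mult t (t last)) := hshape.1
      have hlast' : t' (Fin.last k) = t last := rfl
      have hmlast : mult t' (t last) = mult t (t last) := by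
        rw [mult_succ t (t last), if_neg h0l, add_zero]
      have hshape' : Shape t' (t 1 = t 0) := by
        refine ⟨fun i hi => ?_, fun e _ => ?_⟩
        · rw [hlast', hmlast]
          rw [hlast'] at hi
          have h1 := (hsh1 i.succ hi).1
          rw [mult_succ t (t i.succ)] at h1
          refine ⟨le_trans (Nat.le_add_right _ _) h1, fun e e' => ?_⟩
          rw [if_pos (e.symm.trans (by simpa [t'] using e'.symm))] at h1
          exact h1
        · rw [hlast', hmlast]
          have h1 := (hsh1 0 h0l).1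
          have h2 := two_le_mult (t := t) (i := 1) (j := 0) (by simp) e rfl
          omega
      -- the scalars to keep
      set Sg : Finset K := (Finset.univ.image fun i => t' i ^ 2).filter fun σ =>
        Need t' (t 1 = t 0) σ ∧ 1 ≤ k with hSgdef
      have hmem : ∀ σ, σ ∈ Sg ↔ Need t' (t 1 = t 0) σ ∧ 1 ≤ k := fun σ => by
        simp only [Sg, Finset.mem_filter, Finset.mem_image, Finset.mem_univ, true_and]
        exact ⟨fun h => h.2, fun h => ⟨let ⟨i, hi, _⟩ := h.1; ⟨i, hi.symm⟩, h⟩⟩
      -- a repeated value in the tail forces the last two to agree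
      have hlast2 : ∀ σ ∈ Sg, 2 ≤ mult t (t last) := by
        intro σ hσ
        obtain ⟨⟨i, -, hi⟩, hk⟩ := (hmem σ).mp hσ
        rcases hi with ⟨j, hj, e⟩ | ⟨e, -⟩
        · by_cases hil : t' i = t last
          · exact two_le_mult (t := t) (i := i.succ) (j := j.succ) (fun e' => hj (Fin.succ_inj.mp e').symm)
              hil (e.trans hil)
          · have h1 := (hsh1 i.succ hil).1
            have h2 := two_le_mult (t := t) (x := t i.succ) (i := i.succ) (j := j.succ)
              (fun e' => hj (Fin.succ_inj.mp e').symm) rfl e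
            omega
        · have := hshape'.2 e hk
          rwa [hlast', hmlast] at this
      have hpen : ∀ σ ∈ Sg, t ⟨k, by omega⟩ = t last := fun σ hσ => before_last hg (hlast2 σ hσ)
      have hN3 : ∀ σ ∈ Sg, 3 ≤ finrank K V := fun σ hσ => by have := ((hmem σ).mp hσ).2; omega
      have hdet3 : finrank K V = 3 → ∀ σ ∈ Sg, σ ≠ 0 ∧ LinearMap.det A = a * σ ^ 2 := by
        intro h3 σ hσ
        obtain rfl : k = 1 := by omega
        have e12 : t 1 = t 2 := hpen σ hσ
        obtain ⟨⟨i, rfl, -⟩, -⟩ := (hmem σ).mp hσ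
        have hi : t' i = t 2 := by
          fin_cases i
          · exact e12
          · rfl
        refine ⟨pow_ne_zero _ (ht _), ?_⟩
        rw [hdet, Fin.prod_univ_three, hi, e12, ha']
        ring
      have hQ3 : finrank K V = 3 → Sg.Nonempty → ¬ (t 1 = t 0) := by
        rintro h3 ⟨σ, hσ⟩ e
        obtain rfl : k = 1 := by omega
        exact h0l (e.symm.trans (hpen σ hσ))
      have hcard : Sg.card ≤ 1 ∨ 5 ≤ finrank K V ∨ (finrank K V = 4 ∧ Sg.card ≤ 2 ∧ ¬ p) := by
        by_cases h5 : 5 ≤ finrank K V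
        · exact Or.inr (Or.inl h5)
        by_cases h1 : Sg.card ≤ 1
        · exact Or.inl h1
        obtain ⟨σ, hσ, τ, hτ, hne⟩ := Finset.one_lt_card.mp (not_le.mp h1)
        have hk : k = 2 := by
          rcases Nat.lt_or_ge k 2 with hk | hk
          · exfalso
            obtain rfl : k = 1 := by have := ((hmem σ).mp hσ).2; omega
            have key : ∀ ρ ∈ Sg, ρ = t 2 ^ 2 := fun ρ hρ => by
              have e12 : t 1 = t 2 := hpen ρ hρ
              obtain ⟨⟨i, rfl, -⟩, -⟩ := (hmem ρ).mp hρ
              fin_cases i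
              · exact congrArg (· ^ 2) e12
              · rfl
            exact hne ((key σ hσ).trans (key τ hτ).symm)
          · omega
        subst hk
        have e23 : t 2 = t 3 := hpen σ hσ
        have key : ∀ ρ ∈ Sg, ρ = t 1 ^ 2 ∨ ρ = t 3 ^ 2 := fun ρ hρ => by
          obtain ⟨⟨i, rfl, -⟩, -⟩ := (hmem ρ).mp hρ
          fin_cases i
          · exact Or.inl rfl
          · exact Or.inr (congrArg (· ^ 2) e23)
          · exact Or.inr rfl
        refine Or.inr (Or.inr ⟨by omega, ?_, fun hp => ?_⟩)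
        · exact (Finset.card_le_card (t := {t 1 ^ 2, t 3 ^ 2}) fun ρ hρ => by
            simpa using key ρ hρ).trans Finset.card_le_two
        · have h13 : t 1 ≠ t 3 := by
            intro e
            exact hne (by rcases key σ hσ with r | r <;> rcases key τ hτ with r' | r' <;> simp [r, r', e])
          -- the value `t 1 ^ 2` is needed
          have hσ1 : t 1 ^ 2 ∈ Sg := by
            rcases key σ hσ with r | r <;> rcases key τ hτ with r' | r'
            · exact r ▸ hσ
            · exact r ▸ hσ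
            · exact r' ▸ hτ
            · exact absurd (r.trans r'.symm) hne
          have hτ3 : t 1 ^ 2 ≠ t 3 ^ 2 := by
            intro e
            exact hne (by rcases key σ hσ with r | r <;> rcases key τ hτ with r' | r' <;> simp [r, r', e])
          obtain ⟨⟨i, hi2, hi⟩, -⟩ := (hmem _).mp hσ1
          have hi0 : i = 0 := by
            fin_cases i
            · rfl
            · exact absurd (hi2.trans (congrArg (· ^ 2) e23)) hτ3
            · exact absurd hi2 hτ3
          subst hi0
          have ht10 : t 1 = t 0 := by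
            rcases hi with ⟨j, hj, e⟩ | ⟨e, -⟩
            · fin_cases j
              · exact absurd rfl hj
              · exact absurd ((e.symm.trans e23) : t 1 = t 3) h13
              · exact absurd (e.symm : t 1 = t 3) h13
            · exact e
          have hA1 := (hsh1 0 h0l).2 hp rfl
          have hA2 := two_le_mult (t := t) (i := 1) (j := 0) (by simp) ht10 rfl
          have hA3 : mult t (t last) ≤ 2 := by
            classical
            refine (Finset.card_le_card (t := {2, 3}) fun x hx => ?_).trans Finset.card_le_two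
            simp only [Finset.mem_filter] at hx
            have hx2 : t x = t 3 := hx.2
            fin_cases x
            · exact absurd hx2 h0l
            · exact absurd hx2 h13
            · simp
            · simp
          omega
      have hSg : ∀ σ ∈ Sg, 2 ≤ finrank K (LinearMap.range (A - σ • 1)) := fun σ hσ =>
        hN σ (need_tail ((hmem σ).mp hσ).1) (by omega)
      have hPr : p → 2 ≤ finrank K (LinearMap.range (A - a • 1)) := fun hp =>
        hN a ⟨0, rfl, Or.inr ⟨hp, rfl⟩⟩ (by omega)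
      have hQr : t 1 = t 0 → 2 ≤ finrank K (LinearMap.range (A - a • 1)) := fun e =>
        hN a ⟨0, rfl, Or.inl ⟨1, by simp, e⟩⟩ (by omega)
      obtain ⟨v, φ, hφv, hφA, hc, hP, hQ, hrk, hns⟩ :=
        exists_stepA T hT A hinj (hA (by omega)) a ha Sg hSg hN3 hdet3 p (t 1 = t 0) hcard hQ3 hPr hQr r0 hr0 c0 hc0
      have hW := finrank_ker_add_one v φ (by rw [hφv]; exact one_ne_zero)
      let r : Module.Dual K (LinearMap.ker φ) := φ ∘ₗ A ∘ₗ (LinearMap.ker φ).subtype
      obtain ⟨r', hr', hrr⟩ : ∃ r' : Module.Dual K (LinearMap.ker φ), r' ≠ 0 ∧ (t 1 = t 0 → r' = r) := by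
        by_cases hr : r = 0
        · refine ⟨(Module.finBasisOfFinrankEq K (LinearMap.ker φ) (n := k + 1) (by omega)).coord 0,
            fun e => ?_, fun e => ?_⟩
          · have := LinearMap.congr_fun e (Module.finBasisOfFinrankEq K (LinearMap.ker φ) (n := k + 1) (by omega) 0)
            simp at this
          · obtain ⟨w, hw, hwA⟩ := hQ e
            exact absurd (LinearMap.congr_fun hr ⟨w, hw⟩) hwA
        · exact ⟨r, hr, fun _ => rfl⟩
      have hdet' : LinearMap.det (schurA A v φ a hφA ha) = (∏ i, t' i) ^ 2 := by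
        have h := det_schurA hφv hφA ha
        rw [hdet, Fin.prod_univ_succ, mul_pow] at h
        exact mul_left_cancel₀ ha h
      obtain ⟨b, L, U, hL, hU, hLU, hcr⟩ := ih (LinearMap.ker φ) (by omega) t' (fun i => ht _) hg'
        (t 1 = t 0) hshape' (schurA A v φ a hφA ha) hdet' (fun hk => hns (by omega))
        (fun σ hσ hk => hrk σ ((hmem σ).mpr ⟨hσ, hk⟩))
        ⟨A v - a • v, sub_smul_mem hφv hφA⟩ (fun e => hc (congrArg Subtype.val e)) r' hr'
      set cc := (b.repr ⟨A v - a • v, sub_smul_mem hφv hφA⟩ : Fin (k + 1) → K)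
      set rr : Fin (k + 1) → K := fun j => φ (A (b j))
      refine ⟨consBasis v φ hφv b, blk (t 0) 0 ((t 0)⁻¹ • cc) L, blk (t 0) ((t 0)⁻¹ • rr) 0 U,
        LowOk.blk hL fun e => ?_, ?_, ?_, fun hp => ⟨?_, ?_⟩⟩
      · simpa [ht0] using (hcr e).1
      · have et : (blk (t 0) ((t 0)⁻¹ • rr) 0 U)ᵀ = blk (t 0) 0 ((t 0)⁻¹ • rr) Uᵀ := by
          ext i j
          refine Fin.cases ?_ (fun i => ?_) i <;> refine Fin.cases ?_ (fun j => ?_) j <;> simp
        rw [et]
        refine LowOk.blk hU fun e => ?_
        have h := (hcr e).2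
        rw [hrr e] at h
        exact mul_ne_zero (inv_ne_zero ht0) h
      · rw [toMatrix_schurA hφv hφA ha b, hLU, blk_mul]
        congr 1
        · simp [ha', sq]
        · simp [rr, smul_smul, ht0]
        · simp [cc, smul_smul, ht0]
        · congr 1
          ext i j
          simp [vecMulVec_apply, rr, cc, ha']
          field_simp
      · rw [consBasis_repr v φ hφv b c0 ⟨c0 - φ c0 • v, by simp [hφv]⟩ rfl, Fin.cons_zero]
        exact (hP hp).2
      · rw [consBasis_zero]
        exact (hP hp).1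

/-- Every list of values can be grouped with the most frequent one last. -/
theorem exists_shape [Fintype K] (t : Fin (n + 1) → K) :
    ∃ e : Equiv.Perm (Fin (n + 1)), Grouped (t ∘ e) ∧ Shape (t ∘ e) False := by
  classical
  set key : Fin (n + 1) → ℕ := fun i => mult t (t i) * Fintype.card K + (Fintype.equivFin K (t i)).val
    with hkey
  refine ⟨Tuple.sort key, ?_, ?_⟩
  · intro i j hij e h
    have hmono := Tuple.monotone_sort key
    have h1 := hmono (show i ≤ ⟨i.val + 1, h⟩ from Nat.le_succ _)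
    have h2 := hmono (show (⟨i.val + 1, h⟩ : Fin (n + 1)) ≤ j from Nat.succ_le_of_lt hij)
    simp only [Function.comp_apply] at e h1 h2 ⊢
    set x := t (Tuple.sort key i)
    set y := t (Tuple.sort key ⟨i.val + 1, h⟩)
    have h3 : mult t y * Fintype.card K + (Fintype.equivFin K y).val =
        mult t x * Fintype.card K + (Fintype.equivFin K x).val := by
      simp only [key] at h1 h2
      rw [← e] at h2
      exact le_antisymm h2 h1
    have := congrArg (· % Fintype.card K) h3
    simp only [Nat.mul_add_mod_self_right, Nat.mod_eq_of_lt (Fin.isLt _)] at this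
    exact (Fintype.equivFin K).injective (Fin.ext this)
  · have hm : ∀ x, mult (t ∘ Tuple.sort key) x = mult t x := fun x => by
      classical
      rw [mult, mult]
      refine Finset.card_bij (fun i _ => Tuple.sort key i) (fun i hi => by simpa using hi)
        (fun i _ j _ h => (Tuple.sort key).injective h) fun j hj => ⟨(Tuple.sort key).symm j, by simpa using hj, by simp⟩
    refine ⟨fun i _ => ⟨?_, False.elim⟩, False.elim⟩
    have h := Tuple.monotone_sort key (Fin.le_last i)
    rw [hm, hm]
    simp only [key, Function.comp_apply] at h ⊢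
    have hc : 0 < Fintype.card K := Fintype.card_pos
    have h2 := Nat.div_le_div_right (c := Fintype.card K) h
    simpa [Nat.mul_add_div hc, Nat.mul_comm _ (Fintype.card K), Nat.div_eq_of_lt (Fin.isLt _)] using h2

/-- A wide matrix is similar to a product of two cyclic matrices with spectrum `t`. -/
theorem exists_diag_prod [Fintype K] (h4 : 4 ≤ Fintype.card K) (hn : 2 ≤ n) (t : Fin n → K)
    (ht : ∀ i, t i ≠ 0) (g : Matrix (Fin n) (Fin n) K) (hw : Wide g) (hdet : g.det = (∏ i, t i) ^ 2) :
    ∃ L U : Matrix (Fin n) (Fin n) K, IsCyc L ∧ L.charpoly = ∏ i, (Polynomial.X - Polynomial.C (t i)) ∧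
      IsCyc U ∧ U.charpoly = ∏ i, (Polynomial.X - Polynomial.C (t i)) ∧ Sim (L * U) g := by
  have hK : 4 ≤ Cardinal.mk K := by rw [Cardinal.mk_fintype]; exact_mod_cast h4
  obtain ⟨T, hT⟩ := exists_four hK
  obtain ⟨k, rfl⟩ : ∃ k, n = k + 1 := ⟨n - 1, by omega⟩
  obtain ⟨e, hg, hsh⟩ := exists_shape t
  have hp : ∏ i, (t ∘ e) i = ∏ i, t i := Equiv.prod_comp e t
  have hq : ∏ i, (Polynomial.X - Polynomial.C ((t ∘ e) i)) = ∏ i, (Polynomial.X - Polynomial.C (t i)) :=
    Equiv.prod_comp e fun i => Polynomial.X - Polynomial.C (t i)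
  set A : Module.End K (Fin (k + 1) → K) := Matrix.toLin' g with hA
  have hgA : LinearMap.toMatrix' A = g := LinearMap.toMatrix'_toLin' g
  have hsc : 1 ≤ k → ∀ μ : K, A ≠ μ • 1 := fun _ μ e => hw.ne_smul μ (by
    rw [← hgA, e, map_smul, LinearMap.toMatrix'_one])
  obtain ⟨b, L, U, hL, hU, hLU, -⟩ := exists_LU_diag' T hT (exists_five hK) k _ (Module.finrank_fin_fun K)
    (t ∘ e) (fun i => ht _) hg False hsh A
    (by rw [hA, LinearMap.det_toLin', hdet, hp]) hsc (fun σ _ _ => by
      have := hw σ
      rwa [Matrix.rank, ← Matrix.toLin'_apply', map_sub, map_smul, Matrix.toLin'_one] at this)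
    (Pi.single 0 1) (by simp) (LinearMap.proj 0) (fun e => by simpa using LinearMap.congr_fun e (Pi.single 0 1))
  obtain ⟨X, hX⟩ := toMatrix'_eq_conj A b
  rw [hLU, hgA] at hX
  exact ⟨L, U, (hL.isCyc hg).1, (hL.isCyc hg).2.trans hq, (hU.isCyc_transpose hg).1,
    (hU.isCyc_transpose hg).2.trans hq, Sim.of_units X hX⟩

end CfsgLib.CoverPSL
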