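import Cfsg.Agent.CoverPSL.Link
import Cfsg.Agent.CoverPSL.LU
import Mathlib.LinearAlgebra.Basis.VectorSpace

/-!
# Four and five conjugates

If `x` has a partner with a cyclic product of split spectrum, four conjugates of `x` give all wide
matrices and five give everything.
-/

set_option autoImplicit false

namespace CfsgLib.CoverPSL

open Matrix Polynomial CfsgLib.OreSL CfsgLib.Sourour

variable {F : Type*} [Field F] {n : ℕ}

theorem lower_aeval {M : Matrix (Fin n) (Fin n) F} (hM : ∀ i j : Fin n, i.val < j.val → M i j = 0)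
    (p : F[X]) :
    (∀ i j : Fin n, i.val < j.val → aeval M p i j = 0) ∧ ∀ i, aeval M p i i = p.eval (M i i) := by
  induction p using Polynomial.induction_on' with
  | add p q hp hq =>
    exact ⟨fun i j h => by rw [map_add, Matrix.add_apply, hp.1 i j h, hq.1 i j h, add_zero],
      fun i => by rw [map_add, Matrix.add_apply, hp.2, hq.2, eval_add]⟩
  | monomial k a =>
    have hk : (∀ i j : Fin n, i.val < j.val → (M ^ k) i j = 0) ∧ ∀ i, (M ^ k) i i = M i i ^ k := by
      induction k with
      | zero =>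
        exact ⟨fun i j h => by rw [pow_zero, one_apply_ne (Fin.ne_of_val_ne (by omega))],
          fun i => by rw [pow_zero, one_apply_eq, pow_zero]⟩
      | succ k ih =>
        have h := lower_mul ih.1 hM
        rw [← pow_succ] at h
        exact ⟨h.1, fun i => by rw [h.2.1, ih.2, pow_succ]⟩
    rw [aeval_monomial, ← Algebra.smul_def]
    exact ⟨fun i j h => by rw [Matrix.smul_apply, hk.1 i j h, smul_zero],
      fun i => by rw [Matrix.smul_apply, hk.2, eval_monomial, smul_eq_mul]⟩

variable [Fintype F]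

/-- A cyclic matrix with split spectrum and a simple eigenvalue has centraliser elements of every
determinant. -/
theorem exists_centraliser_det {T : Matrix (Fin n) (Fin n) F} {t : Fin n → F}
    (hT : T.charpoly = ∏ i, (X - C (t i))) (hc : IsCyc T) {i₀ : Fin n}
    (hs : ∀ j, t j = t i₀ → j = i₀) (u : Fˣ) :
    ∃ G : GL (Fin n) F, (G : Matrix (Fin n) (Fin n) F) * T = T * (G : Matrix (Fin n) (Fin n) F) ∧
      GeneralLinearGroup.det G = u := by
  classical
  obtain ⟨m, rfl⟩ : ∃ m, n = m + 1 := ⟨n - 1, by have := i₀.isLt; omega⟩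
  obtain ⟨e, hg, -⟩ := exists_shape t
  set d : ℕ → F := fun i => if h : i < m + 1 then (t ∘ e) ⟨i, h⟩ else 0
  set M : Matrix (Fin (m + 1)) (Fin (m + 1)) F := bid d
  have hMl : ∀ i j : Fin (m + 1), i.val < j.val → M i j = 0 := bid_lower d
  have hMd : ∀ i, M i i = (t ∘ e) i := fun i => by simp only [M, d, bid_diag, dif_pos i.isLt, Fin.eta]
  have hMc : IsCyc M := isCyc_lower hMl (by simpa only [hMd] using hg) fun i h _ => by
    rw [show M ⟨i.val + 1, h⟩ i = 1 from bid_sub d _ _ rfl]
    exact one_ne_zero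
  have hMp : M.charpoly = T.charpoly := by
    rw [charpoly_lower hMl, hT]
    simp only [hMd]
    exact Equiv.prod_comp e fun i => X - C (t i)
  obtain ⟨Q, hQ⟩ := exists_conj_of_sim (sim_of_isCyc hMc hc hMp)
  set q : F[X] := ∏ j ∈ Finset.univ.erase i₀, (X - C (t j))
  have hq : q.eval (t i₀) ≠ 0 := by
    rw [eval_prod]
    refine Finset.prod_ne_zero_iff.mpr fun j hj => ?_
    rw [eval_sub, eval_X, eval_C, sub_ne_zero]
    exact fun h => (Finset.mem_erase.mp hj).1 (hs j h.symm)
  set p : F[X] := 1 + C (((u : F) - 1) / q.eval (t i₀)) * q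
  have hp : ∀ j, p.eval (t j) = if j = i₀ then (u : F) else 1 := by
    intro j
    simp only [p, eval_add, eval_one, eval_mul, eval_C]
    split_ifs with h
    · rw [h, div_mul_cancel₀ _ hq]
      ring
    · rw [show q.eval (t j) = 0 by
        rw [eval_prod]
        exact Finset.prod_eq_zero (Finset.mem_erase.mpr ⟨h, Finset.mem_univ _⟩) (by simp), mul_zero, add_zero]
  obtain ⟨hPl, hPd⟩ := lower_aeval hMl p
  have hdet : (aeval M p).det = u := by
    rw [Matrix.det_of_isLowerTriangular _ (fun i j h => hPl i j h)]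
    simp only [hPd, hMd, Function.comp_apply, hp]
    rw [Equiv.prod_comp e fun j => if j = i₀ then (u : F) else 1]
    simp
  set G₀ : GL (Fin (m + 1)) F := GeneralLinearGroup.mkOfDetNeZero (aeval M p) (by rw [hdet]; exact u.ne_zero)
  have hcomm : (G₀ : Matrix (Fin (m + 1)) (Fin (m + 1)) F) * M = M * (G₀ : Matrix (Fin (m + 1)) (Fin (m + 1)) F) := by
    show aeval M p * M = M * aeval M p
    have h1 := map_mul (aeval M (R := F)) p X
    have h2 := map_mul (aeval M (R := F)) X p
    rw [aeval_X] at h1 h2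
    rw [← h1, ← h2, mul_comm]
  refine ⟨Q * G₀ * Q⁻¹, ?_, ?_⟩
  · rw [hQ]
    simp only [Units.val_mul, Matrix.mul_assoc]
    rw [← Matrix.mul_assoc ((Q⁻¹ : GL (Fin (m + 1)) F) : Matrix (Fin (m + 1)) (Fin (m + 1)) F) (Q : Matrix (Fin (m + 1)) (Fin (m + 1)) F),
      ← Matrix.mul_assoc ((Q⁻¹ : GL (Fin (m + 1)) F) : Matrix (Fin (m + 1)) (Fin (m + 1)) F) (Q : Matrix (Fin (m + 1)) (Fin (m + 1)) F),
      Units.inv_mul, Matrix.one_mul, Matrix.one_mul, ← Matrix.mul_assoc (G₀ : Matrix (Fin (m + 1)) (Fin (m + 1)) F), hcomm,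
      Matrix.mul_assoc]
  · rw [map_mul, map_mul, map_inv, mul_comm (GeneralLinearGroup.det Q), mul_inv_cancel_right]
    exact Units.ext (by simpa [G₀] using hdet)

omit [Fintype F] in
theorem Mate.prod_eq {x y : Matrix (Fin n) (Fin n) F} {t : Fin n → F} (h : Mate x y t) :
    ∏ i, t i = (x * y).det := by
  have h1 := Matrix.det_eq_sign_charpoly_coeff (x * y)
  rw [h.1, coeff_zero_eq_eval_zero, eval_prod, Fintype.card_fin] at h1
  simp only [eval_sub, eval_X, eval_C, zero_sub] at h1
  rw [Finset.prod_neg, Finset.card_univ, Fintype.card_fin, ← mul_assoc, ← mul_pow, neg_one_mul, neg_neg,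
    one_pow, one_mul] at h1
  exact h1.symm

/-- Four conjugates give all wide matrices. -/
theorem cov_four (h4 : 4 ≤ Fintype.card F) (hn : 2 ≤ n) {N : Subgroup Fˣ} {L : Set (F × F)}
    {x : Matrix (Fin n) (Fin n) F} (hx0 : x.det ≠ 0) {t : Fin n → F} (hx : Sq N L x t)
    (hN : N = ⊤ ∨ ∃ i, ∀ j, t j = t i → j = i) {g : Matrix (Fin n) (Fin n) F} (hg : Wide g)
    (hdet : g.det = x.det ^ 4) : Cov N x 4 g := by
  obtain ⟨P, hP, hM, -⟩ := hx 1
  rw [one_mul] at hP
  set y := (P : Matrix (Fin n) (Fin n) F) * x * ((P⁻¹ : GL (Fin n) F) : Matrix (Fin n) (Fin n) F)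
  have hy : SimIn N x y := SimIn.conj P hP x
  have hprod : ∏ i, t i = x.det ^ 2 := by rw [hM.prod_eq, det_mul, ← hy.det_eq, sq]
  have ht : ∀ i, t i ≠ 0 := fun i =>
    Finset.prod_ne_zero_iff.mp (hprod ▸ pow_ne_zero _ hx0) i (Finset.mem_univ _)
  obtain ⟨A, B, hA, hAp, hB, hBp, hAB⟩ := exists_diag_prod h4 hn t ht g hg (by rw [hdet, hprod, ← pow_mul])
  have hT : IsCyc (x * y) := isCyc_of_eigLe hM.1 fun i => hM.2 _
  obtain ⟨Q, rfl⟩ := exists_conj_of_sim hAB
  rw [← mul_conj]
  have hcov : ∀ A : Matrix (Fin n) (Fin n) F, IsCyc A → A.charpoly = ∏ i, (X - C (t i)) →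
      Cov N x 2 ((Q : Matrix (Fin n) (Fin n) F) * A * ((Q⁻¹ : GL (Fin n) F) : Matrix (Fin n) (Fin n) F)) := by
    intro A hA hAp
    have h2 : Cov N x 2 (x * y) := (cov_one hy).cons (SimIn.refl N x)
    have hs : Sim (x * y) ((Q : Matrix (Fin n) (Fin n) F) * A * ((Q⁻¹ : GL (Fin n) F) : Matrix (Fin n) (Fin n) F)) :=
      (sim_of_isCyc hT hA (hM.1.trans hAp.symm)).trans (SimIn.conj Q (Subgroup.mem_top _) A).sim
    refine h2.conj (SimIn.of_top (fun u => ?_) (simIn_top_iff.2 hs))
    rcases hN with rfl | ⟨i, hi⟩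
    · exact ⟨1, by simp, Subgroup.mem_top _⟩
    · obtain ⟨G, hG, hGd⟩ := exists_centraliser_det hM.1 hT hi u⁻¹
      exact ⟨G, hG, by rw [hGd, mul_inv_cancel]; exact one_mem N⟩
  exact (hcov A hA hAp).mul (hcov B hB hBp)

omit [Fintype F] in
theorem rank_add_le' (A B : Matrix (Fin n) (Fin n) F) : (A + B).rank ≤ A.rank + B.rank := by
  refine le_trans (Submodule.finrank_mono (t := LinearMap.range A.mulVecLin ⊔ LinearMap.range B.mulVecLin) ?_)
    (Submodule.finrank_add_le_finrank_add_finrank _ _)
  rintro _ ⟨v, rfl⟩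
  rw [Matrix.mulVecLin_add, LinearMap.add_apply]
  exact Submodule.add_mem_sup ⟨v, rfl⟩ ⟨v, rfl⟩

omit [Fintype F] in
theorem Wide.of_mate {N : Subgroup Fˣ} {x y : Matrix (Fin n) (Fin n) F} {t : Fin n → F}
    (hy : SimIn N x y) (h : Mate x y t) (hn : 4 ≤ n) : Wide x := by
  intro μ
  have h1 : (x * y - (μ ^ 2) • 1).rank ≤ (x - μ • 1).rank + (x - μ • 1).rank := by
    have e : x * y - (μ ^ 2) • 1 = x * (y - μ • 1) + μ • (x - μ • 1) := by
      rw [Matrix.mul_sub, Matrix.mul_smul, Matrix.mul_one, smul_sub, smul_smul, sq]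
      abel
    rw [e]
    refine (rank_add_le' _ _).trans (add_le_add ?_ ?_)
    · refine (rank_mul_le_right _ _).trans (le_of_eq ?_)
      obtain ⟨P, -, rfl⟩ := hy.eq_conj
      rw [show (P : Matrix (Fin n) (Fin n) F) * x * ((P⁻¹ : GL (Fin n) F) : Matrix (Fin n) (Fin n) F) - μ • 1 =
          (P : Matrix (Fin n) (Fin n) F) * (x - μ • 1) * ((P⁻¹ : GL (Fin n) F) : Matrix (Fin n) (Fin n) F) by
        rw [Matrix.mul_sub, Matrix.sub_mul, Matrix.mul_smul, Matrix.smul_mul, Matrix.mul_one, Units.mul_inv],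
        rank_mul_eq_left_of_isUnit_det _ _ ((Matrix.isUnit_iff_isUnit_det _).mp (Units.isUnit _)),
        rank_mul_eq_right_of_isUnit_det _ _ ((Matrix.isUnit_iff_isUnit_det _).mp (Units.isUnit _))]
    · rw [← Matrix.one_mul (x - μ • 1), ← Matrix.smul_mul]
      exact (rank_mul_le_right (R := F) _ _).trans (le_of_eq (congrArg Matrix.rank (Matrix.one_mul _).symm))
  have h2 : n ≤ (x * y - (μ ^ 2) • 1).rank + 1 := h.2 (μ ^ 2)
  omega

/-- Two vectors which are independent of their images. -/
theorem exists_pair (h4 : 4 ≤ Fintype.card F) (hn : 5 ≤ n) {x : Matrix (Fin n) (Fin n) F} (hw : Wide x) :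
    ∃ u₁ u₂ : Fin n → F, LinearIndependent F ![u₁, u₂, x *ᵥ u₁, x *ᵥ u₂] := by
  classical
  set A : Module.End F (Fin n → F) := Matrix.toLin' x
  have hAv : ∀ v, A v = x *ᵥ v := fun v => Matrix.toLin'_apply x v
  have hr : ∀ μ : F, 2 ≤ Module.finrank F (LinearMap.range (A - μ • 1)) := fun μ => by
    have := hw μ
    rwa [Matrix.rank, ← Matrix.toLin'_apply', map_sub, map_smul, Matrix.toLin'_one] at this
  have hsc : ∀ μ : F, A ≠ μ • 1 := fun μ e => by
    have := hr μ
    rw [e, sub_self, LinearMap.range_zero, finrank_bot] at this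
    omega
  obtain ⟨T, hT⟩ : ∃ T : Finset F, T.card = 4 :=
    (Finset.exists_subset_card_eq (s := (Finset.univ : Finset F)) (n := 4) (by rw [Finset.card_univ]; omega)).imp
      fun _ h => h.2
  have hd := fun μ : F => (A - μ • 1).finrank_range_add_finrank_ker
  simp only [Module.finrank_fin_fun] at hd
  -- the first vector
  obtain ⟨u, hu, hu2⟩ : ∃ u, A u ∉ Submodule.span F {u} ∧
      ∀ μ : F, Module.finrank F (LinearMap.range (A - μ • 1)) = 2 → u ∉ LinearMap.range (A - μ • 1) := by
    by_cases h : ∃ μ : F, Module.finrank F (LinearMap.range (A - μ • 1)) = 2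
    · obtain ⟨μ, hμ⟩ := h
      have huniq : ∀ ν : F, Module.finrank F (LinearMap.range (A - ν • 1)) = 2 → ν = μ := by
        intro ν hν
        by_contra hne
        have s1 := Submodule.finrank_sup_add_finrank_inf_eq (LinearMap.ker (A - ν • 1)) (LinearMap.ker (A - μ • 1))
        rw [eigen_inf hne, finrank_bot] at s1
        have := Submodule.finrank_le (LinearMap.ker (A - ν • 1) ⊔ LinearMap.ker (A - μ • 1))
        rw [Module.finrank_fin_fun] at this
        have := hd ν
        have := hd μ
        omega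
      obtain ⟨u, hu⟩ := exists_avoid [LinearMap.range (A - μ • 1), LinearMap.ker (A - μ • 1)] T
        (by simp [hT]) (by
          simp only [List.mem_cons, List.not_mem_nil, or_false]
          rintro W (rfl | rfl)
          · intro e
            rw [e, finrank_top, Module.finrank_fin_fun] at hμ
            omega
          · intro e
            exact hsc μ (LinearMap.ext fun v => mem_eigen.mp (e ▸ Submodule.mem_top)))
      simp only [List.mem_cons, List.not_mem_nil, or_false, forall_eq_or_imp, forall_eq] at hu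
      refine ⟨u, fun hm => ?_, fun ν hν => huniq ν hν ▸ hu.1⟩
      obtain ⟨l, hl⟩ := Submodule.mem_span_singleton.mp hm
      rcases eq_or_ne l μ with rfl | hne
      · exact hu.2 (mem_eigen.mpr hl.symm)
      · exact hu.1 (eigen_le_range hne (mem_eigen.mpr hl.symm))
    · obtain ⟨u, -, -, hu⟩ := exists_nonEigen T hT A hsc (LinearMap.proj ⟨0, by omega⟩)
        (fun e => by simpa using LinearMap.congr_fun e (Pi.single (⟨0, by omega⟩ : Fin n) 1)) 0
      exact ⟨u, hu, fun μ hμ => absurd ⟨μ, hμ⟩ h⟩
  set P := Submodule.span F ({u, A u} : Set (Fin n → F))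
  obtain ⟨w, hw1, hw2⟩ : ∃ w, w ∉ P ∧ A w ∉ P ⊔ Submodule.span F {w} := by
    by_contra hcon
    push Not at hcon
    have hP2 : Module.finrank F P ≤ 2 := finrank_span_pair_le u (A u)
    have hinv : ∀ p ∈ P, A p ∈ P := by
      intro p hp
      by_contra hne
      obtain ⟨z, hz⟩ := exists_notMem_of_finrank_lt (U := P ⊔ Submodule.span F {A p}) (by
        rw [Module.finrank_fin_fun]
        have := Submodule.finrank_add_le_finrank_add_finrank P (Submodule.span F {A p})
        have := finrank_span_le_card ({A p} : Set (Fin n → F)) (R := F)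
        simp only [Set.toFinset_singleton, Finset.card_singleton] at this
        omega)
      have hzP : z ∉ P := fun h => hz (Submodule.mem_sup_left h)
      have hzp : z + p ∉ P := fun h => hzP (by simpa using sub_mem h hp)
      obtain ⟨a1, ha1, b1, hb1, e1⟩ := Submodule.mem_sup.mp (hcon z hzP)
      obtain ⟨a2, ha2, b2, hb2, e2⟩ := Submodule.mem_sup.mp (hcon (z + p) hzp)
      obtain ⟨c1, rfl⟩ := Submodule.mem_span_singleton.mp hb1
      obtain ⟨c2, rfl⟩ := Submodule.mem_span_singleton.mp hb2
      rw [map_add, ← e1] at e2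
      have he : A p = (a2 - a1 + c2 • p) + (c2 - c1) • z := by linear_combination (norm := module) -e2
      rcases eq_or_ne c2 c1 with rfl | hne'
      · exact hne (by rw [he, sub_self, zero_smul, add_zero]; exact add_mem (sub_mem ha2 ha1) (P.smul_mem _ hp))
      · refine hz ?_
        rw [show z = (c2 - c1)⁻¹ • (A p - (a2 - a1 + c2 • p)) by
          rw [he, add_sub_cancel_left, inv_smul_smul₀ (sub_ne_zero.2 hne')]]
        exact Submodule.smul_mem _ _ (sub_mem (Submodule.mem_sup_right (Submodule.mem_span_singleton_self _))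
          (Submodule.mem_sup_left (add_mem (sub_mem ha2 ha1) (P.smul_mem _ hp))))
    -- a single scalar works modulo `P`
    obtain ⟨z, hz⟩ := exists_notMem_of_finrank_lt (U := P) (by rw [Module.finrank_fin_fun]; omega)
    obtain ⟨a1, ha1, b1, hb1, e1⟩ := Submodule.mem_sup.mp (hcon z hz)
    obtain ⟨μ, rfl⟩ := Submodule.mem_span_singleton.mp hb1
    have hz' : A z - μ • z ∈ P := by rw [← e1, add_sub_cancel_right]; exact ha1
    have hall : ∀ y, A y - μ • y ∈ P := by
      intro y
      by_cases hy : y ∈ P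
      · exact sub_mem (hinv y hy) (P.smul_mem _ hy)
      obtain ⟨a2, ha2, b2, hb2, e2⟩ := Submodule.mem_sup.mp (hcon y hy)
      obtain ⟨ν, rfl⟩ := Submodule.mem_span_singleton.mp hb2
      have hy' : A y - ν • y ∈ P := by rw [← e2, add_sub_cancel_right]; exact ha2
      rcases eq_or_ne ν μ with rfl | hne
      · exact hy'
      by_cases hyz : y ∈ P ⊔ Submodule.span F {z}
      · obtain ⟨p, hp, b, hb, rfl⟩ := Submodule.mem_sup.mp hyz
        obtain ⟨c, rfl⟩ := Submodule.mem_span_singleton.mp hb
        rw [show A (p + c • z) - μ • (p + c • z) = (A p - μ • p) + c • (A z - μ • z) by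
          rw [map_add, map_smul]; module]
        exact add_mem (sub_mem (hinv p hp) (P.smul_mem _ hp)) (P.smul_mem _ hz')
      · exfalso
        have hyz' : y + z ∉ P := fun h => hyz (by
          rw [show y = (y + z) - z by simp]
          exact sub_mem (Submodule.mem_sup_left h) (Submodule.mem_sup_right (Submodule.mem_span_singleton_self _)))
        obtain ⟨a3, ha3, b3, hb3, e3⟩ := Submodule.mem_sup.mp (hcon (y + z) hyz')
        obtain ⟨κ, rfl⟩ := Submodule.mem_span_singleton.mp hb3
        have h3 : (ν - κ) • y + (μ - κ) • z ∈ P := by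
          have h' : A (y + z) - κ • (y + z) ∈ P := by rw [← e3, add_sub_cancel_right]; exact ha3
          have := sub_mem h' (add_mem hy' hz')
          rw [map_add] at this
          convert this using 1
          module
        rcases eq_or_ne ν κ with rfl | h
        · rw [sub_self, zero_smul, zero_add] at h3
          exact hz (by simpa [inv_smul_smul₀ (sub_ne_zero.2 hne.symm)] using P.smul_mem (μ - ν)⁻¹ h3)
        · refine hyz ?_
          rw [show y = (ν - κ)⁻¹ • (((ν - κ) • y + (μ - κ) • z) - (μ - κ) • z) by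
            rw [add_sub_cancel_right, inv_smul_smul₀ (sub_ne_zero.2 h)]]
          exact Submodule.smul_mem _ _ (sub_mem (Submodule.mem_sup_left h3)
            (Submodule.mem_sup_right (Submodule.smul_mem _ _ (Submodule.mem_span_singleton_self _))))
    have hle : LinearMap.range (A - μ • 1) ≤ P := by
      rintro _ ⟨y, rfl⟩
      simpa using hall y
    have hR : Module.finrank F (LinearMap.range (A - μ • 1)) = 2 :=
      le_antisymm ((Submodule.finrank_mono hle).trans hP2) (hr μ)
    exact hu2 μ hR (Submodule.eq_of_le_of_finrank_le hle (hP2.trans hR.ge) ▸ Submodule.subset_span (by simp))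
  refine ⟨u, w, ?_⟩
  rw [← hAv, ← hAv, Fintype.linearIndependent_iff]
  intro g hg
  simp only [Fin.sum_univ_four, Matrix.cons_val_zero, Matrix.cons_val_one, Matrix.cons_val] at hg
  have h3 : g 3 = 0 := by
    by_contra h
    refine hw2 ?_
    have e : A w = (g 3)⁻¹ • (-(g 0 • u + g 2 • A u) - g 1 • w) := by
      rw [eq_inv_smul_iff₀ h]
      linear_combination (norm := module) hg
    rw [e]
    exact Submodule.smul_mem _ _ (sub_mem (Submodule.mem_sup_left (neg_mem (add_mem
      (Submodule.smul_mem _ _ (Submodule.subset_span (by simp))) (Submodule.smul_mem _ _ (Submodule.subset_span (by simp))))))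
      (Submodule.mem_sup_right (Submodule.smul_mem _ _ (Submodule.mem_span_singleton_self _))))
  rw [h3, zero_smul, add_zero] at hg
  have h1 : g 1 = 0 := by
    by_contra h
    refine hw1 ?_
    have e : w = (g 1)⁻¹ • -(g 0 • u + g 2 • A u) := by
      rw [eq_inv_smul_iff₀ h]
      linear_combination (norm := module) hg
    rw [e]
    exact Submodule.smul_mem _ _ (neg_mem (add_mem
      (Submodule.smul_mem _ _ (Submodule.subset_span (by simp))) (Submodule.smul_mem _ _ (Submodule.subset_span (by simp)))))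
  rw [h1, zero_smul, add_zero] at hg
  have h2 : g 2 = 0 := by
    by_contra h
    refine hu (Submodule.mem_span_singleton.mpr ⟨-(g 0) / g 2, ?_⟩)
    rw [div_eq_inv_mul, mul_smul, inv_smul_eq_iff₀ h]
    linear_combination (norm := module) -hg
  rw [h2, zero_smul, add_zero, smul_eq_zero] at hg
  have h0 : g 0 = 0 := hg.resolve_right fun e => hu (by rw [e, map_zero]; exact zero_mem _)
  intro i
  fin_cases i
  exacts [h0, h1, h2, h3]

/-- Five conjugates give everything. -/
theorem cov_five (h4 : 4 ≤ Fintype.card F) (hn : 5 ≤ n) {N : Subgroup Fˣ} {L : Set (F × F)}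
    {x : Matrix (Fin n) (Fin n) F} (hx0 : x.det ≠ 0) {t : Fin n → F} (hx : Sq N L x t)
    (hN : N = ⊤ ∨ ∃ i, ∀ j, t j = t i → j = i) {g : Matrix (Fin n) (Fin n) F}
    (hdet : g.det = x.det ^ 5) : Cov N x 5 g := by
  classical
  obtain ⟨P₀, hP₀, hM, -⟩ := hx 1
  rw [one_mul] at hP₀
  have hwx := Wide.of_mate (SimIn.conj P₀ hP₀ x) hM (by omega)
  obtain ⟨u1, u2, hli⟩ := exists_pair h4 hn hwx
  have hg0 : g.det ≠ 0 := by rw [hdet]; exact pow_ne_zero _ hx0
  obtain ⟨T, hT⟩ : ∃ T : Finset F, T.card = 4 :=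
    (Finset.exists_subset_card_eq (s := (Finset.univ : Finset F)) (n := 4) (by rw [Finset.card_univ]; omega)).imp
      fun _ h => h.2
  set v1 : Fin n → F := Pi.single ⟨0, by omega⟩ 1
  set v2 : Fin n → F := Pi.single ⟨1, by omega⟩ 1
  have hlt : ∀ S : Finset (Fin n → F), S.card ≤ 3 → Submodule.span F (S : Set (Fin n → F)) ≠ ⊤ := by
    intro S hS e
    have := finrank_span_finset_le_card (R := F) S
    rw [Set.finrank, e, finrank_top, Module.finrank_fin_fun] at this
    omega
  obtain ⟨w1, hw1⟩ := exists_avoid [Submodule.span F ({v1, v2} : Set (Fin n → F)),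
      Submodule.span F ({g *ᵥ v1, g *ᵥ v2} : Set (Fin n → F))] T (by simp [hT]) (by
    simp only [List.mem_cons, List.not_mem_nil, or_false]
    rintro W (rfl | rfl)
    · simpa using hlt {v1, v2} (Finset.card_le_two.trans (by norm_num))
    · simpa using hlt {g *ᵥ v1, g *ᵥ v2} (Finset.card_le_two.trans (by norm_num)))
  obtain ⟨w2, hw2⟩ := exists_avoid [Submodule.span F ({v1, v2, w1} : Set (Fin n → F)),
      Submodule.span F ({g *ᵥ v1, g *ᵥ v2, w1} : Set (Fin n → F))] T (by simp [hT]) (by
    simp only [List.mem_cons, List.not_mem_nil, or_false]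
    rintro W (rfl | rfl)
    · simpa using hlt {v1, v2, w1} Finset.card_le_three
    · simpa using hlt {g *ᵥ v1, g *ᵥ v2, w1} Finset.card_le_three)
  simp only [List.mem_cons, List.not_mem_nil, or_false, forall_eq_or_imp, forall_eq] at hw1 hw2
  have hind : ∀ a b : Fin n → F, LinearIndependent F ![a, b] →
      w1 ∉ Submodule.span F ({a, b} : Set (Fin n → F)) → w2 ∉ Submodule.span F ({a, b, w1} : Set (Fin n → F)) →
      LinearIndependent F ![a, b, w1, w2] := by
    intro a b hab h1 h2
    rw [Fintype.linearIndependent_iff]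
    intro c hc
    simp only [Fin.sum_univ_four, Matrix.cons_val_zero, Matrix.cons_val_one, Matrix.cons_val] at hc
    have c3 : c 3 = 0 := by
      by_contra h
      refine h2 ?_
      have e : w2 = (c 3)⁻¹ • -(c 0 • a + c 1 • b + c 2 • w1) := by
        rw [eq_inv_smul_iff₀ h]
        linear_combination (norm := module) hc
      rw [e]
      exact Submodule.smul_mem _ _ (neg_mem (add_mem (add_mem
        (Submodule.smul_mem _ _ (Submodule.subset_span (by simp))) (Submodule.smul_mem _ _ (Submodule.subset_span (by simp))))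
        (Submodule.smul_mem _ _ (Submodule.subset_span (by simp)))))
    rw [c3, zero_smul, add_zero] at hc
    have c2 : c 2 = 0 := by
      by_contra h
      refine h1 ?_
      have e : w1 = (c 2)⁻¹ • -(c 0 • a + c 1 • b) := by
        rw [eq_inv_smul_iff₀ h]
        linear_combination (norm := module) hc
      rw [e]
      exact Submodule.smul_mem _ _ (neg_mem (add_mem
        (Submodule.smul_mem _ _ (Submodule.subset_span (by simp))) (Submodule.smul_mem _ _ (Submodule.subset_span (by simp)))))
    rw [c2, zero_smul, add_zero] at hc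
    have := Fintype.linearIndependent_iff.mp hab ![c 0, c 1] (by simpa [Fin.sum_univ_two] using hc)
    intro i
    fin_cases i
    exacts [this 0, this 1, c2, c3]
  have hv : LinearIndependent F ![v1, v2] := by
    rw [Fintype.linearIndependent_iff]
    intro c hc i
    simp only [Fin.sum_univ_two, Matrix.cons_val_zero, Matrix.cons_val_one, v1, v2] at hc
    fin_cases i
    · simpa [Pi.single_apply, Fin.ext_iff] using congrFun hc ⟨0, by omega⟩
    · simpa [Pi.single_apply, Fin.ext_iff] using congrFun hc ⟨1, by omega⟩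
  have hgv : LinearIndependent F ![g *ᵥ v1, g *ᵥ v2] := by
    rw [Fintype.linearIndependent_iff]
    intro c hc
    simp only [Fin.sum_univ_two, Matrix.cons_val_zero, Matrix.cons_val_one, ← mulVec_smul, ← mulVec_add] at hc
    refine Fintype.linearIndependent_iff.mp hv c ?_
    simp only [Fin.sum_univ_two, Matrix.cons_val_zero, Matrix.cons_val_one]
    by_contra hne
    exact hg0 (Matrix.exists_mulVec_eq_zero_iff.mp ⟨_, hne, hc⟩)
  have hW := hind v1 v2 hv hw1.1 hw2.1
  have hG := hind _ _ hgv hw1.2 hw2.2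
  -- the conjugator
  let b1 := Module.Basis.sumExtend hli
  let b2 := Module.Basis.sumExtend hW
  haveI := Fintype.ofFinite (Module.Basis.sumExtendIndex hli)
  haveI := Fintype.ofFinite (Module.Basis.sumExtendIndex hW)
  have hc1 := Module.finrank_eq_card_basis b1
  have hc2 := Module.finrank_eq_card_basis b2
  rw [Module.finrank_fin_fun, Fintype.card_sum, Fintype.card_fin] at hc1 hc2
  let e := Fintype.equivOfCardEq (α := Module.Basis.sumExtendIndex hli) (β := Module.Basis.sumExtendIndex hW) (by omega)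
  let φ := b1.equiv b2 (Equiv.sumCongr (Equiv.refl _) e)
  obtain ⟨j₀⟩ : Nonempty (Module.Basis.sumExtendIndex hW) := Fintype.card_pos_iff.mp (by omega)
  have hφd : LinearMap.det φ.toLinearMap ≠ 0 := (LinearEquiv.isUnit_det' φ).ne_zero
  let D : Module.End F (Fin n → F) := b2.constr F fun i =>
    (if i = Sum.inr j₀ then (LinearMap.det φ.toLinearMap)⁻¹ else 1) • b2 i
  have hDd : LinearMap.det D = (LinearMap.det φ.toLinearMap)⁻¹ := by
    have hm : LinearMap.toMatrix b2 b2 D =
        Matrix.diagonal fun i => if i = Sum.inr j₀ then (LinearMap.det φ.toLinearMap)⁻¹ else 1 := by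
      ext i j
      rw [LinearMap.toMatrix_apply, Module.Basis.constr_basis, map_smul, Module.Basis.repr_self,
        Finsupp.smul_single, smul_eq_mul, mul_one, Finsupp.single_apply, diagonal_apply]
      by_cases hij : i = j
      · subst hij
        simp
      · rw [if_neg hij, if_neg (Ne.symm hij)]
    rw [← LinearMap.det_toMatrix b2, hm, det_diagonal]
    simp
  set H := LinearMap.toMatrix' (D ∘ₗ φ.toLinearMap) with hH
  have hHd : H.det = 1 := by
    rw [hH, LinearMap.det_toMatrix', LinearMap.det_comp, hDd, inv_mul_cancel₀ hφd]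
  set Hu : GL (Fin n) F := GeneralLinearGroup.mkOfDetNeZero H (by rw [hHd]; exact one_ne_zero)
  have hHu : GeneralLinearGroup.det Hu = 1 := Units.ext (by simpa [Hu] using hHd)
  have hmap : ∀ i, H *ᵥ (![u1, u2, x *ᵥ u1, x *ᵥ u2] i) = ![v1, v2, w1, w2] i := by
    intro i
    have e1 : b1 (Sum.inl i) = ![u1, u2, x *ᵥ u1, x *ᵥ u2] i := by
      simp [b1, Module.Basis.sumExtend]
      rfl
    have e2 : b2 (Sum.inl i) = ![v1, v2, w1, w2] i := by
      simp [b2, Module.Basis.sumExtend]
      rfl
    rw [← e1, ← e2, hH, ← Matrix.toLin'_apply, Matrix.toLin'_toMatrix', LinearMap.comp_apply,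
      LinearEquiv.coe_coe]
    simp only [φ, Module.Basis.equiv_apply, Equiv.sumCongr_apply, Sum.map_inl, Equiv.refl_apply, D,
      Module.Basis.constr_basis]
    rw [if_neg (by simp), one_smul]
  set y := (Hu : Matrix (Fin n) (Fin n) F) * x * ((Hu⁻¹ : GL (Fin n) F) : Matrix (Fin n) (Fin n) F)
  have hy : SimIn N x y := SimIn.conj Hu (by rw [hHu]; exact one_mem N) x
  have hinv : ∀ v, ((Hu⁻¹ : GL (Fin n) F) : Matrix (Fin n) (Fin n) F) *ᵥ (H *ᵥ v) = v := fun v => by
    rw [mulVec_mulVec, show H = (Hu : Matrix (Fin n) (Fin n) F) from rfl, Units.inv_mul, one_mulVec]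
  have hy1 : y *ᵥ v1 = w1 := by
    rw [← show H *ᵥ u1 = v1 from hmap 0, ← mulVec_mulVec, ← mulVec_mulVec, hinv]
    exact hmap 2
  have hy2 : y *ᵥ v2 = w2 := by
    rw [← show H *ᵥ u2 = v2 from hmap 1, ← mulVec_mulVec, ← mulVec_mulVec, hinv]
    exact hmap 3
  have hy0 : y.det ≠ 0 := by rw [← hy.det_eq]; exact hx0
  set y' : GL (Fin n) F := GeneralLinearGroup.mkOfDetNeZero y hy0
  have hfac : g = y * (((y'⁻¹ : GL (Fin n) F) : Matrix (Fin n) (Fin n) F) * g) := by
    rw [← Matrix.mul_assoc, show y = (y' : Matrix (Fin n) (Fin n) F) from rfl, Units.mul_inv, Matrix.one_mul]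
  set h := ((y'⁻¹ : GL (Fin n) F) : Matrix (Fin n) (Fin n) F) * g
  have hwide : Wide h := by
    intro σ
    have e : y * (h - σ • 1) = g - σ • y := by
      rw [Matrix.mul_sub, ← hfac, Matrix.mul_smul, Matrix.mul_one]
    rw [← rank_mul_eq_right_of_isUnit_det y (h - σ • 1) (isUnit_iff_ne_zero.2 hy0), e]
    have hli2 : LinearIndependent F ![(g - σ • y) *ᵥ v1, (g - σ • y) *ᵥ v2] := by
      rw [Fintype.linearIndependent_iff]
      intro c hc
      simp only [Fin.sum_univ_two, Matrix.cons_val_zero, Matrix.cons_val_one, sub_mulVec, smul_mulVec,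
        hy1, hy2] at hc
      have := Fintype.linearIndependent_iff.mp hG ![c 0, c 1, -(c 0 * σ), -(c 1 * σ)] (by
        simp only [Fin.sum_univ_four, Matrix.cons_val_zero, Matrix.cons_val_one, Matrix.cons_val]
        linear_combination (norm := module) hc)
      intro i
      fin_cases i
      exacts [this 0, this 1]
    have hle : Submodule.span F (Set.range ![(g - σ • y) *ᵥ v1, (g - σ • y) *ᵥ v2]) ≤
        LinearMap.range (g - σ • y).mulVecLin := by
      rw [Submodule.span_le]
      rintro _ ⟨i, rfl⟩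
      fin_cases i <;> exact ⟨_, rfl⟩
    have := Submodule.finrank_mono hle
    rwa [finrank_span_eq_card hli2, Fintype.card_fin] at this
  have hhdet : h.det = x.det ^ 4 := by
    have := congrArg Matrix.det hfac
    rw [det_mul, ← hy.det_eq, hdet, pow_succ'] at this
    exact (mul_left_cancel₀ hx0 this).symm
  rw [hfac]
  exact (cov_four h4 (by omega) hx0 hx hN hwide hhdet).cons hy

end CfsgLib.CoverPSL
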