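import Cfsg.Agent.CoverPSL.Pieces

/-!
# A block of size two beside a double eigenvalue

For a nonscalar `A` of size two without eigenvalue `l`, the matrix `A ⊕ l ⊕ l` has a mate whose spectrum
avoids `l ^ 2`.
-/

set_option autoImplicit false

namespace CfsgLib.CoverPSL

open Matrix Polynomial CfsgLib.OreSL

variable {F : Type*} [Field F]

theorem det_sub_one_two (A : Matrix (Fin 2) (Fin 2) F) (h : A.charpoly.eval 1 ≠ 0) : (A - 1).det ≠ 0 := by
  rw [eval_charpoly_two] at h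
  intro e
  refine h ?_
  rw [← e]
  simp [det_fin_two, trace_fin_two]
  ring

/-- The coordinate form: `x₀ = A₀ ⊕ 1` and `A₁ ⊕ 1` are conjugate to factors of `bid t`. -/
theorem double_core (A₀ A₁ : Matrix (Fin 2) (Fin 2) F) (hA₀ : A₀.charpoly.eval 1 ≠ 0)
    (hA₁ : A₁.charpoly.eval 1 ≠ 0) (t₁ t₂ t₃ t₄ : F)
    (hG : A₀ * A₁ = !![t₁ * t₂, 0; -1, t₃ * t₄]) :
    ∃ P Q : GL (Fin 4) F,
      ((P : Matrix (Fin 4) (Fin 4) F) * Matrix.reindex finSumFinEquiv finSumFinEquiv (Matrix.fromBlocks A₀ 0 0 (1 : Matrix (Fin 2) (Fin 2) F)) *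
          ((P⁻¹ : GL (Fin 4) F) : Matrix (Fin 4) (Fin 4) F)) *
        ((Q : Matrix (Fin 4) (Fin 4) F) * Matrix.reindex finSumFinEquiv finSumFinEquiv (Matrix.fromBlocks A₁ 0 0 (1 : Matrix (Fin 2) (Fin 2) F)) *
          ((Q⁻¹ : GL (Fin 4) F) : Matrix (Fin 4) (Fin 4) F)) =
        !![t₁, 0, 0, 0; 1, t₂, 0, 0; 0, 1, t₃, 0; 0, 0, 1, t₄] := by
  obtain ⟨α, β, γ, η, rfl⟩ : ∃ α β γ η, A₀ = !![α, β; γ, η] := ⟨_, _, _, _, Matrix.eta_fin_two A₀⟩
  obtain ⟨a, b, c, d, rfl⟩ : ∃ a b c d, A₁ = !![a, b; c, d] := ⟨_, _, _, _, Matrix.eta_fin_two A₁⟩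
  have e00 : α * a + β * c = t₁ * t₂ := by simpa using congrFun (congrFun hG 0) 0
  have e01 : α * b + β * d = 0 := by simpa using congrFun (congrFun hG 0) 1
  have e10 : γ * a + η * c = -1 := by simpa using congrFun (congrFun hG 1) 0
  have e11 : γ * b + η * d = t₃ * t₄ := by simpa using congrFun (congrFun hG 1) 1
  set A₀ : Matrix (Fin 2) (Fin 2) F := !![α, β; γ, η] with hA₀def
  set A₁ : Matrix (Fin 2) (Fin 2) F := !![a, b; c, d] with hA₁def
  have hsol : ∀ p q : F, ∃ u v : F, (α - 1) * u + β * v = p ∧ γ * u + (η - 1) * v = q := by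
    intro p q
    have hd := det_sub_one_two A₀ hA₀
    simp [A₀, det_fin_two] at hd
    set D := (α - 1) * (η - 1) - β * γ
    refine ⟨((η - 1) * p - β * q) / D, ((α - 1) * q - γ * p) / D, ?_, ?_⟩ <;>
      · field_simp
        simp only [D]
        ring
  obtain ⟨u₁, u₃, hu, hu'⟩ := hsol ((t₁ - α) * (t₂ - 1)) ((-γ) * (t₂ - 1) - 1)
  obtain ⟨w₁, w₃, hw, hw'⟩ := hsol ((-β) * (t₄ - 1)) ((t₃ - η) * (t₄ - 1))
  set x' : Matrix (Fin 4) (Fin 4) F := !![α, -((t₁ - α) * (t₂ - 1)), β, β * (t₄ - 1); 0, 1, 0, 0;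
    γ, 1 + γ * (t₂ - 1), η, -((t₃ - η) * (t₄ - 1)); 0, 0, 0, 1]
  set T : Matrix (Fin 4) (Fin 4) F := !![t₁, 0, 0, 0; 1, t₂, 0, 0; 0, 1, t₃, 0; 0, 0, 1, t₄]
  set Px : Matrix (Fin 4) (Fin 4) F := !![1, 0, u₁, w₁; 0, 0, 1, 0; 0, 1, u₃, w₃; 0, 0, 0, 1]
  set Py : Matrix (Fin 4) (Fin 4) F := !![a - t₂, b, -(t₂ - 1), 0; 1, 0, 1, 0; c, d - t₄, 0, -(t₄ - 1); 0, 1, 0, 1]
  have hPx : Px.det ≠ 0 := by
    simp [Px, det_succ_row_zero, Fin.sum_univ_succ, Fin.succAbove]
  have hPy : Py.det ≠ 0 := by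
    have hd := det_sub_one_two A₁ hA₁
    simp [A₁, det_fin_two] at hd
    have e : Py.det = -((a - 1) * (d - 1) - b * c) := by
      simp [Py, det_succ_row_zero, Fin.sum_univ_succ, Fin.succAbove]
      ring
    rw [e]
    exact neg_ne_zero.2 hd
  set X₀ : Matrix (Fin 4) (Fin 4) F := !![α, β, 0, 0; γ, η, 0, 0; 0, 0, 1, 0; 0, 0, 0, 1]
  set X₁ : Matrix (Fin 4) (Fin 4) F := !![a, b, 0, 0; c, d, 0, 0; 0, 0, 1, 0; 0, 0, 0, 1]
  have hX₀ : Matrix.reindex finSumFinEquiv finSumFinEquiv (Matrix.fromBlocks A₀ 0 0 (1 : Matrix (Fin 2) (Fin 2) F)) = X₀ := by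
    ext i j
    fin_cases i <;> fin_cases j <;> rfl
  have hX₁ : Matrix.reindex finSumFinEquiv finSumFinEquiv (Matrix.fromBlocks A₁ 0 0 (1 : Matrix (Fin 2) (Fin 2) F)) = X₁ := by
    ext i j
    fin_cases i <;> fin_cases j <;> rfl
  have h1 : x' * Px = Px * X₀ := by
    ext i j
    fin_cases i <;> fin_cases j <;> simp [x', Px, X₀, Matrix.mul_apply, Fin.sum_univ_four] <;>
      first
        | linear_combination hu
        | linear_combination hu'
        | linear_combination hw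
        | linear_combination hw'
  have h2 : T * Py = x' * Py * X₁ := by
    have h3 : x' * Py = !![t₁ - α, -β, 1 - t₂, 0; 1, 0, 1, 0; -γ, t₃ - η, 1, 1 - t₄; 0, 1, 0, 1] +
        !![0, 0, t₂ - 1 - t₁ * (t₂ - 1), 0; 0, 0, 0, 0; 0, 0, 0, t₄ - 1 - t₃ * (t₄ - 1); 0, 0, 0, 0] := by
      ext i j
      fin_cases i <;> fin_cases j <;> simp [x', Py, Matrix.mul_apply, Fin.sum_univ_four] <;>
        first
          | linear_combination e00
          | linear_combination e01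
          | linear_combination e10
          | linear_combination e11
          | ring
    rw [h3]
    ext i j
    fin_cases i <;> fin_cases j <;> simp [T, Py, X₁, Matrix.mul_apply, Fin.sum_univ_four] <;>
      first
        | linear_combination e00
        | linear_combination e01
        | linear_combination e10
        | linear_combination e11
        | linear_combination -e00
        | linear_combination -e01
        | linear_combination -e10
        | linear_combination -e11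
        | ring
  set P := GeneralLinearGroup.mkOfDetNeZero Px hPx
  set Q := GeneralLinearGroup.mkOfDetNeZero Py hPy
  refine ⟨P, Q, ?_⟩
  rw [hX₀, hX₁, show (P : Matrix (Fin 4) (Fin 4) F) = Px from rfl, show (Q : Matrix (Fin 4) (Fin 4) F) = Py from rfl,
    ← h1, Matrix.mul_assoc x', show Px = (P : Matrix (Fin 4) (Fin 4) F) from rfl, Units.mul_inv, Matrix.mul_one,
    ← Matrix.mul_assoc, ← Matrix.mul_assoc, ← h2, Matrix.mul_assoc T,
    show Py = (Q : Matrix (Fin 4) (Fin 4) F) from rfl, Units.mul_inv, Matrix.mul_one]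

theorem grouped_four (t : Fin 4 → F) (h02 : t 0 = t 2 → t 1 = t 0) (h13 : t 1 = t 3 → t 2 = t 1)
    (h03 : t 0 = t 3 → t 1 = t 0 ∧ t 2 = t 0) : Grouped t := by
  intro i j hij e h
  fin_cases i <;> fin_cases j <;> first
    | exact absurd hij (by decide)
    | exact absurd h (by decide)
    | exact e.symm
    | exact h02 e
    | exact h13 e
    | exact (h03 e).1

variable [Fintype F]

/-- Grouped spectra avoiding `1` with paired products `s` and `δ ^ 2 / s`. -/
theorem exists_quad (h4 : 4 ≤ Fintype.card F) {δ : F} (hδ : δ ≠ 0) :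
    ∃ t : Fin 4 → F, Grouped t ∧ (∀ i, t i ≠ 0) ∧ (∀ i, t i ≠ 1) ∧ t 0 * t 1 ≠ δ ∧ t 0 * t 1 ≠ -δ ∧
      t 0 * t 1 * (t 2 * t 3) = δ ^ 2 := by
  classical
  obtain ⟨s, hs0, hs1, hs2⟩ : ∃ s, s ≠ 0 ∧ s ≠ δ ∧ s ≠ -δ := by
    have := avoid_notMem h4 (S := ({0, δ, -δ} : Finset F)) Finset.card_le_three
    simp only [Finset.mem_insert, Finset.mem_singleton, not_or] at this
    exact ⟨_, this⟩
  set s' := δ ^ 2 / s with hs'
  have hs'0 : s' ≠ 0 := div_ne_zero (pow_ne_zero _ hδ) hs0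
  have hss : s * s' = δ ^ 2 := mul_div_cancel₀ _ hs0
  have hne : s ≠ s' := fun e => by
    rw [← e] at hss
    have : (s - δ) * (s + δ) = 0 := by linear_combination hss
    rcases mul_eq_zero.mp this with h | h
    exacts [hs1 (sub_eq_zero.mp h), hs2 (eq_neg_of_add_eq_zero_left h)]
  by_cases hb : ∃ b, b ≠ 0 ∧ b ≠ 1 ∧ b ≠ s ∧ b ≠ s'
  · obtain ⟨b, hb0, hb1, hbs, hbs'⟩ := hb
    have h1 : s / b * b = s := div_mul_cancel₀ _ hb0
    have h2 : b * (s' / b) = s' := mul_div_cancel₀ _ hb0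
    have had : s / b ≠ s' / b := fun e => hne (by rwa [div_left_inj' hb0] at e)
    refine ⟨![s / b, b, b, s' / b], ?_, ?_, ?_, ?_, ?_, ?_⟩
    · exact grouped_four _ (fun e => e.symm) (fun _ => rfl) fun e => absurd e had
    · intro i; fin_cases i <;> simp [hb0, hs0, hs'0]
    · intro i
      fin_cases i <;> simp [hb1, div_eq_one_iff_eq hb0, hbs.symm, hbs'.symm]
    · simpa [h1] using hs1
    · simpa [h1] using hs2
    · simpa [h1, h2] using hss
  · push Not at hb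
    have hcases : ∀ u : F, u ≠ 0 → u = 1 ∨ u = s ∨ u = s' := fun u hu => by
      by_contra h
      push Not at h
      exact h.2.2 (hb u hu h.1 h.2.1)
    have hsub : (Finset.univ : Finset F) ⊆ {0, 1, s, s'} := fun u _ => by
      simp only [Finset.mem_insert, Finset.mem_singleton]
      by_cases hu : u = 0
      · exact Or.inl hu
      · exact Or.inr (hcases u hu)
    have hcard := Finset.card_le_card hsub
    rw [Finset.card_univ] at hcard
    have h1s : s ≠ 1 := by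
      rintro rfl
      have : ({0, 1, 1, s'} : Finset F).card ≤ 3 := by
        rw [Finset.insert_eq_of_mem (Finset.mem_insert_self 1 _)]
        exact Finset.card_le_three
      omega
    have h1s' : s' ≠ 1 := by
      intro e
      rw [e] at hcard
      have : ({0, 1, s, 1} : Finset F).card ≤ 3 := by
        rw [show ({0, 1, s, 1} : Finset F) = {0, 1, s} by ext; simp; tauto]
        exact Finset.card_le_three
      omega
    have sq_eq : ∀ u v : F, u ≠ 0 → v ≠ 0 → u ≠ 1 → v ≠ 1 → u ≠ v →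
        (∀ w : F, w ≠ 0 → w = 1 ∨ w = u ∨ w = v) → u * u = v := by
      intro u v hu hv hu1 hv1 huv hall
      rcases hall (u * u) (mul_ne_zero hu hu) with h | h | h
      · rcases hall (u * v) (mul_ne_zero hu hv) with h' | h' | h'
        · exact absurd (mul_left_cancel₀ hu (h'.trans h.symm)) huv.symm
        · exact absurd (mul_eq_left₀ hu |>.mp h') hv1
        · exact absurd (mul_eq_right₀ hv |>.mp h') hu1
      · exact absurd (mul_eq_left₀ hu |>.mp h) hu1
      · exact h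
    have e1 : s' * s' = s := sq_eq s' s hs'0 hs0 h1s' h1s hne.symm fun w hw => by
      rcases hcases w hw with h | h | h <;> simp [h]
    have e2 : s * s = s' := sq_eq s s' hs0 hs'0 h1s h1s' hne hcases
    refine ⟨![s', s', s, s], ?_, ?_, ?_, ?_, ?_, ?_⟩
    · exact grouped_four _ (fun _ => rfl) (fun e => e.symm) fun e => absurd e hne.symm
    · intro i; fin_cases i
      exacts [hs'0, hs'0, hs0, hs0]
    · intro i; fin_cases i
      exacts [h1s', h1s', h1s, h1s]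
    · show s' * s' ≠ δ
      rw [e1]; exact hs1
    · show s' * s' ≠ -δ
      rw [e1]; exact hs2
    · show s' * s' * (s * s) = δ ^ 2
      rw [e1, e2]; exact hss

/-- A nonscalar matrix of size two beside two equal lines. -/
theorem exists_double (h4 : 4 ≤ Fintype.card F) (A : Matrix (Fin 2) (Fin 2) F) (hA : ∀ c : F, A ≠ c • 1)
    (hd0 : A.det ≠ 0) {l : F} (hl : l ≠ 0) (hroot : A.charpoly.eval l ≠ 0) :
    ∃ (t : Fin 4 → F) (L : Set (F × F)), Sq ⊤ L (dsum A (l • (1 : Matrix (Fin 2) (Fin 2) F))) t ∧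
      (l, l ^ 2) ∉ L := by
  classical
  set A' := l⁻¹ • A with hA'
  have hlA : A = l • A' := by rw [hA', smul_inv_smul₀ hl]
  have hd' : A'.det ≠ 0 := by
    rw [hA', det_smul]
    exact mul_ne_zero (pow_ne_zero _ (inv_ne_zero hl)) hd0
  have hroot' : A'.charpoly.eval 1 ≠ 0 := by
    rw [eval_charpoly_two] at hroot ⊢
    intro e
    refine hroot ?_
    rw [hlA, trace_smul, det_smul, Fintype.card_fin, smul_eq_mul]
    linear_combination l ^ 2 * e
  have hns : ∀ c : F, A' ≠ c • 1 := fun c e => hA (l * c) (by rw [hlA, e, smul_smul])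
  obtain ⟨t, hg, ht0, ht1, hs1, hs2, hprod⟩ := exists_quad h4 hd'
  set s := t 0 * t 1
  have hs0 : s ≠ 0 := mul_ne_zero (ht0 0) (ht0 1)
  obtain ⟨R, hR, -⟩ := gl2_mate h4 A' hns hd' s hs0 (Or.inr ⟨hs1, hs2⟩)
  set A'' := (R : Matrix (Fin 2) (Fin 2) F) * A' * ((R⁻¹ : GL (Fin 2) F) : Matrix (Fin 2) (Fin 2) F)
  have hs' : A'.det ^ 2 / s = t 2 * t 3 := by rw [div_eq_iff hs0, ← hprod]; ring
  set G : Matrix (Fin 2) (Fin 2) F := !![t 0 * t 1, 0; -1, t 2 * t 3]
  have hGl : ∀ i j : Fin 2, i.val < j.val → G i j = 0 := by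
    intro i j h
    fin_cases i <;> fin_cases j <;> first | rfl | simp at h
  have hGp : G.charpoly = ∏ i, (X - C (![s, A'.det ^ 2 / s] i)) := by
    rw [charpoly_lower hGl, hs']
    simp [G, s, Fin.prod_univ_two]
  have hGc : IsCyc G := isCyc_lower hGl (fun i j hij e h => by
      fin_cases i <;> fin_cases j <;> first | exact e.symm | simp at hij h) fun i h _ => by
    obtain rfl : i = 0 := Fin.ext (by simp only [Fin.val_zero]; omega)
    simp [G]
  obtain ⟨Q, hQ⟩ := exists_conj_of_sim (sim_of_isCyc (isCyc_of_eigLe hR.1 fun i => hR.2 _) hGc (hR.1.trans hGp.symm))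
  set A₀ := (Q : Matrix (Fin 2) (Fin 2) F) * A' * ((Q⁻¹ : GL (Fin 2) F) : Matrix (Fin 2) (Fin 2) F)
  set A₁ := (Q : Matrix (Fin 2) (Fin 2) F) * A'' * ((Q⁻¹ : GL (Fin 2) F) : Matrix (Fin 2) (Fin 2) F)
  have hG' : A₀ * A₁ = !![t 0 * t 1, 0; -1, t 2 * t 3] := by rw [mul_conj]; exact hQ.symm
  have e0 : A₀.charpoly = A'.charpoly := charpoly_conj Q A'
  have e1 : A₁.charpoly = A'.charpoly := (charpoly_conj Q A'').trans (charpoly_conj R A')
  have h0 : A₀.charpoly.eval 1 ≠ 0 := fun e => hroot' (e0 ▸ e)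
  have h1 : A₁.charpoly.eval 1 ≠ 0 := fun e => hroot' (e1 ▸ e)
  obtain ⟨P, S, hPS⟩ := double_core A₀ A₁ h0 h1 _ _ _ _ hG'
  set T : Matrix (Fin 4) (Fin 4) F := !![t 0, 0, 0, 0; 1, t 1, 0, 0; 0, 1, t 2, 0; 0, 0, 1, t 3] with hT
  set X : Matrix (Fin 4) (Fin 4) F := dsum A (l • (1 : Matrix (Fin 2) (Fin 2) F))
  have hsim : ∀ B : Matrix (Fin 2) (Fin 2) F, Sim A' B →
      Sim X (l • Matrix.reindex finSumFinEquiv finSumFinEquiv (Matrix.fromBlocks B 0 0 (1 : Matrix (Fin 2) (Fin 2) F))) := by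
    rintro B ⟨V, hV, e⟩
    refine ⟨Matrix.reindex finSumFinEquiv finSumFinEquiv (Matrix.fromBlocks V 0 0 (1 : Matrix (Fin 2) (Fin 2) F)), ?_, ?_⟩
    · rw [det_reindex_self, det_fromBlocks_zero₂₁, det_one, mul_one]
      exact hV
    · show _ * dsum A (l • (1 : Matrix (Fin 2) (Fin 2) F)) = _
      rw [Matrix.smul_mul, dsum, ← reindex_mul', ← reindex_mul', fromBlocks_multiply, fromBlocks_multiply]
      simp only [Matrix.mul_zero, Matrix.zero_mul, add_zero, zero_add, Matrix.one_mul, Matrix.mul_one]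
      rw [← e, hlA, Matrix.mul_smul, reindex_apply, reindex_apply]
      ext i j
      simp only [Matrix.smul_apply, submatrix_apply]
      generalize finSumFinEquiv.symm i = p
      generalize finSumFinEquiv.symm j = q
      rcases p with p | p <;> rcases q with q | q <;> simp
  obtain ⟨U, hU⟩ := exists_conj_of_sim (hsim A₀ (SimIn.conj Q (Subgroup.mem_top _) A').sim)
  obtain ⟨W, hW⟩ := exists_conj_of_sim (hsim A₁
    ((SimIn.conj R (Subgroup.mem_top _) A').trans (SimIn.conj Q (Subgroup.mem_top _) A'')).sim)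
  have key : ∀ (K V : GL (Fin 4) F) (B : Matrix (Fin 4) (Fin 4) F),
      ((K * V : GL (Fin 4) F) : Matrix (Fin 4) (Fin 4) F) * B * (((K * V)⁻¹ : GL (Fin 4) F) : Matrix (Fin 4) (Fin 4) F) =
        (K : Matrix (Fin 4) (Fin 4) F) * ((V : Matrix (Fin 4) (Fin 4) F) * B * ((V⁻¹ : GL (Fin 4) F) : Matrix (Fin 4) (Fin 4) F)) *
          ((K⁻¹ : GL (Fin 4) F) : Matrix (Fin 4) (Fin 4) F) := fun K V B => by
    simp only [_root_.mul_inv_rev, Units.val_mul, Matrix.mul_assoc]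
  set K := (P * U)⁻¹
  set y := ((K * (S * W) : GL (Fin 4) F) : Matrix (Fin 4) (Fin 4) F) * X *
    (((K * (S * W))⁻¹ : GL (Fin 4) F) : Matrix (Fin 4) (Fin 4) F) with hy
  have hxy : X * y = (K : Matrix (Fin 4) (Fin 4) F) * ((l ^ 2) • T) * ((K⁻¹ : GL (Fin 4) F) : Matrix (Fin 4) (Fin 4) F) := by
    set X₀ := Matrix.reindex finSumFinEquiv finSumFinEquiv (Matrix.fromBlocks A₀ 0 0 (1 : Matrix (Fin 2) (Fin 2) F))
    set X₁ := Matrix.reindex finSumFinEquiv finSumFinEquiv (Matrix.fromBlocks A₁ 0 0 (1 : Matrix (Fin 2) (Fin 2) F))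
    have e0 : ((P * U : GL (Fin 4) F) : Matrix (Fin 4) (Fin 4) F) * X *
        (((P * U)⁻¹ : GL (Fin 4) F) : Matrix (Fin 4) (Fin 4) F) =
          (P : Matrix (Fin 4) (Fin 4) F) * (l • X₀) * ((P⁻¹ : GL (Fin 4) F) : Matrix (Fin 4) (Fin 4) F) := by
      rw [key, ← hU]
    have e1 : ((S * W : GL (Fin 4) F) : Matrix (Fin 4) (Fin 4) F) * X *
        (((S * W)⁻¹ : GL (Fin 4) F) : Matrix (Fin 4) (Fin 4) F) =
          (S : Matrix (Fin 4) (Fin 4) F) * (l • X₁) * ((S⁻¹ : GL (Fin 4) F) : Matrix (Fin 4) (Fin 4) F) := by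
      rw [key, ← hW]
    have e2 : ((P * U : GL (Fin 4) F) : Matrix (Fin 4) (Fin 4) F) * X *
        (((P * U)⁻¹ : GL (Fin 4) F) : Matrix (Fin 4) (Fin 4) F) *
        (((S * W : GL (Fin 4) F) : Matrix (Fin 4) (Fin 4) F) * X *
        (((S * W)⁻¹ : GL (Fin 4) F) : Matrix (Fin 4) (Fin 4) F)) = (l ^ 2) • T := by
      rw [e0, e1, ← hPS]
      simp only [Matrix.mul_smul, Matrix.smul_mul, smul_smul, sq]
    rw [← e2, ← mul_conj, ← key K (P * U), ← key K (S * W), show K * (P * U) = 1 from inv_mul_cancel _]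
    simp [y]
  have hTl : ∀ i j : Fin 4, i.val < j.val → ((l ^ 2) • T) i j = 0 := by
    intro i j h
    fin_cases i <;> fin_cases j <;> first | exact absurd h (by decide) | simp [T]
  have hTd : ∀ i, ((l ^ 2) • T) i i = l ^ 2 * t i := by
    intro i
    fin_cases i <;> simp [T]
  have hlg : Grouped fun i => ((l ^ 2) • T) i i := by
    intro i j hij e h
    simp only [hTd] at e ⊢
    rw [hg i j hij (mul_left_cancel₀ (pow_ne_zero _ hl) e) h]
  have hTs : ∀ (i : Fin 4) (h : i.val + 1 < 4), ((l ^ 2) • T) ⟨i.val + 1, h⟩ ⟨i.val + 1, h⟩ = ((l ^ 2) • T) i i →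
      ((l ^ 2) • T) ⟨i.val + 1, h⟩ i ≠ 0 := by
    intro i h _
    fin_cases i <;> first | exact absurd h (by decide) | simp [T, hl]
  have hchar : (X * y).charpoly = ∏ i, (Polynomial.X - C (l ^ 2 * t i)) := by
    rw [hxy, charpoly_conj, charpoly_lower hTl]
    simp only [hTd]
  refine ⟨fun i => l ^ 2 * t i, {p | ∃ i, l ^ 2 * t i = p.2}, fun r => ⟨K * (S * W), Subgroup.mem_top _,
    ⟨hchar, fun c => ?_⟩, fun ψ α β hψ0 _ h2 => ?_⟩, ?_⟩
  · rw [← hy, hxy]
    exact eigLe_conj _ (eigLe_lower hTl hlg hTs c)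
  · have hβ : (X * y).charpoly.eval β = 0 := by
      rw [← charpoly_transpose]
      exact root_of_eigen hψ0 (by rw [mulVec_transpose]; exact h2)
    rw [hchar, eval_prod, Finset.prod_eq_zero_iff] at hβ
    obtain ⟨i, -, hi⟩ := hβ
    rw [eval_sub, eval_X, eval_C, sub_eq_zero] at hi
    exact ⟨i, hi.symm⟩
  · rintro ⟨i, hi⟩
    exact ht1 i ((mul_eq_left₀ (pow_ne_zero _ hl)).mp hi)

end CfsgLib.CoverPSL
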