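import Cfsg.Agent.CoverPSL.Core
import Mathlib.LinearAlgebra.Matrix.SchurComplement

/-!
# Nonscalar matrices as four conjugates

A scalar plus a matrix of rank one is a product of two cyclic matrices with any given spectrum, so four
conjugates give all nonscalar matrices; a scalar `c` occurs when the spectrum is stable under `t ↦ c / t`.
-/

set_option autoImplicit false

namespace CfsgLib.CoverPSL

open Matrix Polynomial CfsgLib.OreSL CfsgLib.Sourour

variable {F : Type*} [Field F] {n : ℕ}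

/-- A cyclic vector with a monic annihilating polynomial gives the characteristic polynomial. -/
theorem charpoly_of_annihilate {M : Matrix (Fin n) (Fin n) F} {u : Fin n → F}
    (hli : LinearIndependent F fun i : Fin n => M ^ (i : ℕ) *ᵥ u) {f : F[X]} (hf : f.Monic)
    (hdeg : f.natDegree = n) (h : aeval M f *ᵥ u = 0) : M.charpoly = f := by
  by_contra hne
  have h1 : M.charpoly.natDegree = n := by rw [Matrix.charpoly_natDegree_eq_dim, Fintype.card_fin]
  have hsub : (M.charpoly - f).degree < (n : WithBot ℕ) := by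
    refine lt_of_lt_of_le (degree_sub_lt_left ?_ (Matrix.charpoly_monic M).ne_zero ?_) ?_
    · rw [degree_eq_natDegree (Matrix.charpoly_monic M).ne_zero, degree_eq_natDegree hf.ne_zero, h1, hdeg]
    · rw [(Matrix.charpoly_monic M).leadingCoeff, hf.leadingCoeff]
    · rw [degree_eq_natDegree (Matrix.charpoly_monic M).ne_zero, h1]
  have hd' : (M.charpoly - f).natDegree < n := (natDegree_lt_iff_degree_lt (sub_ne_zero.2 hne)).2 hsub
  have h0 : aeval M (M.charpoly - f) *ᵥ u = 0 := by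
    rw [map_sub, sub_mulVec, Matrix.aeval_self_charpoly, h, zero_mulVec, sub_zero]
  rw [aeval_eq_sum_range' hd', sum_mulVec,
    ← Fin.sum_univ_eq_sum_range (fun i => ((M.charpoly - f).coeff i • M ^ i) *ᵥ u) n] at h0
  simp only [smul_mulVec] at h0
  have hz := Fintype.linearIndependent_iff.mp hli _ h0
  refine hne (sub_eq_zero.mp (Polynomial.ext fun i => ?_))
  rw [coeff_zero]
  rcases Nat.lt_or_ge i n with h | h
  · exact hz ⟨i, h⟩
  · exact coeff_eq_zero_of_natDegree_lt (by omega)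

/-- A cyclic matrix can be given any characteristic polynomial by adding a matrix of rank one. -/
theorem exists_rankOne_perturb (hn : 1 ≤ n) {M : Matrix (Fin n) (Fin n) F} (hM : IsCyc M) {f : F[X]}
    (hf : f.Monic) (hdeg : f.natDegree = n) (hne : M.charpoly ≠ f) :
    ∃ w ψ : Fin n → F, w ≠ 0 ∧ ψ ≠ 0 ∧ IsCyc (M + vecMulVec w ψ) ∧ (M + vecMulVec w ψ).charpoly = f := by
  classical
  obtain ⟨u, hli⟩ := hM
  have : Nonempty (Fin n) := ⟨⟨0, by omega⟩⟩
  let b : Module.Basis (Fin n) F (Fin n → F) := basisOfLinearIndependentOfCardEqFinrank hli (by simp)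
  have hb : ∀ i, b i = M ^ (i : ℕ) *ᵥ u := fun i => by simp [b]
  set last : Fin n := ⟨n - 1, by omega⟩
  set φ : (Fin n → F) →ₗ[F] F := b.coord last
  set ψ : Fin n → F := fun j => φ (Pi.single j 1) with hψ
  have hφ : ∀ v, ψ ⬝ᵥ v = φ v := fun v => by
    conv_rhs => rw [pi_eq_sum_univ' v]
    simp [dotProduct, ψ, mul_comm]
  set w := aeval M (M.charpoly - f) *ᵥ u with hw
  set M' := M + vecMulVec w ψ with hM'
  have hMv : ∀ v, M' *ᵥ v = M *ᵥ v + φ v • w := fun v => by
    rw [hM', add_mulVec, vecMulVec_mulVec, op_smul_eq_smul, hφ]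
  have hcoord : ∀ i : Fin n, φ (M ^ (i : ℕ) *ᵥ u) = if i = last then 1 else 0 := fun i => by
    rw [← hb]
    simp [φ, Finsupp.single_apply]
  have hpow : ∀ i, i < n → M' ^ i *ᵥ u = M ^ i *ᵥ u := by
    intro i
    induction i with
    | zero => intro _; rw [pow_zero, pow_zero]
    | succ i ih =>
      intro hi
      rw [pow_succ', ← mulVec_mulVec, ih (by omega), hMv, hcoord ⟨i, by omega⟩,
        if_neg (by simp [last, Fin.ext_iff]; omega), zero_smul, add_zero, mulVec_mulVec, ← pow_succ']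
  have hlow : ∀ q : F[X], q.natDegree < n → aeval M' q *ᵥ u = aeval M q *ᵥ u := by
    intro q hq
    rw [aeval_eq_sum_range' hq, aeval_eq_sum_range' hq, sum_mulVec, sum_mulVec]
    refine Finset.sum_congr rfl fun i hi => ?_
    rw [smul_mulVec, smul_mulVec, hpow i (Finset.mem_range.mp hi)]
  have htop : M' ^ n *ᵥ u = M ^ n *ᵥ u + w := by
    obtain ⟨k, hk⟩ : ∃ k, n = k + 1 := ⟨n - 1, by omega⟩
    rw [congrArg (fun i => M' ^ i) hk, congrArg (fun i => M ^ i) hk, pow_succ',
      ← mulVec_mulVec, hpow k (by omega), hMv, hcoord ⟨k, by omega⟩,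
      if_pos (by simp [last, Fin.ext_iff]; omega), one_smul, mulVec_mulVec, ← pow_succ']
  have hli' : LinearIndependent F fun i : Fin n => M' ^ (i : ℕ) *ᵥ u := by
    have e : (fun i : Fin n => M' ^ (i : ℕ) *ᵥ u) = fun i : Fin n => M ^ (i : ℕ) *ᵥ u :=
      funext fun i => hpow _ i.isLt
    rwa [e]
  have hdlt : ∀ g : F[X], g.Monic → g.natDegree = n → (g - X ^ n).natDegree < n := by
    intro g hg hgd
    by_cases h0 : g - X ^ n = 0
    · rw [h0, natDegree_zero]; omega
    rw [natDegree_lt_iff_degree_lt h0]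
    refine (degree_sub_lt_left ?_ hg.ne_zero ?_).trans_le ?_
    · rw [degree_eq_natDegree hg.ne_zero, hgd, degree_X_pow]
    · rw [hg.leadingCoeff, (monic_X_pow n).leadingCoeff]
    · rw [degree_eq_natDegree hg.ne_zero, hgd]
  have hann : aeval M' f *ᵥ u = 0 := by
    have e : f = X ^ n + (f - X ^ n) := by ring
    rw [e, map_add, add_mulVec, map_pow, aeval_X, htop, hlow _ (hdlt f hf hdeg), hw]
    simp only [map_sub, map_pow, aeval_X, sub_mulVec, Matrix.aeval_self_charpoly, zero_mulVec]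
    abel
  refine ⟨w, ψ, fun e0 => ?_, fun e0 => ?_, ⟨u, hli'⟩, charpoly_of_annihilate hli' hf hdeg hann⟩
  · refine hne (charpoly_of_annihilate hli hf hdeg ?_)
    rw [hw, map_sub, sub_mulVec, Matrix.aeval_self_charpoly, zero_mulVec, zero_sub, neg_eq_zero] at e0
    exact e0
  · have := hcoord last
    rw [← hφ, e0, zero_dotProduct, if_pos rfl] at this
    exact zero_ne_one this

theorem det_one_add_vecMulVec (a b : Fin n → F) : (1 + vecMulVec a b).det = 1 + b ⬝ᵥ a := by
  rw [vecMulVec_eq (Fin 1), det_one_add_replicateCol_mul_replicateRow]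

theorem det_smul_add_vecMulVec {σ : F} (hσ : σ ≠ 0) (a b : Fin n → F) :
    (σ • 1 + vecMulVec a b).det = σ ^ n * (1 + b ⬝ᵥ a / σ) := by
  rw [show σ • (1 : Matrix (Fin n) (Fin n) F) + vecMulVec a b = σ • (1 + vecMulVec (σ⁻¹ • a) b) by
    rw [smul_add, smul_vecMulVec, smul_inv_smul₀ hσ], det_smul, Fintype.card_fin, det_one_add_vecMulVec,
    dotProduct_smul, smul_eq_mul, div_eq_inv_mul]

variable [Fintype F]

/-- Two linear forms which do not vanish have a common non-zero. -/
theorem exists_dot_ne_zero (h4 : 4 ≤ Fintype.card F) {b c : Fin n → F} (hb : b ≠ 0) (hc : c ≠ 0) :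
    ∃ w, b ⬝ᵥ w ≠ 0 ∧ c ⬝ᵥ w ≠ 0 := by
  classical
  obtain ⟨i, hi⟩ := Function.ne_iff.mp hb
  obtain ⟨j, hj⟩ := Function.ne_iff.mp hc
  simp only [Pi.zero_apply] at hi hj
  by_cases h1 : c i ≠ 0
  · exact ⟨Pi.single i 1, by simpa using hi, by simpa using h1⟩
  by_cases h2 : b j ≠ 0
  · exact ⟨Pi.single j 1, by simpa using h2, by simpa using hj⟩
  push Not at h1 h2
  exact ⟨Pi.single i 1 + Pi.single j 1, by simp [dotProduct_add, h2, hi],
    by simp [dotProduct_add, h1, hj]⟩

/-- Matrices of rank one with equal pairings are similar. -/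
theorem sim_rankOne (h4 : 4 ≤ Fintype.card F) (σ : F) {a b a' b' : Fin n → F} (ha : a ≠ 0) (hb : b ≠ 0)
    (ha' : a' ≠ 0) (hb' : b' ≠ 0) (h : b ⬝ᵥ a = b' ⬝ᵥ a') :
    Sim (σ • 1 + vecMulVec a b) (σ • 1 + vecMulVec a' b') := by
  have el : ∀ (P : Matrix (Fin n) (Fin n) F) (a b : Fin n → F),
      P * (σ • 1 + vecMulVec a b) = σ • P + vecMulVec (P *ᵥ a) b ∧
        (σ • 1 + vecMulVec a b) * P = σ • P + vecMulVec a (b ᵥ* P) := fun P a b => by
    constructor
    · rw [Matrix.mul_add, Matrix.mul_smul, Matrix.mul_one, mul_vecMulVec]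
    · rw [Matrix.add_mul, Matrix.smul_mul, Matrix.one_mul, vecMulVec_mul]
  obtain ⟨c, hc, hc'⟩ := exists_dot_ne_zero h4 ha ha'
  rw [dotProduct_comm] at hc hc'
  set c₁ := (c ⬝ᵥ a)⁻¹ • c with hc₁
  have e1 : c₁ ⬝ᵥ a = 1 := by rw [hc₁, smul_dotProduct, smul_eq_mul, inv_mul_cancel₀ hc]
  set P := 1 + vecMulVec (a' - a) c₁ with hP
  have hPd : P.det ≠ 0 := by
    rw [hP, det_one_add_vecMulVec, dotProduct_sub, e1, add_sub_cancel, hc₁, smul_dotProduct, smul_eq_mul]
    exact mul_ne_zero (inv_ne_zero hc) hc'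
  have hPu : IsUnit P.det := isUnit_iff_ne_zero.2 hPd
  have hPa : P *ᵥ a = a' := by
    rw [hP, add_mulVec, one_mulVec, vecMulVec_mulVec, op_smul_eq_smul, e1, one_smul, add_sub_cancel]
  set b₁ := b ᵥ* P⁻¹ with hb₁
  have hb₁P : b₁ ᵥ* P = b := by rw [hb₁, vecMul_vecMul, nonsing_inv_mul _ hPu, vecMul_one]
  have h1 : Sim (σ • 1 + vecMulVec a b) (σ • 1 + vecMulVec a' b₁) := by
    refine ⟨P, hPd, ?_⟩
    rw [(el _ _ _).1, (el _ _ _).2, hPa, hb₁P]
  have hb₁0 : b₁ ≠ 0 := fun e => hb (by rw [← hb₁P, e, zero_vecMul])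
  have h₁ : b₁ ⬝ᵥ a' = b' ⬝ᵥ a' := by rw [← h, ← hPa, dotProduct_mulVec, hb₁P]
  obtain ⟨w, hw, hw'⟩ := exists_dot_ne_zero h4 hb' hb₁0
  set w₁ := (b' ⬝ᵥ w)⁻¹ • w with hw₁
  have e2 : b' ⬝ᵥ w₁ = 1 := by rw [hw₁, dotProduct_smul, smul_eq_mul, inv_mul_cancel₀ hw]
  refine h1.trans ⟨1 + vecMulVec w₁ (b₁ - b'), ?_, ?_⟩
  · rw [det_one_add_vecMulVec, sub_dotProduct, e2, add_sub_cancel, hw₁, dotProduct_smul, smul_eq_mul]
    exact mul_ne_zero (inv_ne_zero hw) hw'
  · have e3 : (1 + vecMulVec w₁ (b₁ - b')) *ᵥ a' = a' := by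
      rw [add_mulVec, one_mulVec, vecMulVec_mulVec, op_smul_eq_smul, sub_dotProduct, h₁, sub_self,
        zero_smul, add_zero]
    have e4 : b' ᵥ* (1 + vecMulVec w₁ (b₁ - b')) = b₁ := by
      rw [vecMul_add, vecMul_one, vecMul_vecMulVec, e2, one_smul, add_sub_cancel]
    rw [(el _ _ _).1, (el _ _ _).2, e3, e4]

/-- A cyclic lower triangular matrix with a given spectrum, and its scaled inverse. -/
theorem exists_cyc_inverse (hn : 1 ≤ n) (t : Fin n → F) (ht : ∀ i, t i ≠ 0) {σ : F} (hσ : σ ≠ 0) :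
    ∃ U M : Matrix (Fin n) (Fin n) F, IsCyc U ∧ U.charpoly = ∏ i, (X - C (t i)) ∧ IsCyc M ∧
      M * U = σ • 1 ∧ ∃ d : ℕ → F, U = bid d ∧ Grouped (fun i : Fin n => d i.val) := by
  classical
  obtain ⟨m, rfl⟩ : ∃ m, n = m + 1 := ⟨n - 1, by omega⟩
  obtain ⟨e, hg, -⟩ := exists_shape t
  set d : ℕ → F := fun i => if h : i < m + 1 then (t ∘ e) ⟨i, h⟩ else 0 with hd
  have hdd : ∀ i : Fin (m + 1), d i.val = (t ∘ e) i := fun i => by simp only [d, dif_pos i.isLt, Fin.eta]
  set U : Matrix (Fin (m + 1)) (Fin (m + 1)) F := bid d with hU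
  have hlow : ∀ i j : Fin (m + 1), i.val < j.val → U i j = 0 := bid_lower d
  have hUd : ∀ i, U i i = (t ∘ e) i := fun i => by rw [hU, bid_diag, hdd]
  have hUc : IsCyc U := isCyc_lower hlow (by simpa only [hUd] using hg) fun i h _ => by
    rw [show U ⟨i.val + 1, h⟩ i = 1 from bid_sub d _ _ rfl]
    exact one_ne_zero
  have hUp : U.charpoly = ∏ i, (X - C (t i)) := by
    rw [charpoly_lower hlow]
    simp only [hUd]
    exact Equiv.prod_comp e fun i => X - C (t i)
  have hU0 : IsUnit U.det := isUnit_iff_ne_zero.2 (by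
    rw [Matrix.det_of_isLowerTriangular _ (fun i j h => hlow i j h)]
    exact Finset.prod_ne_zero_iff.mpr fun i _ => by rw [hUd]; exact ht _)
  haveI : Invertible U := U.invertibleOfIsUnitDet hU0
  have hIl : ∀ i j : Fin (m + 1), i.val < j.val → (U⁻¹) i j = 0 := fun i j h =>
    blockTriangular_inv_of_blockTriangular (M := U) (b := OrderDual.toDual)
      (fun i j h => hlow i j (by exact_mod_cast h)) (by exact_mod_cast h)
  have hMU : (σ • U⁻¹) * U = σ • 1 := by rw [Matrix.smul_mul, nonsing_inv_mul _ hU0]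
  refine ⟨U, σ • U⁻¹, hUc, hUp, ?_, hMU, d, rfl, by simpa only [hdd] using hg⟩
  refine isCyc_of_eigLe (charpoly_lower fun i j h => by rw [Matrix.smul_apply, hIl i j h, smul_zero])
    fun k => ?_
  set c := (σ • U⁻¹) k k
  have key : ∀ v : Fin (m + 1) → F, (σ • U⁻¹) *ᵥ v = c • v → c • (U *ᵥ v) = σ • v := by
    intro v hv
    rw [← mulVec_smul, ← hv, mulVec_mulVec, Matrix.mul_smul, mul_nonsing_inv _ hU0, smul_mulVec, one_mulVec]
  rw [eigLe_iff]
  intro v w hv hw hv0
  have hc : c ≠ 0 := fun e0 => by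
    have := key v hv
    rw [e0, zero_smul, eq_comm, smul_eq_zero] at this
    exact hv0 (this.resolve_left hσ)
  have key' : ∀ v : Fin (m + 1) → F, (σ • U⁻¹) *ᵥ v = c • v → U *ᵥ v = (σ / c) • v := fun v hv => by
    rw [div_eq_inv_mul, mul_smul, eq_inv_smul_iff₀ hc, key v hv]
  exact eigLe_iff.mp (eigLe_lower hlow (by simpa only [hUd] using hg) (fun i h _ => by
    rw [show U ⟨i.val + 1, h⟩ i = 1 from bid_sub d _ _ rfl]
    exact one_ne_zero) _) v w (key' v hv) (key' w hw) hv0

/-- A nonscalar matrix which is not wide is a scalar plus a matrix of rank one. -/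
theorem exists_rankOne_of_not_wide (h1 : 2 ≤ n) {g : Matrix (Fin n) (Fin n) F} (hg : ∀ c : F, g ≠ c • 1)
    (hg0 : g.det ≠ 0) (hw : ¬ Wide g) :
    ∃ (σ : F) (a b : Fin n → F), σ ≠ 0 ∧ a ≠ 0 ∧ b ≠ 0 ∧ g = σ • 1 + vecMulVec a b := by
  classical
  obtain ⟨σ, hσ⟩ : ∃ σ : F, (g - σ • 1).rank < 2 := by
    by_contra hc
    exact hw fun σ => le_of_not_gt fun h => hc ⟨σ, h⟩
  set R := g - σ • 1 with hR
  have hR0 : R ≠ 0 := fun e => hg σ (sub_eq_zero.mp e)
  obtain ⟨i, j, hij⟩ : ∃ i j, R i j ≠ 0 := by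
    by_contra hc
    push Not at hc
    exact hR0 (Matrix.ext hc)
  have hge : g = σ • 1 + R := by rw [hR]; abel
  -- every column is a multiple of the `j`th
  have hcol : ∀ k, ∃ c : F, R.col k = c • R.col j := by
    intro k
    by_contra hc
    push Not at hc
    have hli : LinearIndependent F ![R.col j, R.col k] := by
      rw [LinearIndependent.pair_iff]
      intro s t hst
      rcases eq_or_ne t 0 with rfl | ht
      · rw [zero_smul, add_zero, smul_eq_zero] at hst
        exact ⟨hst.resolve_right fun e => hij (congrFun e i), rfl⟩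
      · refine absurd ?_ (hc (-s / t))
        rw [div_eq_inv_mul, mul_smul, eq_inv_smul_iff₀ ht, neg_smul]
        exact eq_neg_of_add_eq_zero_right hst
    have hle : Submodule.span F (Set.range ![R.col j, R.col k]) ≤ LinearMap.range R.mulVecLin := by
      rw [Submodule.span_le]
      rintro _ ⟨l, rfl⟩
      fin_cases l
      · exact ⟨Pi.single j 1, by simp⟩
      · exact ⟨Pi.single k 1, by simp⟩
    have h2 := Submodule.finrank_mono hle
    rw [finrank_span_eq_card hli, Fintype.card_fin] at h2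
    exact absurd h2 (not_le.mpr hσ)
  choose c hc using hcol
  have hRv : R = vecMulVec (R.col j) c := by
    ext p q
    rw [vecMulVec_apply, mul_comm]
    exact congrFun (hc q) p
  refine ⟨σ, R.col j, c, ?_, fun e => hij (congrFun e i), fun e => hR0 (by rw [hRv, e, vecMulVec_zero]),
    by rw [← hRv]; exact hge⟩
  intro e0
  refine hg0 ?_
  rw [hge, e0, zero_smul, zero_add]
  by_contra hd
  have := Matrix.rank_of_isUnit R ((Matrix.isUnit_iff_isUnit_det R).mpr (isUnit_iff_ne_zero.2 hd))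
  rw [Fintype.card_fin] at this
  omega

/-- A nonscalar matrix is similar to a product of two cyclic matrices with spectrum `t`. -/
theorem exists_spec_prod (h4 : 4 ≤ Fintype.card F) (hn : 3 ≤ n) (t : Fin n → F) (ht : ∀ i, t i ≠ 0)
    {g : Matrix (Fin n) (Fin n) F} (hg : ∀ c : F, g ≠ c • 1) (hdet : g.det = (∏ i, t i) ^ 2) :
    ∃ L U : Matrix (Fin n) (Fin n) F, IsCyc L ∧ L.charpoly = ∏ i, (X - C (t i)) ∧
      IsCyc U ∧ U.charpoly = ∏ i, (X - C (t i)) ∧ Sim (L * U) g := by
  classical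
  by_cases hw : Wide g
  · exact exists_diag_prod h4 (by omega) t ht g hw hdet
  have hg0 : g.det ≠ 0 := by
    rw [hdet]
    exact pow_ne_zero _ (Finset.prod_ne_zero_iff.mpr fun i _ => ht i)
  obtain ⟨σ, a, b, hσ, ha, hb, rfl⟩ := exists_rankOne_of_not_wide (by omega) hg hg0 hw
  obtain ⟨U, M, hU, hUp, hM, hMU, d, hUd, hgr⟩ := exists_cyc_inverse (by omega) t ht hσ
  set f := ∏ i, (X - C (t i)) with hf
  have hfm : f.Monic := monic_prod_of_monic _ _ fun i _ => monic_X_sub_C _
  have hfd : f.natDegree = n := by rw [← hUp, Matrix.charpoly_natDegree_eq_dim, Fintype.card_fin]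
  have hdetf : ∀ A : Matrix (Fin n) (Fin n) F, A.charpoly = f → A.det = ∏ i, t i := by
    intro A hA
    rw [Matrix.det_eq_sign_charpoly_coeff, hA, coeff_zero_eq_eval_zero, hf, eval_prod, Fintype.card_fin]
    simp only [eval_sub, eval_X, eval_C, zero_sub]
    rw [Finset.prod_neg, Finset.card_univ, Fintype.card_fin, ← mul_assoc, ← mul_pow, neg_one_mul, neg_neg,
      one_pow, one_mul]
  have finish : ∀ (L U' : Matrix (Fin n) (Fin n) F) (a' b' : Fin n → F), a' ≠ 0 → b' ≠ 0 →
      L.charpoly = f → U'.charpoly = f → L * U' = σ • 1 + vecMulVec a' b' →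
      Sim (L * U') (σ • 1 + vecMulVec a b) := by
    intro L U' a' b' ha' hb' hL hU' e
    rw [e]
    refine sim_rankOne h4 σ ha' hb' ha hb ?_
    have h1 := congrArg Matrix.det e
    rw [det_mul, hdetf L hL, hdetf U' hU', ← sq, ← hdet, det_smul_add_vecMulVec hσ,
      det_smul_add_vecMulVec hσ] at h1
    have h2 := add_left_cancel (mul_left_cancel₀ (pow_ne_zero _ hσ) h1)
    field_simp at h2
    exact h2.symm
  by_cases hMf : M.charpoly = f
  · -- perturb the second factor off the diagonal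
    set E : Fin n → F := Pi.single ⟨n - 1, by omega⟩ 1 with hE
    set e0 : Fin n → F := Pi.single ⟨0, by omega⟩ 1 with he0
    set U' := U + vecMulVec E e0 with hU'
    have hEoff : ∀ i j : Fin n, i.val ≤ j.val + 1 → vecMulVec E e0 i j = 0 := fun i j h => by
      rw [vecMulVec_apply, hE, he0, Pi.single_apply, Pi.single_apply]
      split_ifs with h1 h2
      · subst h1 h2
        simp only at h
        omega
      all_goals simp
    have hlow : ∀ i j : Fin n, i.val < j.val → U' i j = 0 := fun i j h => by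
      rw [hU', Matrix.add_apply, hUd, bid_lower d i j h, hEoff i j (by omega), add_zero]
    have hd : ∀ i, U' i i = d i.val := fun i => by
      rw [hU', Matrix.add_apply, hUd, bid_diag, hEoff i i (by omega), add_zero]
    have hU'c : IsCyc U' := isCyc_lower hlow (by simpa only [hd] using hgr) fun i h _ => by
      rw [hU', Matrix.add_apply, hUd, bid_sub d _ _ rfl, hEoff _ _ le_rfl, add_zero]
      exact one_ne_zero
    have hU'p : U'.charpoly = f := by
      rw [charpoly_lower hlow, ← hUp, hUd, charpoly_lower (bid_lower d)]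
      simp only [hd, bid_diag]
    refine ⟨M, U', hM, hMf, hU'c, hU'p, finish M U' (M *ᵥ E) e0 (fun e => ?_) ?_ hMf hU'p ?_⟩
    · have hM0 : M.det ≠ 0 := by
        rw [hdetf M hMf]
        exact Finset.prod_ne_zero_iff.mpr fun i _ => ht i
      exact hM0 (Matrix.exists_mulVec_eq_zero_iff.mp ⟨E, by rw [hE]; simp, e⟩)
    · rw [he0]; simp
    · rw [hU', Matrix.mul_add, hMU, mul_vecMulVec]
  · obtain ⟨w, ψ, hw0, hψ0, hLc, hLp⟩ := exists_rankOne_perturb (by omega) hM hfm hfd hMf
    refine ⟨_, U, hLc, hLp, hU, hUp, finish _ U w (ψ ᵥ* U) hw0 (fun e => ?_) hLp hUp ?_⟩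
    · have hU0 : U.det ≠ 0 := by
        rw [hdetf U hUp]
        exact Finset.prod_ne_zero_iff.mpr fun i _ => ht i
      exact hU0 (Matrix.exists_vecMul_eq_zero_iff.mp ⟨ψ, hψ0, e⟩)
    · rw [Matrix.add_mul, hMU, vecMulVec_mul]

/-- Two conjugates give every cyclic matrix with the spectrum of a mate. -/
theorem cov_two {N : Subgroup Fˣ} {L : Set (F × F)} {x : Matrix (Fin n) (Fin n) F} {t : Fin n → F}
    (hx : Sq N L x t) (hN : N = ⊤ ∨ ∃ i, ∀ j, t j = t i → j = i) {A : Matrix (Fin n) (Fin n) F}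
    (hA : IsCyc A) (hAp : A.charpoly = ∏ i, (X - C (t i))) : Cov N x 2 A := by
  obtain ⟨P, hP, hM, -⟩ := hx 1
  rw [one_mul] at hP
  set y := (P : Matrix (Fin n) (Fin n) F) * x * ((P⁻¹ : GL (Fin n) F) : Matrix (Fin n) (Fin n) F)
  have h2 : Cov N x 2 (x * y) := (cov_one (SimIn.conj P hP x)).cons (SimIn.refl N x)
  have hT : IsCyc (x * y) := isCyc_of_eigLe hM.1 fun i => hM.2 _
  refine h2.conj (SimIn.of_top (fun u => ?_) (simIn_top_iff.2 (sim_of_isCyc hT hA (hM.1.trans hAp.symm))))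
  rcases hN with rfl | ⟨i, hi⟩
  · exact ⟨1, by simp, Subgroup.mem_top _⟩
  · obtain ⟨G, hG, hGd⟩ := exists_centraliser_det hM.1 hT hi u⁻¹
    exact ⟨G, hG, by rw [hGd, mul_inv_cancel]; exact one_mem N⟩

/-- Four conjugates give all nonscalar matrices. -/
theorem cov_four_ns (h4 : 4 ≤ Fintype.card F) (hn : 3 ≤ n) {N : Subgroup Fˣ} {L : Set (F × F)}
    {x : Matrix (Fin n) (Fin n) F} (hx0 : x.det ≠ 0) {t : Fin n → F} (hx : Sq N L x t)
    (hN : N = ⊤ ∨ ∃ i, ∀ j, t j = t i → j = i) {g : Matrix (Fin n) (Fin n) F}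
    (hg : ∀ c : F, g ≠ c • 1) (hdet : g.det = x.det ^ 4) : Cov N x 4 g := by
  obtain ⟨P, hP, hM, -⟩ := hx 1
  have hprod : ∏ i, t i = x.det ^ 2 := by rw [hM.prod_eq, det_mul, det_units_conj, sq]
  have ht : ∀ i, t i ≠ 0 := fun i =>
    Finset.prod_ne_zero_iff.mp (hprod ▸ pow_ne_zero _ hx0) i (Finset.mem_univ _)
  obtain ⟨A, B, hA, hAp, hB, hBp, hAB⟩ := exists_spec_prod h4 hn t ht hg (by rw [hdet, hprod, ← pow_mul])
  obtain ⟨Q, rfl⟩ := exists_conj_of_sim hAB
  -- conjugate both factors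
  rw [← mul_conj]
  have hconj : ∀ A : Matrix (Fin n) (Fin n) F, IsCyc A → A.charpoly = ∏ i, (X - C (t i)) →
      Cov N x 2 ((Q : Matrix (Fin n) (Fin n) F) * A * ((Q⁻¹ : GL (Fin n) F) : Matrix (Fin n) (Fin n) F)) := by
    intro A hA hAp
    have hp : ((Q : Matrix (Fin n) (Fin n) F) * A * ((Q⁻¹ : GL (Fin n) F) : Matrix (Fin n) (Fin n) F)).charpoly =
        ∏ i, (X - C (t i)) := by rw [charpoly_conj, hAp]
    refine cov_two hx hN (isCyc_of_eigLe hp fun i => ?_) hp
    have hh : EigLe (x * ((P : Matrix (Fin n) (Fin n) F) * x * ((P⁻¹ : GL (Fin n) F) : Matrix (Fin n) (Fin n) F))) (t i) :=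
      hM.2 _
    obtain ⟨R, hR⟩ := exists_conj_of_sim (sim_of_isCyc (isCyc_of_eigLe hM.1 fun i => hM.2 _) hA (hM.1.trans hAp.symm))
    rw [hR]
    exact eigLe_conj Q (eigLe_conj R hh)
  exact (hconj A hA hAp).mul (hconj B hB hBp)

/-- Four conjugates give the scalar `c` when the spectrum is stable under `t ↦ c / t`. -/
theorem cov_four_scalar {N : Subgroup Fˣ} {L : Set (F × F)} {x : Matrix (Fin n) (Fin n) F} {t : Fin n → F}
    (hx : Sq N L x t) (hN : N = ⊤ ∨ ∃ i, ∀ j, t j = t i → j = i) {c : F} (hc : c ≠ 0)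
    (ht : ∀ i, t i ≠ 0) (σ : Equiv.Perm (Fin n)) (hσ : ∀ i, t i * t (σ i) = c) :
    Cov N x 4 (c • 1) := by
  classical
  obtain ⟨P, hP, hM, -⟩ := hx 1
  set T := x * ((P : Matrix (Fin n) (Fin n) F) * x * ((P⁻¹ : GL (Fin n) F) : Matrix (Fin n) (Fin n) F))
  have hT0 : T.det ≠ 0 := by
    rw [← hM.prod_eq]
    exact Finset.prod_ne_zero_iff.mpr fun i _ => ht i
  have hTu : IsUnit T.det := isUnit_iff_ne_zero.2 hT0
  set T' := c • T⁻¹ with hT'
  have hTT : T * T' = c • 1 := by rw [hT', Matrix.mul_smul, mul_nonsing_inv _ hTu]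
  have hcyc : IsCyc T := isCyc_of_eigLe hM.1 fun i => hM.2 _
  have hp : T'.charpoly = ∏ i, (X - C (t i)) := by
    rcases Nat.eq_zero_or_pos n with rfl | hn
    · simp
    obtain ⟨U, M, hU, hUp, hMc, hMU, d, hUd, -⟩ := exists_cyc_inverse hn t ht hc
    obtain ⟨R, hR⟩ := exists_conj_of_sim (sim_of_isCyc hU hcyc (hUp.trans hM.1.symm))
    have e : T' = (R : Matrix (Fin n) (Fin n) F) * M * ((R⁻¹ : GL (Fin n) F) : Matrix (Fin n) (Fin n) F) := by
      have h1 : ((R : Matrix (Fin n) (Fin n) F) * M * ((R⁻¹ : GL (Fin n) F) : Matrix (Fin n) (Fin n) F)) * T = c • 1 := by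
        rw [hR, mul_conj, hMU, Matrix.mul_smul, Matrix.smul_mul, Matrix.mul_one, Units.mul_inv]
      calc T' = 1 * T' := (Matrix.one_mul _).symm
        _ = (c⁻¹ • (((R : Matrix (Fin n) (Fin n) F) * M * ((R⁻¹ : GL (Fin n) F) : Matrix (Fin n) (Fin n) F)) * T)) * T' := by
          rw [h1, inv_smul_smul₀ hc]
        _ = _ := by
          rw [Matrix.smul_mul, Matrix.mul_assoc, hTT, Matrix.mul_smul, Matrix.mul_one, inv_smul_smul₀ hc]
    rw [e, charpoly_conj]
    -- the diagonal of the scaled inverse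
    have hUl : ∀ i j : Fin n, i.val < j.val → U i j = 0 := hUd ▸ bid_lower d
    have hU0 : U.det ≠ 0 := fun e0 => by
      have := congrArg Matrix.det hR
      rw [det_units_conj, e0] at this
      exact hT0 this
    haveI : Invertible U := U.invertibleOfIsUnitDet (isUnit_iff_ne_zero.2 hU0)
    have hMe : M = c • U⁻¹ := by
      rw [← Matrix.mul_one M, ← mul_nonsing_inv _ (isUnit_iff_ne_zero.2 hU0), ← Matrix.mul_assoc, hMU,
        Matrix.smul_mul, Matrix.one_mul]
    have hMl : ∀ i j : Fin n, i.val < j.val → M i j = 0 := fun i j h => by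
      rw [hMe, Matrix.smul_apply, blockTriangular_inv_of_blockTriangular (M := U) (b := OrderDual.toDual)
        (fun i j h => hUl i j (by exact_mod_cast h)) (by exact_mod_cast h), smul_zero]
    have hdiag : ∀ i, M i i * U i i = c := fun i => by
      have := congrFun (congrFun hMU i) i
      rw [(lower_mul hMl hUl).2.1] at this
      simpa using this
    rw [charpoly_lower hMl]
    rw [charpoly_lower hUl] at hUp
    -- compare multisets
    have hms : Multiset.map (fun i => U i i) Finset.univ.val = Multiset.map t Finset.univ.val := by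
      have h := congrArg Polynomial.roots hUp
      rw [← Finset.prod_map_val, ← Finset.prod_map_val] at h
      have hr : ∀ f : Fin n → F, (Multiset.map (fun i => X - C (f i)) Finset.univ.val).prod.roots =
          Multiset.map f Finset.univ.val := fun f => by
        rw [show Multiset.map (fun i => X - C (f i)) Finset.univ.val =
          Multiset.map (fun a => X - C a) (Multiset.map f Finset.univ.val) by rw [Multiset.map_map]; rfl,
          roots_multiset_prod_X_sub_C]
      rwa [hr, hr] at h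
    rw [← Finset.prod_map_val, ← Finset.prod_map_val]
    congr 1
    have h1 : Multiset.map (fun i => X - C (M i i)) Finset.univ.val =
        Multiset.map (fun a => X - C (c / a)) (Multiset.map (fun i => U i i) Finset.univ.val) := by
      rw [Multiset.map_map]
      refine Multiset.map_congr rfl fun i _ => ?_
      have : U i i ≠ 0 := fun e0 => hc (by rw [← hdiag i, e0, mul_zero])
      simp only [Function.comp_apply]
      rw [← hdiag i, mul_div_cancel_right₀ _ this]
    rw [h1, hms, Multiset.map_map]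
    have h2 : Multiset.map σ (Finset.univ : Finset (Fin n)).val = Finset.univ.val := by
      have := Finset.map_univ_equiv σ
      conv_rhs => rw [← this]
      rw [Finset.map_val]
      rfl
    conv_rhs => rw [← h2, Multiset.map_map]
    refine Multiset.map_congr rfl fun i _ => ?_
    simp only [Function.comp_apply]
    rw [← hσ i, mul_div_cancel_left₀ _ (ht i)]
  have hT'e : ∀ i, EigLe T' (t i) := fun i => by
    rw [eigLe_iff]
    intro v w hv hw hv0
    have key : ∀ v, T' *ᵥ v = t i • v → T *ᵥ v = (c / t i) • v := fun v hv => by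
      have := congrArg (T *ᵥ ·) hv
      simp only [mulVec_mulVec, hTT, smul_mulVec, one_mulVec, mulVec_smul] at this
      rw [div_eq_inv_mul, mul_smul, eq_inv_smul_iff₀ (ht i)]
      exact this.symm
    exact eigLe_iff.mp (hM.2 _) v w (key v hv) (key w hw) hv0
  rw [← hTT]
  exact ((cov_two hx hN hcyc hM.1)).mul (cov_two hx hN (isCyc_of_eigLe hp hT'e) hp)

/-- At least five conjugates give everything. -/
theorem cov_all (h4 : 4 ≤ Fintype.card F) (hn : 5 ≤ n) {N : Subgroup Fˣ} {L : Set (F × F)}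
    {x : Matrix (Fin n) (Fin n) F} (hx0 : x.det ≠ 0) {t : Fin n → F} (hx : Sq N L x t)
    (hN : N = ⊤ ∨ ∃ i, ∀ j, t j = t i → j = i) :
    ∀ k, 5 ≤ k → ∀ g : Matrix (Fin n) (Fin n) F, g.det = x.det ^ k → Cov N x k g := by
  intro k hk
  induction k, hk using Nat.le_induction with
  | base => exact fun g hg => cov_five h4 hn hx0 hx hN hg
  | succ k _ ih =>
    intro g hg
    set x' : GL (Fin n) F := GeneralLinearGroup.mkOfDetNeZero x hx0
    have e : g = x * (((x'⁻¹ : GL (Fin n) F) : Matrix (Fin n) (Fin n) F) * g) := by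
      rw [← Matrix.mul_assoc, show x = (x' : Matrix (Fin n) (Fin n) F) from rfl, Units.mul_inv, Matrix.one_mul]
    have hd := congrArg Matrix.det e
    rw [det_mul, hg, pow_succ'] at hd
    rw [e]
    exact (ih _ (mul_left_cancel₀ hx0 hd).symm).cons (SimIn.refl N x)

end CfsgLib.CoverPSL
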