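import Cfsg.Agent.CoverPSL.Defs
import Mathlib.FieldTheory.ChevalleyWarning
import Mathlib.LinearAlgebra.Matrix.Trace
import Mathlib.RingTheory.MvPolynomial.Homogeneous

/-!
# Two conjugates in `GL₂`

The products of two conjugates of a nonscalar `z` are the nonscalar matrices of determinant `det z²`,
except `± det z` times a transvection when the characteristic polynomial of `z` has no root.
-/

set_option autoImplicit false

namespace CfsgLib.CoverPSL

open Matrix CfsgLib.OreSL

variable {F : Type*} [Field F]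

/-- The companion matrix with given trace and determinant. -/
def comp2 (T D : F) : Matrix (Fin 2) (Fin 2) F := !![0, -D; 1, T]

theorem sim_comp2 (A : Matrix (Fin 2) (Fin 2) F) (hA : ∀ c : F, A ≠ c • 1) :
    Sim (comp2 A.trace A.det) A := by
  have key : ∀ P : Matrix (Fin 2) (Fin 2) F, P * comp2 A.trace A.det = A * P → P.det ≠ 0 →
      Sim (comp2 A.trace A.det) A := fun P h hd => ⟨P, hd, h⟩
  have hA' := Matrix.eta_fin_two A
  by_cases hc : A 1 0 = 0
  swap
  · refine key !![1, A 0 0; 0, A 1 0] ?_ (by simpa [det_fin_two] using hc)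
    ext i j
    fin_cases i <;> fin_cases j <;> simp [comp2, mul_apply, Fin.sum_univ_two, trace_fin_two, det_fin_two] <;> ring
  by_cases hb : A 0 1 = 0
  swap
  · refine key !![0, A 0 1; 1, A 1 1] ?_ (by simpa [det_fin_two] using hb)
    ext i j
    fin_cases i <;> fin_cases j <;> simp [comp2, mul_apply, Fin.sum_univ_two, trace_fin_two, det_fin_two] <;> ring
  refine key !![1, A 0 0; 1, A 1 1] ?_ ?_
  · ext i j
    fin_cases i <;> fin_cases j <;>
      simp [comp2, mul_apply, Fin.sum_univ_two, trace_fin_two, det_fin_two, hb, hc] <;> ring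
  · rw [det_fin_two]
    intro h
    refine hA (A 0 0) ?_
    have e : A 1 1 = A 0 0 := by simpa [sub_eq_zero] using h
    ext i j
    fin_cases i <;> fin_cases j <;> simp [hb, hc, e]

theorem sim_of_trace_det {A B : Matrix (Fin 2) (Fin 2) F} (hA : ∀ c : F, A ≠ c • 1) (hB : ∀ c : F, B ≠ c • 1)
    (ht : A.trace = B.trace) (hd : A.det = B.det) : Sim A B :=
  (sim_comp2 A hA).symm.trans (ht ▸ hd ▸ sim_comp2 B hB)

/-- A matrix whose trace and determinant have no double root is not scalar. -/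
theorem not_scalar_of_trace_det {A : Matrix (Fin 2) (Fin 2) F} {T D : F} (ht : A.trace = T) (hd : A.det = D)
    (h : ∀ m : F, ¬ (2 * m = T ∧ m ^ 2 = D)) (c : F) : A ≠ c • 1 := by
  rintro rfl
  refine h c ⟨?_, ?_⟩
  · rw [← ht]; simp; ring
  · rw [← hd]; simp [sq]

variable [Fintype F]

theorem exists_avoid_three (h4 : 4 ≤ Fintype.card F) (k : F) :
    ∃ t : F, t ^ 2 + k * t + 1 ≠ 0 ∧ t ≠ -1 := by
  classical
  by_contra hc
  push Not at hc
  by_cases h : ∃ r : F, r ^ 2 + k * r + 1 = 0
  · obtain ⟨r, hr⟩ := h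
    have : (Finset.univ : Finset F) ⊆ {r, -k - r, -1} := fun t _ => by
      simp only [Finset.mem_insert, Finset.mem_singleton]
      by_cases ht : t ^ 2 + k * t + 1 = 0
      · have : (t - r) * (t - (-k - r)) = 0 := by linear_combination ht - hr
        rcases mul_eq_zero.1 this with h | h
        · exact Or.inl (sub_eq_zero.1 h)
        · exact Or.inr (Or.inl (sub_eq_zero.1 h))
      · exact Or.inr (Or.inr (hc t ht))
    have := (Finset.card_le_card this).trans Finset.card_le_three
    rw [Finset.card_univ] at this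
    omega
  · push Not at h
    exact zero_ne_one ((hc 0 (h 0)).trans (hc 1 (h 1)).symm)

theorem exists_two (h4 : 4 ≤ Fintype.card F) (a : F) : ∃ u : F, u ≠ 0 ∧ u ≠ a := by
  classical
  by_contra hc
  push Not at hc
  have : (Finset.univ : Finset F) ⊆ {0, a} := fun t _ => by
    simp only [Finset.mem_insert, Finset.mem_singleton]
    exact or_iff_not_imp_left.2 (hc t)
  have := (Finset.card_le_card this).trans Finset.card_le_two
  rw [Finset.card_univ] at this
  omega

open MvPolynomial in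
/-- An anisotropic binary form makes the conic meet the affine plane. -/
theorem exists_point_aniso (T D k : F) (hk : ∀ t : F, t ^ 2 + k * t + 1 ≠ 0) :
    ∃ u w : F, u ^ 2 + k * u * w + w ^ 2 - T * (u + w) + D = 0 := by
  classical
  obtain ⟨p, hp⟩ := CharP.exists F
  have := hp
  let f : MvPolynomial (Fin 3) F := X 0 * X 0 + C k * (X 0 * X 1) + X 1 * X 1 +
    C (-T) * (X 0 * X 2) + C (-T) * (X 1 * X 2) + C D * (X 2 * X 2)
  have hh : f.IsHomogeneous 2 := by
    have h2 : ∀ i j : Fin 3, (X i * X j : MvPolynomial (Fin 3) F).IsHomogeneous 2 := fun i j =>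
      (isHomogeneous_X F i).mul (isHomogeneous_X F j)
    exact ((((((h2 0 0).add ((h2 0 1).C_mul k)).add (h2 1 1)).add ((h2 0 2).C_mul (-T))).add
      ((h2 1 2).C_mul (-T))).add ((h2 2 2).C_mul D))
  have hdeg : f.totalDegree < Fintype.card (Fin 3) :=
    lt_of_le_of_lt hh.totalDegree_le (by simp)
  have hdvd := char_dvd_card_solutions p hdeg
  have h0 : eval (0 : Fin 3 → F) f = 0 := by simp [f]
  obtain ⟨⟨x, hx⟩, hne⟩ : ∃ x : {x : Fin 3 → F // eval x f = 0}, x.1 ≠ 0 := by
    by_contra hc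
    push Not at hc
    haveI : Subsingleton {x : Fin 3 → F // eval x f = 0} :=
      ⟨fun a b => Subtype.ext ((hc a).trans (hc b).symm)⟩
    haveI : Nonempty {x : Fin 3 → F // eval x f = 0} := ⟨⟨0, h0⟩⟩
    rw [Fintype.card_eq_one_iff.2 ⟨⟨0, h0⟩, fun a => Subsingleton.elim _ _⟩] at hdvd
    exact (CharP.char_is_prime F p).one_lt.ne' (Nat.dvd_one.1 hdvd)
  simp only [f, map_add, map_mul, eval_X, eval_C] at hx
  by_cases h2 : x 2 = 0
  · exfalso
    by_cases h1 : x 1 = 0
    · have : x 0 = 0 := mul_self_eq_zero.1 (by simpa [h1, h2] using hx)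
      exact hne (funext fun i => by fin_cases i <;> assumption)
    · refine hk (x 0 / x 1) ?_
      field_simp
      rw [h2] at hx
      linear_combination hx
  · refine ⟨x 0 / x 2, x 1 / x 2, ?_⟩
    field_simp
    linear_combination hx

/-- The conic of the first factors has a suitable point. -/
theorem exists_point (h4 : 4 ≤ Fintype.card F) (T D k : F) (hD : D ≠ 0)
    (hgood : (∃ l : F, l ^ 2 - T * l + D = 0) ∨ (k ≠ 2 ∧ (T = 0 → k ≠ -2))) :
    ∃ u w : F, u ^ 2 + k * u * w + w ^ 2 - T * (u + w) + D = 0 ∧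
      ((∀ m : F, ¬ (2 * m = T ∧ m ^ 2 = D)) ∨ (u ≠ 0 ∧ w ≠ 0)) := by
  by_cases hroot : ∃ l : F, l ^ 2 - T * l + D = 0
  · obtain ⟨l, hl⟩ := hroot
    by_cases hd : 2 * l = T
    · -- a double root
      have hl0 : l ≠ 0 := fun e => hD (by subst e; simpa using hl)
      by_cases hk : k = 2
      · obtain ⟨u, hu0, hul⟩ := exists_two h4 l
        exact ⟨u, l - u, by subst hk hd; linear_combination hl, Or.inr ⟨hu0, sub_ne_zero.2 hul.symm⟩⟩
      · obtain ⟨t, ht, ht1⟩ := exists_avoid_three h4 k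
        have hL : (k - 2) * l ≠ 0 := mul_ne_zero (sub_ne_zero.2 hk) hl0
        obtain ⟨s, hs⟩ : ∃ s, s = -((k - 2) * l) / (t ^ 2 + k * t + 1) := ⟨_, rfl⟩
        have hs' : s * (t ^ 2 + k * t + 1) + (k - 2) * l = 0 := by
          rw [hs, div_mul_cancel₀ _ ht]; ring
        have hs0 : s ≠ 0 := by rw [hs]; exact div_ne_zero (neg_ne_zero.2 hL) ht
        refine ⟨l + t * s, s, by subst hd; linear_combination hl + s * hs', Or.inr ⟨fun e => ?_, hs0⟩⟩
        have h1 : s * (t + 1) ^ 2 = 0 := by linear_combination hs' - (k - 2) * e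
        exact ht1 (eq_neg_of_add_eq_zero_left (eq_zero_of_pow_eq_zero ((mul_eq_zero.1 h1).resolve_left hs0)))
    · refine ⟨l, 0, by linear_combination hl, Or.inl ?_⟩
      rintro m ⟨hm, hm2⟩
      have e : (l - m) ^ 2 = 0 := by linear_combination hl - l * hm + hm2
      exact hd (by rw [sub_eq_zero.1 (eq_zero_of_pow_eq_zero e), hm])
  · have hns : ∀ m : F, ¬ (2 * m = T ∧ m ^ 2 = D) := fun m ⟨hm, hm2⟩ =>
      hroot ⟨m, by linear_combination m * hm - hm2⟩
    obtain ⟨hk2, hkT⟩ := hgood.resolve_left hroot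
    push Not at hroot
    by_cases haniso : ∀ t : F, t ^ 2 + k * t + 1 ≠ 0
    · obtain ⟨u, w, h⟩ := exists_point_aniso T D k haniso
      exact ⟨u, w, h, Or.inl hns⟩
    push Not at haniso
    obtain ⟨t, ht⟩ := haniso
    obtain ⟨r, hr⟩ : ∃ r : F, (2 * t + k) * r - T * (t + 1) ≠ 0 := by
      by_cases hA : 2 * t + k = 0
      · refine ⟨0, fun e => ?_⟩
        have e' : T * (t + 1) = 0 := by linear_combination -e
        have h1 : (t - 1) * (t + 1) = 0 := by linear_combination t * hA - ht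
        rcases mul_eq_zero.1 e' with hT | ht1
        · rcases mul_eq_zero.1 h1 with h | h
          · exact hkT hT (by linear_combination hA - 2 * h)
          · exact hk2 (by linear_combination hA - 2 * h)
        · exact hk2 (by linear_combination hA - 2 * ht1)
      · by_cases hT : T * (t + 1) = 0
        · exact ⟨1, by simpa [hT] using hA⟩
        · exact ⟨0, by simpa using hT⟩
    obtain ⟨w, hw⟩ : ∃ w, w = -(r ^ 2 - T * r + D) / ((2 * t + k) * r - T * (t + 1)) := ⟨_, rfl⟩
    have hw' : w * ((2 * t + k) * r - T * (t + 1)) + (r ^ 2 - T * r + D) = 0 := by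
      rw [hw, div_mul_cancel₀ _ hr]; ring
    exact ⟨t * w + r, w, by linear_combination w ^ 2 * ht + hw', Or.inl hns⟩

/-- Two conjugates in `GL₂`. -/
theorem gl2_pair (h4 : 4 ≤ Fintype.card F) (z g : Matrix (Fin 2) (Fin 2) F) (hz : ∀ c : F, z ≠ c • 1)
    (hg : ∀ c : F, g ≠ c • 1) (hz0 : z.det ≠ 0) (hdet : g.det = z.det ^ 2)
    (hgood : (∃ l : F, l ^ 2 - z.trace * l + z.det = 0) ∨
      (g.trace ≠ 2 * z.det ∧ (z.trace = 0 → g.trace ≠ -(2 * z.det)))) :
    Cov ⊤ z 2 g := by
  obtain ⟨T, hT⟩ : ∃ T, T = z.trace := ⟨_, rfl⟩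
  obtain ⟨D, hD⟩ : ∃ D, D = z.det := ⟨_, rfl⟩
  obtain ⟨G, hG⟩ : ∃ G, G = g.trace := ⟨_, rfl⟩
  rw [← hD] at hz0 hdet hgood
  rw [← hT, ← hG] at hgood
  have hgood' : (∃ l : F, l ^ 2 - T * l + D = 0) ∨ (G / D ≠ 2 ∧ (T = 0 → G / D ≠ -2)) := by
    refine hgood.imp_right fun h => ⟨fun e => h.1 ?_, fun hT0 e => h.2 hT0 ?_⟩
    · rw [div_eq_iff hz0] at e; exact e
    · rw [div_eq_iff hz0] at e; linear_combination e
  obtain ⟨u, w, heq, hpt⟩ := exists_point h4 T D (G / D) hz0 hgood'
  obtain ⟨c, rfl⟩ : ∃ c, w = D * c := ⟨w / D, by field_simp⟩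
  obtain ⟨b, hb⟩ : ∃ b, b = D ^ 2 * c + u * G - T * D := ⟨_, rfl⟩
  have hky : u * (T - u) - b * c = D := by
    field_simp at heq
    rw [hb]
    linear_combination -heq
  let y : Matrix (Fin 2) (Fin 2) F := !![u, b; c, T - u]
  let y' : Matrix (Fin 2) (Fin 2) F := !![-b / D, (-(T - u) * D ^ 2 - b * G) / D; u / D, (c * D ^ 2 + u * G) / D]
  have hyt : y.trace = T := by simp [y, trace_fin_two]
  have hyd : y.det = D := by simp [y, det_fin_two]; linear_combination hky
  have hmul : y * y' = comp2 G (D ^ 2) := by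
    ext i j
    fin_cases i <;> fin_cases j <;> simp [y, y', comp2, mul_apply, Fin.sum_univ_two] <;> field_simp
    · ring
    · linear_combination (-D ^ 2) * hky
    · linear_combination hky
    · linear_combination G * hky
  have hy't : y'.trace = T := by
    simp [y', trace_fin_two]
    field_simp
    rw [hb]
    ring
  have hy'd : y'.det = D := by
    have := congrArg Matrix.det hmul
    rw [det_mul, hyd, show (comp2 G (D ^ 2)).det = D ^ 2 from by simp [comp2, det_fin_two]] at this
    exact mul_left_cancel₀ hz0 (this.trans (sq D))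
  have hyns : ∀ m : F, y ≠ m • 1 := by
    rcases hpt with h | ⟨-, hc⟩
    · exact not_scalar_of_trace_det hyt hyd h
    · intro m e
      have := congrArg (fun A : Matrix (Fin 2) (Fin 2) F => A 1 0) e
      simp [y] at this
      exact hc (by rw [this, mul_zero])
  have hy'ns : ∀ m : F, y' ≠ m • 1 := by
    rcases hpt with h | ⟨hu, -⟩
    · exact not_scalar_of_trace_det hy't hy'd h
    · intro m e
      have := congrArg (fun A : Matrix (Fin 2) (Fin 2) F => A 1 0) e
      simp [y', hz0] at this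
      exact hu this
  have hsim : ∀ a : Matrix (Fin 2) (Fin 2) F, a.trace = T → a.det = D → (∀ m : F, a ≠ m • 1) → SimIn ⊤ z a :=
    fun a h1 h2 h3 => simIn_top_iff.2 (sim_of_trace_det hz h3 (hT.symm.trans h1.symm) (hD.symm.trans h2.symm))
  have hcov : Cov ⊤ z 2 (comp2 G (D ^ 2)) :=
    hmul ▸ Cov.cons (hsim y hyt hyd hyns) (cov_one (hsim y' hy't hy'd hy'ns))
  refine hcov.conj_top ?_
  rw [hG, ← hdet]
  exact sim_comp2 g hg

end CfsgLib.CoverPSL
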