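import Cfsg.Agent.CoverPSL.Cyclic
import Mathlib.Algebra.Polynomial.Div
import Mathlib.LinearAlgebra.Matrix.Block

/-!
# A bidiagonal matrix times a row elementary matrix

For every monic `f` of degree `m` with the right constant term, and every diagonal `d`, there is a row `ν`
with `ν 0 = 0` such that `bid d * eRow ν` is cyclic with characteristic polynomial `f`.
-/

set_option autoImplicit false

namespace CfsgLib.CoverPSL

open Matrix Polynomial CfsgLib.OreSL

variable {F : Type*} [Field F] {m : ℕ}

/-- Lower bidiagonal with diagonal `d` and ones below it. -/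
def bid (d : ℕ → F) : Matrix (Fin m) (Fin m) F :=
  Matrix.of fun i j => if i.val = j.val then d i.val else if i.val = j.val + 1 then 1 else 0

/-- The identity with the row `ν` added on top. -/
def eRow [NeZero m] (ν : Fin m → F) : Matrix (Fin m) (Fin m) F :=
  1 + vecMulVec (Pi.single 0 1) ν

theorem eRow_mul [NeZero m] {ν ν' : Fin m → F} (h : ν 0 = 0) : eRow ν * eRow ν' = eRow (ν + ν') := by
  rw [eRow, eRow, eRow, Matrix.add_mul, Matrix.one_mul, Matrix.mul_add, Matrix.mul_one,
    vecMulVec_mul_vecMulVec, dotProduct_single, mul_one, h, zero_smul, vecMulVec_zero, add_zero,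
    vecMulVec_add, add_assoc, add_comm (vecMulVec _ ν)]

theorem det_eRow [NeZero m] {ν : Fin m → F} (h : ν 0 = 0) : (eRow ν).det = 1 := by
  have hT : (eRow ν).IsUpperTriangular := by
    intro i j hij
    have hij' : j.val < i.val := hij
    simp only [eRow, Matrix.add_apply, vecMulVec_apply]
    rw [one_apply_ne (Fin.ne_of_val_ne (by omega)), Pi.single_eq_of_ne, zero_mul, add_zero]
    exact Fin.ne_of_val_ne (by simp only [Fin.val_zero]; omega)
  rw [Matrix.det_of_isUpperTriangular hT]
  refine Finset.prod_eq_one fun i _ => ?_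
  simp only [eRow, Matrix.add_apply, one_apply_eq, vecMulVec_apply]
  rcases eq_or_ne i 0 with rfl | hi
  · simp [h]
  · simp [hi]

theorem bid_mulVec_single (d : ℕ → F) (j : Fin m) :
    bid d *ᵥ Pi.single j 1 = fun i => if i.val = j.val then d i.val else if i.val = j.val + 1 then 1 else 0 := by
  funext i
  rw [Matrix.mulVec_single_one]
  rfl

theorem eRow_mulVec [NeZero m] (ν v : Fin m → F) :
    eRow ν *ᵥ v = v + (ν ⬝ᵥ v) • Pi.single 0 1 := by
  rw [eRow, add_mulVec, one_mulVec, vecMulVec_mulVec, op_smul_eq_smul]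

/-- The downward recursion: `q j` has degree `m - j`. -/
noncomputable def qSeq (f : F[X]) (d : ℕ → F) (m : ℕ) : ℕ → F[X]
  | 0 => f
  | j + 1 => (qSeq f d m j + C (-(qSeq f d m j).eval (d (m - (j + 1))) / d (m - (j + 1))) * X) /ₘ
      (X - C (d (m - (j + 1))))

/-- The coefficient used at position `i`. -/
noncomputable def nuSeq (f : F[X]) (d : ℕ → F) (m i : ℕ) : F :=
  if i = 0 then 0 else -(qSeq f d m (m - (i + 1))).eval (d i) / d i

theorem qSeq_step {f : F[X]} {d : ℕ → F} (hd : ∀ i, d i ≠ 0) {i : ℕ} (hi : 1 ≤ i) (him : i < m) :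
    qSeq f d m (m - (i + 1)) + C (nuSeq f d m i) * X = (X - C (d i)) * qSeq f d m (m - i) := by
  obtain ⟨j, hj⟩ : ∃ j, m - i = j + 1 := ⟨m - i - 1, by omega⟩
  rw [hj, show m - (i + 1) = j by omega, qSeq, show m - (j + 1) = i by omega, nuSeq, if_neg (by omega),
    show m - (i + 1) = j by omega]
  rw [eq_comm, mul_divByMonic_eq_iff_isRoot]
  simp [hd i]

theorem qSeq_spec {f : F[X]} {d : ℕ → F} (hf : f.Monic) (hdeg : f.natDegree = m) (hd : ∀ i, d i ≠ 0) :
    ∀ j, j < m → (qSeq f d m j).Monic ∧ (qSeq f d m j).natDegree = m - j ∧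
      (qSeq f d m j).eval 0 * ∏ i ∈ Finset.Ico (m - j) m, -d i = f.eval 0 := by
  intro j
  induction j with
  | zero => intro _; exact ⟨hf, by simpa [qSeq] using hdeg, by simp [qSeq]⟩
  | succ j ih =>
    intro hj
    obtain ⟨h1, h2, h3⟩ := ih (by omega)
    set i := m - (j + 1) with hi
    have hstep := qSeq_step (f := f) (m := m) hd (i := i) (by omega) (by omega)
    rw [show m - (i + 1) = j by omega, show m - i = j + 1 by omega] at hstep
    have hlt : (C (nuSeq f d m i) * X).degree < (qSeq f d m j).degree := by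
      rw [degree_eq_natDegree h1.ne_zero]
      refine (degree_C_mul_X_le _).trans_lt ?_
      rw [h2]
      exact_mod_cast (show 1 < m - j by omega)
    have hm' : (qSeq f d m j + C (nuSeq f d m i) * X).Monic := h1.add_of_left hlt
    rw [hstep] at hm'
    have hmon : (qSeq f d m (j + 1)).Monic := (monic_X_sub_C _).of_mul_monic_left hm'
    refine ⟨hmon, ?_, ?_⟩
    · have h := congrArg Polynomial.natDegree hstep
      rw [natDegree_add_eq_left_of_degree_lt hlt, (monic_X_sub_C _).natDegree_mul hmon,
        natDegree_X_sub_C, h2] at h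
      omega
    · have h := congrArg (Polynomial.eval 0) hstep
      simp only [eval_add, eval_mul, eval_C, eval_X, mul_zero, add_zero, eval_sub, zero_sub] at h
      rw [← h3, h, Finset.prod_eq_prod_Ico_succ_bot (show i < m by omega), show i + 1 = m - j by omega]
      ring

/-- A Hessenberg matrix with prescribed diagonal and characteristic polynomial. -/
theorem exists_nu [NeZero m] {f : F[X]} {d : ℕ → F} (hm : 2 ≤ m) (hf : f.Monic) (hdeg : f.natDegree = m)
    (hd : ∀ i, d i ≠ 0) (h0 : f.eval 0 = (-1) ^ m * ∏ i : Fin m, d i.val) :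
    ∃ ν : Fin m → F, ν 0 = 0 ∧ (∀ i : Fin m, i.val + 1 = m → ν i = -f.eval (d i.val) / d i.val) ∧
      IsCyc (bid d * eRow ν) ∧ (bid d * eRow ν).charpoly = f := by
  classical
  set ν : Fin m → F := fun i => nuSeq f d m i.val with hνdef
  have hν0 : ν 0 = 0 := by simp [ν, nuSeq]
  refine ⟨ν, hν0, fun i hi => ?_, ?_⟩
  · simp only [ν, nuSeq]
    rw [if_neg (by omega), show m - (i.val + 1) = 0 by omega, qSeq]
  set M := bid d * eRow ν with hM
  -- the first polynomial
  have hq1 : qSeq f d m (m - 1) = X - C (d 0) := by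
    obtain ⟨h1, h2, h3⟩ := qSeq_spec hf hdeg hd (m - 1) (by omega)
    rw [show m - (m - 1) = 1 by omega] at h2 h3
    have hX : qSeq f d m (m - 1) = X + C ((qSeq f d m (m - 1)).coeff 0) := h1.eq_X_add_C h2
    rw [hX, sub_eq_add_neg X, ← C_neg]
    congr 2
    rw [coeff_zero_eq_eval_zero]
    have hp : (∏ i : Fin m, d i.val) = d 0 * ∏ i ∈ Finset.Ico 1 m, d i := by
      rw [Fin.prod_univ_eq_prod_range (fun i => d i) m, Finset.range_eq_Ico,
        Finset.prod_eq_prod_Ico_succ_bot (show 0 < m by omega)]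
    have hne : (∏ i ∈ Finset.Ico 1 m, -d i) ≠ 0 := Finset.prod_ne_zero_iff.mpr fun i _ => neg_ne_zero.2 (hd i)
    refine mul_right_cancel₀ hne ?_
    rw [h3, h0, hp, Finset.prod_neg, Nat.card_Ico]
    obtain ⟨k, rfl⟩ : ∃ k, m = k + 1 := ⟨m - 1, by omega⟩
    rw [Nat.add_sub_cancel]
    ring
  -- the columns of `M`
  have hMe : ∀ j : Fin m, M *ᵥ Pi.single j 1 =
      bid d *ᵥ Pi.single j 1 + ν j • bid d *ᵥ Pi.single 0 1 := fun j => by
    rw [hM, ← mulVec_mulVec, eRow_mulVec, dotProduct_single, mul_one, mulVec_add, mulVec_smul]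
  -- `e i = q i (M) e 0`
  set e : ℕ → Fin m → F := fun i => if h : i < m then Pi.single ⟨i, h⟩ 1 else 0 with he
  have hbid : ∀ i, i < m → bid d *ᵥ e i = d i • e i + e (i + 1) := fun i hi => by
    simp only [e, dif_pos hi]
    rw [bid_mulVec_single]
    funext k
    by_cases h : i + 1 < m
    · rw [dif_pos h]
      simp only [Pi.add_apply, Pi.smul_apply, Pi.single_apply, Fin.ext_iff, smul_eq_mul]
      split_ifs <;> first | omega | simp_all
    · rw [dif_neg h]
      simp only [Pi.add_apply, Pi.smul_apply, Pi.single_apply, Fin.ext_iff, smul_eq_mul, Pi.zero_apply]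
      split_ifs <;> first | omega | simp_all
  have he0 : e 0 = Pi.single 0 1 := by
    simp only [e, dif_pos (show 0 < m by omega)]
    rfl
  have key : ∀ i, 1 ≤ i → i ≤ m → aeval M (qSeq f d m (m - i)) *ᵥ e 0 = e i := by
    intro i hi1
    induction i, hi1 using Nat.le_induction with
    | base =>
      intro _
      rw [hq1, map_sub, aeval_X, aeval_C, Algebra.algebraMap_eq_smul_one, sub_mulVec, smul_mulVec,
        one_mulVec, he0, hMe 0, hν0, zero_smul, add_zero, ← he0, hbid 0 (by omega), add_sub_cancel_left]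
    | succ i hi ih =>
      intro hi'
      have hE := ih (by omega)
      rw [eq_sub_of_add_eq (qSeq_step (f := f) (m := m) hd hi (by omega)), map_sub, map_mul, map_mul,
        map_sub, aeval_X, aeval_C, aeval_C, Algebra.algebraMap_eq_smul_one, Algebra.algebraMap_eq_smul_one,
        sub_mulVec, ← mulVec_mulVec, hE, sub_mulVec, smul_mulVec, one_mulVec, Matrix.smul_mul,
        Matrix.one_mul, smul_mulVec, he0, hMe 0, hν0, zero_smul, add_zero]
      have hei : e i = Pi.single (⟨i, by omega⟩ : Fin m) 1 := by simp only [e, dif_pos (show i < m by omega)]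
      have hνi : nuSeq f d m i = ν ⟨i, by omega⟩ := rfl
      rw [hei, hMe, ← hei, ← he0, hbid i (by omega), hνi]
      abel
  have hfz : aeval M f *ᵥ e 0 = 0 := by
    have := key m (by omega) le_rfl
    rw [Nat.sub_self, qSeq] at this
    rw [this]
    simp [e]
  -- cyclicity
  have hspan : ⊤ ≤ Submodule.span F (Set.range fun i : Fin m => M ^ (i : ℕ) *ᵥ e 0) := by
    have hmem : ∀ i : Fin m, Pi.single i 1 ∈ Submodule.span F (Set.range fun i : Fin m => M ^ (i : ℕ) *ᵥ e 0) := by
      intro i
      rcases Nat.eq_zero_or_pos i.val with hi | hi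
      · refine Submodule.subset_span ⟨i, ?_⟩
        show M ^ i.val *ᵥ e 0 = _
        rw [hi, pow_zero, one_mulVec, he0, show i = 0 from Fin.ext hi]
      · have hk := key i.val hi i.isLt.le
        simp only [e, dif_pos i.isLt, Fin.eta] at hk
        have h2 := (qSeq_spec hf hdeg hd (m - i.val) (by omega)).2.1
        rw [← hk, aeval_eq_sum_range, sum_mulVec]
        refine Submodule.sum_mem _ fun l hl => ?_
        rw [smul_mulVec]
        refine Submodule.smul_mem _ _ (Submodule.subset_span ⟨⟨l, ?_⟩, ?_⟩)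
        · rw [Finset.mem_range] at hl
          omega
        · simp only [e, dif_pos (show 0 < m by omega)]
    intro v _
    rw [pi_eq_sum_univ' v]
    exact Submodule.sum_mem _ fun i _ => Submodule.smul_mem _ _ (hmem i)
  have hli : LinearIndependent F fun i : Fin m => M ^ (i : ℕ) *ᵥ e 0 :=
    linearIndependent_of_top_le_span_of_card_eq_finrank hspan (by rw [Fintype.card_fin, Module.finrank_fin_fun])
  refine ⟨⟨e 0, hli⟩, ?_⟩
  by_contra hne
  have hsub : (M.charpoly - f).degree < (m : WithBot ℕ) := by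
    have h1 : M.charpoly.natDegree = m := by rw [Matrix.charpoly_natDegree_eq_dim, Fintype.card_fin]
    refine lt_of_lt_of_le (degree_sub_lt_left ?_ (Matrix.charpoly_monic M).ne_zero ?_) ?_
    · rw [degree_eq_natDegree (Matrix.charpoly_monic M).ne_zero, degree_eq_natDegree hf.ne_zero, h1, hdeg]
    · rw [(Matrix.charpoly_monic M).leadingCoeff, hf.leadingCoeff]
    · rw [degree_eq_natDegree (Matrix.charpoly_monic M).ne_zero, h1]
  have hd' : (M.charpoly - f).natDegree < m := (natDegree_lt_iff_degree_lt (sub_ne_zero.2 hne)).2 hsub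
  have h0' : aeval M (M.charpoly - f) *ᵥ e 0 = 0 := by
    rw [map_sub, sub_mulVec, Matrix.aeval_self_charpoly, hfz, zero_mulVec, sub_zero]
  rw [aeval_eq_sum_range' hd', sum_mulVec, ← Fin.sum_univ_eq_sum_range (fun i => ((M.charpoly - f).coeff i • M ^ i) *ᵥ e 0) m] at h0'
  simp only [smul_mulVec] at h0'
  have hz := Fintype.linearIndependent_iff.mp hli _ h0'
  refine hne (sub_eq_zero.mp (Polynomial.ext fun i => ?_))
  rw [coeff_zero]
  rcases Nat.lt_or_ge i m with h | h
  · exact hz ⟨i, h⟩
  · exact coeff_eq_zero_of_natDegree_lt (by omega)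

end CfsgLib.CoverPSL
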