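import Cfsg.Agent.Sourour.Main

/-!
# One step of a triangular factorisation with prescribed diagonal

The general step: the first pivot `a` is prescribed, and the Schur complement keeps
`rank (A' - σ) ≥ 2` for the prescribed scalars `σ`.
-/

set_option autoImplicit false

namespace CfsgLib.CoverPSL

open Matrix Module Submodule CfsgLib.Sourour

variable {K V : Type*} [Field K] [AddCommGroup V] [Module K V]

/-- The Schur complement on `ker φ` with pivot `a`. -/
def schurA (A : Module.End K V) (v : V) (φ : Module.Dual K V) (a : K) (hA : φ (A v) = a) (ha : a ≠ 0) :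
    Module.End K (LinearMap.ker φ) :=
  LinearMap.codRestrict _ ((A - (a⁻¹ • (φ ∘ₗ A)).smulRight (A v)) ∘ₗ (LinearMap.ker φ).subtype)
    (fun w => by simp [hA, ha, mul_comm])

theorem coe_schurA {A : Module.End K V} {v : V} {φ : Module.Dual K V} {a : K} (hA : φ (A v) = a)
    (ha : a ≠ 0) (w : LinearMap.ker φ) :
    (schurA A v φ a hA ha w : V) = A w - (a⁻¹ * φ (A w)) • A v := rfl

theorem sub_smul_mem {A : Module.End K V} {v : V} {φ : Module.Dual K V} {a : K} (hv : φ v = 1)
    (hA : φ (A v) = a) : φ (A v - a • v) = 0 := by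
  simp [hv, hA]

theorem toMatrix_schurA [FiniteDimensional K V] {A : Module.End K V} {v : V} {φ : Module.Dual K V}
    {a : K} (hv : φ v = 1) (hA : φ (A v) = a) (ha : a ≠ 0) {m : ℕ}
    (b : Basis (Fin m) K (LinearMap.ker φ)) :
    LinearMap.toMatrix (consBasis v φ hv b) (consBasis v φ hv b) A =
      blk a (fun j => φ (A (b j))) (b.repr ⟨A v - a • v, sub_smul_mem hv hA⟩)
        (vecMulVec (b.repr ⟨A v - a • v, sub_smul_mem hv hA⟩) (fun j => a⁻¹ * φ (A (b j))) +
          LinearMap.toMatrix b b (schurA A v φ a hA ha)) := by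
  obtain ⟨c, hcc, hcv⟩ : ∃ c : LinearMap.ker φ, c = ⟨A v - a • v, sub_smul_mem hv hA⟩ ∧
      (c : V) = A v - a • v := ⟨_, rfl, rfl⟩
  rw [← hcc]
  ext i j
  rw [LinearMap.toMatrix_apply]
  refine Fin.cases ?_ (fun j => ?_) j
  · rw [consBasis_zero, consBasis_repr v φ hv b (A v) c (by simp [hA, hcv])]
    refine Fin.cases ?_ (fun i => ?_) i <;> simp [hA]
  · rw [consBasis_succ, consBasis_repr v φ hv b (A (b j))
      ((a⁻¹ * φ (A (b j))) • c + schurA A v φ a hA ha (b j))
      (by
        simp only [Submodule.coe_add, SetLike.val_smul, coe_schurA, hcv, smul_sub, smul_smul]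
        rw [show a⁻¹ * φ (A (b j)) * a = φ (A (b j)) by field_simp]
        abel)]
    refine Fin.cases ?_ (fun i => ?_) i
    · simp
    · simp [vecMulVec_apply, LinearMap.toMatrix_apply, mul_comm]

theorem det_schurA [FiniteDimensional K V] {A : Module.End K V} {v : V} {φ : Module.Dual K V}
    {a : K} (hv : φ v = 1) (hA : φ (A v) = a) (ha : a ≠ 0) :
    a * LinearMap.det (schurA A v φ a hA ha) = LinearMap.det A := by
  let b := Module.finBasis K (LinearMap.ker φ)
  rw [← LinearMap.det_toMatrix b, ← LinearMap.det_toMatrix (consBasis v φ hv b),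
    toMatrix_schurA hv hA ha b]
  set c := (b.repr ⟨A v - a • v, sub_smul_mem hv hA⟩ : Fin _ → K)
  set D := LinearMap.toMatrix b b (schurA A v φ a hA ha)
  set r := fun j => φ (A (b j))
  have h : blk a r c (vecMulVec c (fun j => a⁻¹ * r j) + D) = blk 1 0 (a⁻¹ • c) 1 * blk a r 0 D := by
    rw [blk_mul]
    congr 1
    · simp
    · simp
    · simp [smul_smul, ha]
    · simp only [Matrix.one_mul]
      congr 1
      ext i j
      simp [vecMulVec_apply]
      ring
  rw [h, det_mul, det_blk_lower, det_blk_upper]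
  simp

/-- The range and eigenspace of `A - σ`. -/
theorem finrank_comap_le [FiniteDimensional K V] (f : Module.End K V) (x : V) :
    finrank K ((K ∙ x).comap f) ≤ finrank K (LinearMap.ker f) + 1 := by
  have h := (f ∘ₗ ((K ∙ x).comap f).subtype).finrank_range_add_finrank_ker
  have h1 : finrank K (LinearMap.range (f ∘ₗ ((K ∙ x).comap f).subtype)) ≤ 1 := by
    refine (Submodule.finrank_mono (t := K ∙ x) ?_).trans ?_
    · rintro _ ⟨y, rfl⟩
      exact y.2
    · refine (finrank_span_le_card ({x} : Set V)).trans ?_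
      simp
  have h2 : finrank K (LinearMap.ker (f ∘ₗ ((K ∙ x).comap f).subtype)) ≤ finrank K (LinearMap.ker f) := by
    rw [← Submodule.finrank_map_subtype_eq ((K ∙ x).comap f)]
    refine Submodule.finrank_mono ?_
    rintro _ ⟨y, hy, rfl⟩
    exact hy
  omega

theorem comap_eq_ker {f : Module.End K V} {x : V} (hx : x ∉ LinearMap.range f) :
    (K ∙ x).comap f = LinearMap.ker f := by
  refine le_antisymm (fun y hy => ?_) fun y hy => by simp [LinearMap.mem_ker.mp hy]
  obtain ⟨t, ht⟩ := mem_span_singleton.mp hy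
  rcases eq_or_ne t 0 with rfl | ht0
  · rw [zero_smul] at ht
    exact ht.symm
  · exact absurd ⟨t⁻¹ • y, by rw [map_smul, ← ht, inv_smul_smul₀ ht0]⟩ hx

theorem mem_eigen {A : Module.End K V} {σ : K} {x : V} :
    x ∈ LinearMap.ker (A - σ • 1) ↔ A x = σ • x := by
  rw [LinearMap.mem_ker, LinearMap.sub_apply, LinearMap.smul_apply, Module.End.one_apply, sub_eq_zero]

theorem eigen_le_range {A : Module.End K V} {σ τ : K} (h : σ ≠ τ) :
    LinearMap.ker (A - σ • 1) ≤ LinearMap.range (A - τ • 1) := fun x hx => by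
  refine ⟨(σ - τ)⁻¹ • x, ?_⟩
  rw [map_smul, LinearMap.sub_apply, LinearMap.smul_apply, Module.End.one_apply, mem_eigen.mp hx,
    ← sub_smul, inv_smul_smul₀ (sub_ne_zero.2 h)]

theorem eigen_inf {A : Module.End K V} {σ τ : K} (h : σ ≠ τ) :
    LinearMap.ker (A - σ • 1) ⊓ LinearMap.ker (A - τ • 1) = ⊥ := by
  rw [eq_bot_iff]
  rintro x ⟨h1, h2⟩
  rw [mem_bot]
  have e : (σ - τ) • x = 0 := by rw [sub_smul, ← mem_eigen.mp h1, ← mem_eigen.mp h2, sub_self]
  exact (smul_eq_zero.mp e).resolve_left (sub_ne_zero.2 h)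

theorem eigen_inf_sup {A : Module.End K V} {σ τ ρ : K} (h1 : σ ≠ ρ) (h2 : τ ≠ ρ) :
    (LinearMap.ker (A - σ • 1) ⊔ LinearMap.ker (A - τ • 1)) ⊓ LinearMap.ker (A - ρ • 1) = ⊥ := by
  rw [eq_bot_iff]
  rintro x ⟨hx, hr⟩
  rw [mem_bot]
  obtain ⟨y, hy, z, hz, e⟩ := Submodule.mem_sup.mp hx
  have f : ∀ (ν : K) u, A u = ν • u → (A - σ • 1) ((A - τ • 1) u) = ((ν - σ) * (ν - τ)) • u := by
    intro ν u hu
    simp only [LinearMap.sub_apply, LinearMap.smul_apply, Module.End.one_apply, map_sub, map_smul, hu]
    module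
  have e1 := f σ y (mem_eigen.mp hy)
  have e2 := f τ z (mem_eigen.mp hz)
  have e3 := f ρ x (mem_eigen.mp hr)
  rw [← e, map_add, map_add, e1, e2, sub_self, zero_mul, zero_smul, sub_self, mul_zero, zero_smul,
    add_zero, e] at e3
  exact (smul_eq_zero.mp e3.symm).resolve_left
    (mul_ne_zero (sub_ne_zero.2 h1.symm) (sub_ne_zero.2 h2.symm))

variable [FiniteDimensional K V]

/-- The scalars for which the rank of `A - σ` is small. -/
noncomputable def risky (A : Module.End K V) (Sg : Finset K) : Finset K :=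
  Sg.filter fun σ => finrank K (LinearMap.range (A - σ • 1)) ≤ 3 ∧
    finrank K (LinearMap.range (A - σ • 1)) < finrank K V

theorem eigen_dim (A : Module.End K V) (σ : K) :
    finrank K (LinearMap.range (A - σ • 1)) + finrank K (LinearMap.ker (A - σ • 1)) = finrank K V :=
  (A - σ • 1).finrank_range_add_finrank_ker

theorem card_risky {A : Module.End K V} {Sg : Finset K} (hcard : Sg.card ≤ 2 ∨ 5 ≤ finrank K V) :
    (risky A Sg).card ≤ 2 := by
  classical
  rcases hcard with h | h
  · have := Finset.card_filter_le Sg fun σ => finrank K (LinearMap.range (A - σ • 1)) ≤ 3 ∧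
      finrank K (LinearMap.range (A - σ • 1)) < finrank K V
    unfold risky
    omega
  · by_contra hc
    obtain ⟨σ, hσ, τ, hτ, ρ, hρ, h1, h2, h3⟩ := Finset.two_lt_card.mp (not_le.mp hc)
    simp only [risky, Finset.mem_filter] at hσ hτ hρ
    have a := eigen_dim A σ
    have b := eigen_dim A τ
    have c := eigen_dim A ρ
    have s1 := Submodule.finrank_sup_add_finrank_inf_eq (LinearMap.ker (A - σ • 1)) (LinearMap.ker (A - τ • 1))
    rw [eigen_inf h1, finrank_bot] at s1
    have s2 := Submodule.finrank_sup_add_finrank_inf_eq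
      (LinearMap.ker (A - σ • 1) ⊔ LinearMap.ker (A - τ • 1)) (LinearMap.ker (A - ρ • 1))
    rw [eigen_inf_sup h2 h3, finrank_bot] at s2
    have := Submodule.finrank_le
      (LinearMap.ker (A - σ • 1) ⊔ LinearMap.ker (A - τ • 1) ⊔ LinearMap.ker (A - ρ • 1))
    omega

/-- In dimension three, a fixed vector of the Schur complement makes it unipotent up to `σ`. -/
theorem dim_three {A : Module.End K V} (h3 : finrank K V = 3) {v : V} {φ : Module.Dual K V}
    {a σ : K} (hσ : σ ≠ 0) (ha : a ≠ 0) (hdet : LinearMap.det A = a * σ ^ 2) (hv : φ v = 1)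
    (hA : φ (A v) = a) (hc : A v - a • v ≠ 0) {k : K}
    (hk : A (A v - a • v) - σ • (A v - a • v) = k • A v) {w : V} (hw : φ w = 0) :
    ∃ l : K, A w - (a⁻¹ * φ (A w)) • A v - σ • w = l • (A v - a • v) := by
  set c := A v - a • v
  set c' : LinearMap.ker φ := ⟨c, sub_smul_mem hv hA⟩
  set B := schurA A v φ a hA ha
  have hBc : B c' = σ • c' := Subtype.ext <| by
    rw [coe_schurA, SetLike.val_smul]
    show A c - (a⁻¹ * φ (A c)) • A v = σ • c
    have hAc : A c = k • A v + σ • c := by rw [← hk, sub_add_cancel]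
    have hφ0 : φ c = 0 := sub_smul_mem hv hA
    have e : a⁻¹ * (k * a + σ * 0) = k := by field_simp; ring
    rw [hAc, map_add, map_smul, map_smul, hA, hφ0, smul_eq_mul, smul_eq_mul, e]
    abel
  have hc0 : c' ≠ 0 := fun e => hc (congrArg Subtype.val e)
  obtain ⟨χ, hχc, -⟩ := exists_dual_of_notMem (U := (⊥ : Submodule K (LinearMap.ker φ))) (by simpa using hc0)
  obtain ⟨hχ1, -⟩ := normalise hχc
  set χ' := (χ c')⁻¹ • χ
  have hχB : χ' (B c') = σ := by rw [hBc, map_smul, hχ1, smul_eq_mul, mul_one]
  have hdim := finrank_ker_add_one v φ (by rw [hv]; exact one_ne_zero)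
  have hdimχ := finrank_ker_add_one c' χ' (by rw [hχ1]; exact one_ne_zero)
  have hB : LinearMap.det B = σ ^ 2 := mul_left_cancel₀ ha ((det_schurA hv hA ha).trans hdet)
  have hB2 : LinearMap.det (schurA B c' χ' σ hχB hσ) = σ :=
    mul_left_cancel₀ hσ ((det_schurA hχ1 hχB hσ).trans (hB.trans (sq σ)))
  have hone : σ⁻¹ • schurA B c' χ' σ hχB hσ = 1 := eq_one_of_det_eq_one (by omega)
    (by rw [LinearMap.det_smul, hB2, show finrank K (LinearMap.ker χ') = 1 by omega, pow_one,
      inv_mul_cancel₀ hσ])
  set w' : LinearMap.ker φ := ⟨w, hw⟩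
  set u : LinearMap.ker χ' := ⟨w' - χ' w' • c', by simp [hχ1]⟩ with hu
  have h := congrArg Subtype.val (LinearMap.congr_fun hone u)
  simp only [LinearMap.smul_apply, SetLike.val_smul, coe_schurA, Module.End.one_apply, hBc] at h
  rw [inv_smul_eq_iff₀ hσ] at h
  set m := σ⁻¹ * χ' (B (u : LinearMap.ker φ))
  have e1 : B w' - σ • w' = (m * σ) • c' := by
    have hu' : (u : LinearMap.ker φ) = w' - χ' w' • c' := rfl
    rw [hu', map_sub, map_smul, hBc] at h
    linear_combination (norm := module) h
  exact ⟨m * σ, congrArg Subtype.val e1⟩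

/-- The first basis vector. -/
theorem exists_vecA (T : Finset K) (hT : T.card = 4) (A : Module.End K V)
    (hinj : Function.Injective A) (hsc : ∀ μ : K, A ≠ μ • 1) (a : K) (Sg : Finset K)
    (hcard : Sg.card ≤ 2 ∨ 5 ≤ finrank K V) (h3_card : finrank K V = 3 → Sg.card ≤ 1) (ha : a ≠ 0)
    (hSg : ∀ σ ∈ Sg, 2 ≤ finrank K (LinearMap.range (A - σ • 1)))
    (hdet3 : finrank K V = 3 → ∀ σ ∈ Sg, σ ≠ 0 ∧ LinearMap.det A = a * σ ^ 2) (P : Prop)
    (hP : P → 2 ≤ finrank K (LinearMap.range (A - a • 1)))
    (r0 : Module.Dual K V) (hr0 : r0 ≠ 0) (c0 : V) (hc0 : c0 ≠ 0) :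
    ∃ v : V, A v ∉ K ∙ v ∧ (P → r0 v ≠ 0 ∧ A v - a • v ∉ K ∙ c0) ∧
      ∀ σ ∈ risky A Sg, A v ∉ LinearMap.range (A - σ • 1) ∧ v ∉ LinearMap.ker (A - σ • 1) ∧
        (finrank K V = 3 → A v - a • v ∉ LinearMap.ker (A - σ • 1)) := by
  classical
  set R : K → Submodule K V := fun σ => LinearMap.range (A - σ • 1)
  set E : K → Submodule K V := fun σ => LinearMap.ker (A - σ • 1)
  let U1 : Submodule K V := if P then LinearMap.ker r0 else ⊥
  let U4 : Submodule K V := if P then (K ∙ c0).comap (A - a • 1) else ⊥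
  have hbot : (⊥ : Submodule K V) ≠ ⊤ := by
    intro e
    have : c0 ∈ (⊥ : Submodule K V) := e ▸ mem_top
    exact hc0 ((mem_bot K).mp this)
  have hU1 : U1 ≠ ⊤ := by
    simp only [U1]
    split_ifs
    · exact fun e => hr0 (LinearMap.ker_eq_top.mp e)
    · exact hbot
  have hU4 : U4 ≠ ⊤ := by
    simp only [U4]
    split_ifs with hp
    · intro e
      obtain ⟨u, hu⟩ := exists_range_notMem_line (hP hp) c0
      have : u ∈ (K ∙ c0).comap (A - a • 1) := e ▸ mem_top
      exact hu this
    · exact hbot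
  have hE : ∀ σ, E σ ≠ ⊤ := fun σ e => hsc σ (LinearMap.ext fun x => by
    have : x ∈ E σ := e ▸ mem_top
    simpa using mem_eigen.mp this)
  have hR : ∀ σ, finrank K (R σ) < finrank K V → (R σ).comap A ≠ ⊤ := by
    intro σ h e
    have hle : R σ = ⊤ := eq_top_iff.2 fun x _ => by
      obtain ⟨y, rfl⟩ := LinearMap.injective_iff_surjective.mp hinj x
      have : y ∈ (R σ).comap A := e ▸ mem_top
      exact this
    rw [hle, finrank_top] at h
    exact lt_irrefl _ h
  have fin : ∀ v, v ∉ U1 → v ∉ U4 → (P → r0 v ≠ 0 ∧ A v - a • v ∉ K ∙ c0) := fun v h1 h4 hp => by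
    simp only [U1, U4, if_pos hp] at h1 h4
    exact ⟨h1, fun h => h4 (by simpa using h)⟩
  have noneig : ∀ σ v, A v ∉ R σ → v ∉ E σ → A v ∉ K ∙ v := by
    intro σ v hR' hE' hv
    obtain ⟨l, hl⟩ := mem_span_singleton.mp hv
    rcases eq_or_ne l σ with rfl | hne
    · exact hE' (mem_eigen.mpr hl.symm)
    · refine hR' ?_
      rw [← hl]
      exact smul_mem _ _ (eigen_le_range hne (mem_eigen.mpr hl.symm))
  have hlt : ∀ σ ∈ risky A Sg, finrank K (R σ) < finrank K V := fun σ hσ => by
    simp only [risky, Finset.mem_filter] at hσ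
    exact hσ.2.2
  rcases (risky A Sg).eq_empty_or_nonempty with he | ⟨σ, hσ⟩
  · by_cases htop : R a = ⊤
    · have hinja : Function.Injective (A - a • 1 : Module.End K V) :=
        LinearMap.injective_iff_surjective.mpr (LinearMap.range_eq_top.mp htop)
      obtain ⟨g, hg⟩ := LinearMap.range_eq_top.mp htop c0
      obtain ⟨v, hv1, hvp, hv⟩ := exists_nonEigen T hT A hsc r0 hr0 ((r0 g)⁻¹ • g)
      refine ⟨v, hv, fun _ => ⟨by simp [hv1], fun hm => hvp ?_⟩, by simp [he]⟩
      obtain ⟨t, ht⟩ := mem_span_singleton.mp hm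
      have hvg : v = t • g := hinja (by rw [map_smul, hg, ht]; simp)
      rw [hvg, map_smul, smul_eq_mul] at hv1
      rw [hvg, eq_inv_of_mul_eq_one_left hv1]
    · obtain ⟨v, hv⟩ := exists_avoid [U1, U4, R a, E a] T (by simp [hT]) (by
        simp only [List.mem_cons, List.not_mem_nil, or_false]
        rintro W (rfl | rfl | rfl | rfl)
        exacts [hU1, hU4, htop, hE a])
      simp only [List.mem_cons, List.not_mem_nil, or_false, forall_eq_or_imp, forall_eq] at hv
      obtain ⟨h1, h4, h2, h3⟩ := hv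
      refine ⟨v, fun hv => ?_, fin v h1 h4, by simp [he]⟩
      obtain ⟨l, hl⟩ := mem_span_singleton.mp hv
      rcases eq_or_ne l a with rfl | hne
      · exact h3 (mem_eigen.mpr hl.symm)
      · exact h2 (eigen_le_range hne (mem_eigen.mpr hl.symm))
  · obtain ⟨τ, hτ, hall⟩ : ∃ τ ∈ risky A Sg, ∀ ρ ∈ risky A Sg, ρ = σ ∨ ρ = τ := by
      by_cases h : ∃ τ ∈ risky A Sg, τ ≠ σ
      · obtain ⟨τ, hτ, hne⟩ := h
        refine ⟨τ, hτ, fun ρ hρ => ?_⟩
        by_contra hc
        push Not at hc
        have := card_risky (A := A) hcard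
        have : 2 < (risky A Sg).card := Finset.two_lt_card.mpr ⟨σ, hσ, τ, hτ, ρ, hρ, hne.symm, hc.1.symm, hc.2.symm⟩
        omega
      · push Not at h
        exact ⟨σ, hσ, fun ρ hρ => Or.inl (h ρ hρ)⟩
    let E1 : Submodule K V := if finrank K V = 3 then (E σ).comap (A - a • 1) else E σ
    have hE1 : E1 ≠ ⊤ := by
      simp only [E1]
      split_ifs with hN3
      swap
      · exact hE σ
      intro e
      have hmemσ : σ ∈ Sg := (Finset.mem_filter.mp hσ).1
      obtain ⟨hσ0, hdetA⟩ := hdet3 hN3 σ hmemσ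
      have hall' : ∀ x, A x - a • x ∈ E σ := fun x => by
        have : x ∈ (E σ).comap (A - a • 1) := e ▸ mem_top
        simpa using this
      obtain ⟨x, -, -, hx⟩ := exists_nonEigen T hT A hsc r0 hr0 0
      set c := A x - a • x
      have hcne : c ≠ 0 := fun h => hx (by rw [sub_eq_zero.mp h]; exact smul_mem _ _ (mem_span_singleton_self x))
      have hxc : x ∉ K ∙ c := fun h => by
        obtain ⟨t, ht⟩ := mem_span_singleton.mp h
        exact hx (by
          have hxE : x ∈ E σ := ht ▸ smul_mem _ t (hall' x)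
          rw [mem_eigen.mp hxE]
          exact smul_mem _ _ (mem_span_singleton_self x))
      obtain ⟨ψ, hψx, hψ⟩ := exists_dual_of_notMem hxc
      obtain ⟨hφx, hφ⟩ := normalise hψx
      set φ := (ψ x)⁻¹ • ψ
      have hφA : φ (A x) = a := by
        have := (hφ c).2 (hψ c (mem_span_singleton_self c))
        rw [map_sub, map_smul, hφx, sub_eq_zero] at this
        simpa using this
      have hR2 := hSg σ hmemσ
      have hd := eigen_dim A σ
      have hE1' : E σ = K ∙ c := by
        refine (Submodule.eq_of_le_of_finrank_le ((span_singleton_le_iff_mem ..).mpr (hall' x)) ?_).symm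
        rw [finrank_span_singleton hcne]
        show finrank K (LinearMap.ker (A - σ • 1)) ≤ 1
        omega
      have hW := finrank_ker_add_one x φ (by rw [hφx]; exact one_ne_zero)
      have hle : LinearMap.ker φ ≤ K ∙ c ∨ a = σ := by
        by_cases has : a = σ
        · exact Or.inr has
        refine Or.inl fun w hw => ?_
        obtain ⟨l, hl⟩ := dim_three hN3 hσ0 ha hdetA hφx hφA hcne (k := 0)
          (by rw [zero_smul, sub_eq_zero]; exact mem_eigen.mp (hall' x)) (LinearMap.mem_ker.mp hw)
        obtain ⟨j, hj⟩ := mem_span_singleton.mp (hE1' ▸ hall' w)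
        have hjc : A w = j • c + a • w := by rw [hj, sub_add_cancel]
        have hz : φ (A w) = 0 := by
          rw [hjc, map_add, map_smul, map_smul, (hφ c).2 (hψ c (mem_span_singleton_self c)),
            LinearMap.mem_ker.mp hw, smul_zero, smul_zero, add_zero]
        rw [hz, mul_zero, zero_smul, sub_zero, hjc] at hl
        have : (a - σ) • w = (l - j) • c := by linear_combination (norm := module) hl
        exact mem_span_singleton.mpr ⟨(a - σ)⁻¹ * (l - j), by
          rw [mul_smul, ← this, inv_smul_smul₀ (sub_ne_zero.2 has)]⟩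
      rcases hle with hle | rfl
      · have := Submodule.finrank_mono hle
        rw [finrank_span_singleton hcne] at this
        omega
      · have hle' : LinearMap.range (A - a • 1) ≤ E a := by
          rintro _ ⟨y, rfl⟩
          simpa using hall' y
        have := Submodule.finrank_mono hle'
        have : finrank K (E a) = finrank K (LinearMap.ker (A - a • 1)) := rfl
        have := eigen_dim A a
        omega
    have hE1le : E σ ≤ E1 := by
      simp only [E1]
      split_ifs
      · intro x hx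
        show (A - a • 1) x ∈ E σ
        rw [LinearMap.sub_apply, LinearMap.smul_apply, Module.End.one_apply, mem_eigen.mp hx, ← sub_smul]
        exact smul_mem _ _ hx
      · exact le_rfl
    let X : Submodule K V := if τ = σ then E1 else (R τ).comap A
    obtain ⟨v, hv⟩ := exists_avoid [U1, U4, (R σ).comap A, X] T (by simp [hT]) (by
      simp only [List.mem_cons, List.not_mem_nil, or_false]
      rintro W (rfl | rfl | rfl | rfl)
      · exact hU1
      · exact hU4
      · exact hR σ (hlt σ hσ)
      · simp only [X]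
        split_ifs
        exacts [hE1, hR τ (hlt τ hτ)])
    simp only [List.mem_cons, List.not_mem_nil, or_false, forall_eq_or_imp, forall_eq] at hv
    obtain ⟨h1, h4, h2, h3⟩ := hv
    have hE' : v ∉ E σ := by
      intro hm
      by_cases hts : τ = σ
      · simp only [X, if_pos hts] at h3
        exact h3 (hE1le hm)
      · simp only [X, if_neg hts] at h3
        refine h3 ?_
        show A v ∈ R τ
        rw [mem_eigen.mp hm]
        exact smul_mem _ _ (eigen_le_range (Ne.symm hts) hm)
    refine ⟨v, noneig σ v h2 hE', fin v h1 h4, fun ρ hρ => ?_⟩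
    have h3' : finrank K V = 3 → τ = σ ∧ A v - a • v ∉ E σ := fun hN3 => by
      have hts : τ = σ :=
        Finset.card_le_one.mp (h3_card hN3) _ (Finset.mem_filter.mp hτ).1 _ (Finset.mem_filter.mp hσ).1
      simp only [X, if_pos hts, E1, if_pos hN3] at h3
      exact ⟨hts, fun hm => h3 (by simpa using hm)⟩
    rcases hall ρ hρ with rfl | rfl
    · exact ⟨h2, hE', fun hN3 => (h3' hN3).2⟩
    · by_cases hts : ρ = σ
      · exact hts ▸ ⟨h2, hE', fun hN3 => (h3' hN3).2⟩
      · simp only [X, if_neg hts] at h3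
        refine ⟨h3, fun hm => h2 ?_, fun hN3 => absurd (h3' hN3).1 hts⟩
        show A v ∈ R σ
        rw [mem_eigen.mp hm]
        exact smul_mem _ _ (eigen_le_range hts hm)

/-- The functionals for which the Schur complement is scalar. -/
def BadF (A : Module.End K V) (v : V) (ψ : Module.Dual K V) : Prop :=
  ψ v ≠ 0 ∧ ∃ μ : K, ∀ w, ψ w = 0 → A w - μ • w ∈ K ∙ A v

omit [FiniteDimensional K V] in
theorem badF_mem_span {A : Module.End K V} {v : V} {ψ : Module.Dual K V} (hψ : ψ v ≠ 0) {μ : K}
    (hμ : ∀ w, ψ w = 0 → A w - μ • w ∈ K ∙ A v) (u : V) :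
    A u - μ • u ∈ span K ({v, A v} : Set V) := by
  set t := ψ u / ψ v
  obtain ⟨a, ha⟩ := mem_span_singleton.mp (hμ (u - t • v) (by simp [t, div_mul_cancel₀ _ hψ]))
  refine mem_span_pair.mpr ⟨-(μ * t), a + t, ?_⟩
  rw [add_smul, ha, map_sub, map_smul]
  module

theorem badF_unique {A : Module.End K V} (hinj : Function.Injective A) {v : V} (hv : A v ∉ K ∙ v)
    (h3 : 3 ≤ finrank K V) {ψ ψ' : Module.Dual K V} (h : BadF A v ψ) (h' : BadF A v ψ') :
    ∃ t : K, ψ' = t • ψ := by
  obtain ⟨hψ, μ, hμ⟩ := h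
  obtain ⟨hψ', μ', hμ'⟩ := h'
  obtain ⟨u, hu⟩ := exists_notMem_of_finrank_lt (U := span K ({v, A v} : Set V))
    (lt_of_le_of_lt (finrank_span_pair_le _ _) (by omega))
  have hμμ : μ' = μ := by
    by_contra hne
    refine hu ?_
    have h := sub_mem (badF_mem_span hψ hμ u) (badF_mem_span hψ' hμ' u)
    have h2 : (μ' - μ) • u ∈ span K ({v, A v} : Set V) := by
      convert h using 1
      module
    simpa [inv_smul_smul₀ (sub_ne_zero.2 hne)] using smul_mem _ (μ' - μ)⁻¹ h2
  subst hμμ
  have hμ0 : μ' ≠ 0 := by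
    rintro rfl
    have hle : (LinearMap.ker ψ).map A ≤ K ∙ A v := by
      rintro _ ⟨w, hw, rfl⟩
      simpa using hμ w hw
    have h1 := Submodule.finrank_mono hle
    rw [← (Submodule.equivMapOfInjective _ hinj _).finrank_eq] at h1
    have h2 := (finrank_span_le_card ({A v} : Set V) (R := K))
    simp only [Set.toFinset_singleton, Finset.card_singleton] at h2
    have := finrank_ker_add_one v ψ hψ
    omega
  have hvS : A v - μ' • v ∉ K ∙ A v := by
    intro hm
    obtain ⟨a, ha⟩ := mem_span_singleton.mp hm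
    have h1 : μ' • v = (1 - a) • A v := by rw [sub_smul, one_smul, ha, sub_sub_cancel]
    rcases eq_or_ne a 1 with rfl | ha1
    · rw [sub_self, zero_smul, smul_eq_zero] at h1
      exact hψ (by rw [h1.resolve_left hμ0, map_zero])
    · refine hv (mem_span_singleton.mpr ⟨(1 - a)⁻¹ * μ', ?_⟩)
      rw [mul_smul, h1, inv_smul_smul₀ (sub_ne_zero.2 ha1.symm)]
  refine ⟨ψ' v / ψ v, LinearMap.ext fun x => ?_⟩
  set w := x - (ψ x / ψ v) • v
  have hw : ψ w = 0 := by simp [w, div_mul_cancel₀ _ hψ]
  have hw' : ψ' w = 0 := by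
    by_contra hne
    refine hvS ?_
    set w' := w - (ψ' w / ψ' v) • v
    have hw2 : ψ' w' = 0 := by simp [w', div_mul_cancel₀ _ hψ']
    have h := sub_mem (hμ w hw) (hμ' w' hw2)
    have h2 : (ψ' w / ψ' v) • (A v - μ' • v) ∈ K ∙ A v := by
      convert h using 1
      simp only [w', map_sub, map_smul]
      module
    have h3 := smul_mem _ (ψ' w / ψ' v)⁻¹ h2
    rwa [inv_smul_smul₀ (div_ne_zero hne hψ')] at h3
  simp only [w, map_sub, map_smul, smul_eq_mul, sub_eq_zero] at hw'
  rw [LinearMap.smul_apply, smul_eq_mul, hw']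
  ring

/-- The step. -/
theorem exists_stepA (T : Finset K) (hT : T.card = 4) (A : Module.End K V)
    (hinj : Function.Injective A) (hsc : ∀ μ : K, A ≠ μ • 1) (a : K) (ha : a ≠ 0) (Sg : Finset K)
    (hSg : ∀ σ ∈ Sg, 2 ≤ finrank K (LinearMap.range (A - σ • 1)))
    (hN : ∀ σ ∈ Sg, 3 ≤ finrank K V)
    (hdet3 : finrank K V = 3 → ∀ σ ∈ Sg, σ ≠ 0 ∧ LinearMap.det A = a * σ ^ 2) (P Q : Prop)
    (hcard : Sg.card ≤ 1 ∨ 5 ≤ finrank K V ∨ (finrank K V = 4 ∧ Sg.card ≤ 2 ∧ ¬ P))
    (hQ3 : finrank K V = 3 → Sg.Nonempty → ¬ Q)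
    (hP : P → 2 ≤ finrank K (LinearMap.range (A - a • 1)))
    (hQ : Q → 2 ≤ finrank K (LinearMap.range (A - a • 1)))
    (r0 : Module.Dual K V) (hr0 : r0 ≠ 0) (c0 : V) (hc0 : c0 ≠ 0) :
    ∃ (v : V) (φ : Module.Dual K V) (_ : φ v = 1) (hA : φ (A v) = a),
      A v - a • v ≠ 0 ∧ (P → r0 v ≠ 0 ∧ φ c0 ≠ 0) ∧ (Q → ∃ w, φ w = 0 ∧ φ (A w) ≠ 0) ∧
      (∀ σ ∈ Sg, 2 ≤ finrank K (LinearMap.range (schurA A v φ a hA ha - σ • 1))) ∧
      (3 ≤ finrank K V → ∀ μ : K, schurA A v φ a hA ha ≠ μ • 1) := by
  classical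
  have hcard2 : Sg.card ≤ 2 ∨ 5 ≤ finrank K V := by omega
  have h3c : finrank K V = 3 → Sg.card ≤ 1 := fun h => by omega
  obtain ⟨v, hAv, hPv, hrisk⟩ :=
    exists_vecA T hT A hinj hsc a Sg hcard2 h3c ha hSg hdet3 P hP r0 hr0 c0 hc0
  set c := A v - a • v with hcdef
  have hcne : c ≠ 0 := fun e => hAv (by rw [sub_eq_zero.mp e]; exact smul_mem _ _ (mem_span_singleton_self v))
  have hvc : v ∉ K ∙ c := by
    intro h
    obtain ⟨t, ht⟩ := mem_span_singleton.mp h
    rcases eq_or_ne t 0 with rfl | ht0
    · rw [zero_smul] at ht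
      exact hAv (by simp [← ht])
    · refine hAv (mem_span_singleton.mpr ⟨t⁻¹ + a, ?_⟩)
      have : c = t⁻¹ • v := by
        conv_rhs => rw [← ht]
        rw [inv_smul_smul₀ ht0]
      rw [add_smul, ← this, hcdef, sub_add_cancel]
  set S : K → Submodule K V := fun σ => (K ∙ A v).comap (A - σ • 1)
  -- every delicate scalar has a vector of `S σ` off the line through `c`
  let Del : K → Prop := fun σ =>
    σ ∈ Sg ∧ (finrank K V = 3 ∨ finrank K (LinearMap.range (A - σ • 1)) = 2)
  have hex : ∀ σ, Del σ → ∃ e ∈ S σ, e ∉ K ∙ c := by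
    rintro σ ⟨hσ, hor⟩
    have hd := eigen_dim A σ
    have hn := hN σ hσ
    by_contra hcon
    push Not at hcon
    have hle : S σ ≤ K ∙ c := hcon
    by_cases hr : σ ∈ risky A Sg
    · have hSeq : S σ = LinearMap.ker (A - σ • 1) := comap_eq_ker (hrisk σ hr).1
      have h5 := Submodule.finrank_mono hle
      have h5' := congrArg (fun W : Submodule K V => finrank K W) hSeq
      rw [finrank_span_singleton hcne] at h5
      simp only [risky, Finset.mem_filter] at hr
      rcases Nat.lt_or_ge (finrank K V) 4 with h4 | h4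
      · -- dimension three
        have h3 : finrank K V = 3 := by omega
        have heq := Submodule.eq_of_le_of_finrank_le hle (by
          rw [finrank_span_singleton hcne]
          have := hSg σ hσ
          omega)
        refine (hrisk σ (by simp only [risky, Finset.mem_filter]; exact hr)).2.2 h3 ?_
        rw [← hSeq, heq]
        exact mem_span_singleton_self c
      · have := hor.resolve_left (by omega)
        omega
    · simp only [risky, Finset.mem_filter, not_and, not_lt] at hr
      have h3 : finrank K V = 3 := hor.resolve_right fun h2 => by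
        have := hr hσ (by omega)
        omega
      obtain ⟨hσ0, hdetA⟩ := hdet3 h3 σ hσ
      have hR3 : finrank K (LinearMap.range (A - σ • 1)) = 3 := by
        have h1 : finrank K (LinearMap.range (A - σ • 1)) ≤ 3 := by omega
        have := hr hσ h1
        omega
      have htop : LinearMap.range (A - σ • 1) = ⊤ := Submodule.eq_top_of_finrank_eq (by omega)
      obtain ⟨x, hx⟩ := LinearMap.range_eq_top.mp htop (A v)
      obtain ⟨j, hj⟩ := mem_span_singleton.mp (hle (show x ∈ S σ by
        show (A - σ • 1) x ∈ K ∙ A v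
        rw [hx]
        exact mem_span_singleton_self _))
      have hAv0 : A v ≠ 0 := fun e => hAv (by rw [e]; exact zero_mem _)
      have hj0 : j ≠ 0 := fun e => hAv0 (by rw [← hx, ← hj, e, zero_smul, map_zero])
      have hk : A c - σ • c = j⁻¹ • A v := by
        rw [← hx, ← hj, map_smul, inv_smul_smul₀ hj0]
        simp
      obtain ⟨ψ, hψv, hψ⟩ := exists_dual_of_notMem hvc
      obtain ⟨hφv, hφ⟩ := normalise hψv
      set φ := (ψ v)⁻¹ • ψ
      have hφA : φ (A v) = a := by
        have := (hφ c).2 (hψ c (mem_span_singleton_self c))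
        rw [hcdef, map_sub, map_smul, hφv, sub_eq_zero] at this
        simpa using this
      have hle2 : LinearMap.range (A - σ • 1) ≤ span K ({v, A v} : Set V) := by
        rintro _ ⟨y, rfl⟩
        set w := y - φ y • v
        obtain ⟨l, hl⟩ := dim_three h3 hσ0 ha hdetA hφv hφA hcne hk (w := w) (by simp [w, hφv])
        have hy : (A - σ • 1) y = (l • c + (a⁻¹ * φ (A w)) • A v) + φ y • (A v - σ • v) := by
          simp only [LinearMap.sub_apply, LinearMap.smul_apply, Module.End.one_apply]
          rw [← hl]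
          simp only [w, map_sub, map_smul]
          module
        rw [hy, hcdef]
        exact add_mem (add_mem (smul_mem _ _ (sub_mem (subset_span (by simp)) (smul_mem _ _ (subset_span (by simp)))))
          (smul_mem _ _ (subset_span (by simp))))
          (smul_mem _ _ (sub_mem (subset_span (by simp)) (smul_mem _ _ (subset_span (by simp)))))
      have := Submodule.finrank_mono hle2
      have := finrank_span_pair_le (K := K) v (A v)
      omega
  choose! es hesS hesc using hex
  -- the admissible functionals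
  let C : Submodule K (Module.Dual K V) := LinearMap.ker (Module.Dual.eval K V c)
  let An : V → Submodule K C := fun x => (LinearMap.ker (Module.Dual.eval K V x)).comap C.subtype
  have hAn : ∀ x, x ∉ K ∙ c → An x ≠ ⊤ := by
    intro x hx e
    obtain ⟨ψ, h1, h2⟩ := exists_dual_of_notMem hx
    have : (⟨ψ, h2 c (mem_span_singleton_self c)⟩ : C) ∈ An x := e ▸ mem_top
    exact h1 this
  set E2 := Sg.filter fun σ => 4 ≤ finrank K V ∧ finrank K (LinearMap.range (A - σ • 1)) = 2 with hE2
  have hE2card : E2.card ≤ 2 := by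
    by_contra hc
    obtain ⟨σ, hσ, τ, hτ, ρ, hρ, h1, h2, h3⟩ := Finset.two_lt_card.mp (not_le.mp hc)
    have hsub : ∀ x ∈ E2, x ∈ risky A Sg := fun x hx => by
      simp only [E2, risky, Finset.mem_filter] at hx ⊢
      exact ⟨hx.1, by omega, by omega⟩
    have := Finset.card_le_card (s := E2) (t := risky A Sg) hsub
    have := card_risky (A := A) hcard2
    omega
  let pick1 : K := if h : E2.Nonempty then h.choose else 0
  let pick2 : K := if h : ∃ σ ∈ E2, σ ≠ pick1 then h.choose else pick1
  have hpick : ∀ σ ∈ E2, σ = pick1 ∨ σ = pick2 := by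
    intro σ hσ
    by_contra hcon
    push Not at hcon
    have h : ∃ ρ ∈ E2, ρ ≠ pick1 := ⟨σ, hσ, hcon.1⟩
    have hp2 : pick2 = h.choose := dif_pos h
    have hne : E2.Nonempty := ⟨σ, hσ⟩
    have hp1 : pick1 = hne.choose := dif_pos hne
    have : 2 < E2.card := Finset.two_lt_card.mpr ⟨σ, hσ, pick1, hp1 ▸ hne.choose_spec, pick2,
      hp2 ▸ h.choose_spec.1, hcon.1, hcon.2, fun e => h.choose_spec.2 (hp2 ▸ e.symm)⟩
    omega
  have hDelE2 : ∀ σ ∈ E2, Del σ := fun σ hσ => by
    simp only [E2, Finset.mem_filter] at hσ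
    exact ⟨hσ.1, Or.inr hσ.2.2⟩
  let U2 : Submodule K C := if P then An c0 else if pick2 ∈ E2 then An (es pick2) else An v
  let U3 : Submodule K C :=
    if h : finrank K V = 3 ∧ Sg.Nonempty then An (es h.2.choose)
    else if Q then (LinearMap.ker (A - a • 1 : Module.End K V).dualMap).comap C.subtype else An v
  let X : Submodule K C :=
    if pick1 ∈ E2 then An (es pick1)
    else if h : ∃ ψ : C, BadF A v ψ ∧ 3 ≤ finrank K V then K ∙ h.choose else An v
  have hU2 : U2 ≠ ⊤ := by
    simp only [U2]
    split_ifs with hp h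
    · refine hAn c0 fun hm => (hPv hp).2 ?_
      obtain ⟨t, ht⟩ := mem_span_singleton.mp hm
      have ht0 : t ≠ 0 := fun e0 => hc0 (by rw [← ht, e0, zero_smul])
      exact mem_span_singleton.mpr ⟨t⁻¹, by rw [← ht, inv_smul_smul₀ ht0]⟩
    · exact hAn _ (hesc _ (hDelE2 _ h))
    · exact hAn v hvc
  have hU3 : U3 ≠ ⊤ := by
    simp only [U3]
    split_ifs with h hq
    · exact hAn _ (hesc _ ⟨h.2.choose_spec, Or.inl h.1⟩)
    · intro e
      obtain ⟨u, hu⟩ := exists_range_notMem_line (hQ hq) c
      obtain ⟨ψ, h1, h2⟩ := exists_dual_of_notMem hu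
      have : (⟨ψ, h2 c (mem_span_singleton_self c)⟩ : C) ∈
          (LinearMap.ker (A - a • 1 : Module.End K V).dualMap).comap C.subtype := e ▸ mem_top
      exact h1 (LinearMap.congr_fun (LinearMap.mem_ker.mp this) u)
    · exact hAn v hvc
  have hX : X ≠ ⊤ := by
    simp only [X]
    split_ifs with h h'
    · exact hAn _ (hesc _ (hDelE2 _ h))
    · intro e
      obtain ⟨x, hx⟩ := exists_notMem_of_finrank_lt (U := span K ({v, c} : Set V))
        (lt_of_le_of_lt (finrank_span_pair_le _ _) (by have := h'.choose_spec.2; omega))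
      obtain ⟨ψ, h1, h2⟩ := exists_dual_of_notMem hx
      have hmem : (⟨ψ, h2 c (subset_span (by simp))⟩ : C) ∈ K ∙ h'.choose := e ▸ mem_top
      obtain ⟨t, ht⟩ := mem_span_singleton.mp hmem
      have ht' : t • (h'.choose : Module.Dual K V) = ψ := congrArg Subtype.val ht
      have : t * (h'.choose : Module.Dual K V) v = 0 := by
        rw [← smul_eq_mul, ← LinearMap.smul_apply, ht']
        exact h2 v (subset_span (by simp))
      rcases mul_eq_zero.mp this with rfl | hh
      · rw [zero_smul] at ht'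
        exact h1 (by rw [← ht']; rfl)
      · exact h'.choose_spec.1.1 hh
    · exact hAn v hvc
  obtain ⟨ψ, hψ⟩ := exists_avoid (K := K) (V := C) [An v, U2, U3, X] T (by simp [hT]) (by
    simp only [List.mem_cons, List.not_mem_nil, or_false]
    rintro W (rfl | rfl | rfl | rfl)
    exacts [hAn v hvc, hU2, hU3, hX])
  simp only [List.mem_cons, List.not_mem_nil, or_false, forall_eq_or_imp, forall_eq] at hψ
  obtain ⟨h1, h2, h3, h4⟩ := hψ
  have hψv : (ψ : Module.Dual K V) v ≠ 0 := h1
  obtain ⟨hφv, hφ⟩ := normalise hψv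
  set φ := ((ψ : Module.Dual K V) v)⁻¹ • (ψ : Module.Dual K V)
  have hψc : (ψ : Module.Dual K V) c = 0 := ψ.2
  have hφA : φ (A v) = a := by
    have := (hφ c).2 hψc
    rw [hcdef, map_sub, map_smul, hφv, sub_eq_zero] at this
    simpa using this
  have hWdim := finrank_ker_add_one v φ (by rw [hφv]; exact one_ne_zero)
  refine ⟨v, φ, hφv, hφA, hcne, fun hp => ⟨(hPv hp).1, ?_⟩, fun hq => ?_, fun σ hσ => ?_, fun hn μ hμ => ?_⟩
  · simp only [U2, if_pos hp] at h2
    exact fun e => h2 ((hφ _).1 e)
  · have hno : ¬ (finrank K V = 3 ∧ Sg.Nonempty) := fun h => hQ3 h.1 h.2 hq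
    simp only [U3, dif_neg hno, if_pos hq] at h3
    obtain ⟨u, hu⟩ : ∃ u, (ψ : Module.Dual K V) ((A - a • 1 : Module.End K V) u) ≠ 0 := by
      by_contra hcon
      push Not at hcon
      exact h3 (LinearMap.ext hcon)
    refine ⟨u - φ u • v, by simp [hφv], fun e => hu ((hφ _).1 ?_)⟩
    rw [← e]
    simp [hφA, mul_comm]
  · -- the rank of the Schur complement
    set B := schurA A v φ a hφA ha
    have hle : (LinearMap.ker (B - σ • 1)).map (LinearMap.ker φ).subtype ≤ S σ := by
      rintro _ ⟨w, hw, rfl⟩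
      refine mem_span_singleton.mpr ⟨a⁻¹ * φ (A w), ?_⟩
      have h := congrArg Subtype.val (LinearMap.mem_ker.mp hw)
      simp only [B, LinearMap.sub_apply, LinearMap.smul_apply, Submodule.coe_sub, coe_schurA,
        Module.End.one_apply, SetLike.val_smul, ZeroMemClass.coe_zero] at h
      show _ = (A - σ • 1) (w : V)
      simp only [LinearMap.sub_apply, LinearMap.smul_apply, Module.End.one_apply]
      linear_combination (norm := module) (-1 : K) • h
    have hleW : (LinearMap.ker (B - σ • 1)).map (LinearMap.ker φ).subtype ≤ LinearMap.ker φ :=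
      Submodule.map_subtype_le _ _
    have hfin := Submodule.finrank_map_subtype_eq (LinearMap.ker φ) (LinearMap.ker (B - σ • 1))
    have hrn := (B - σ • 1).finrank_range_add_finrank_ker
    have hd := eigen_dim A σ
    have hS : finrank K (S σ) ≤ finrank K (LinearMap.ker (A - σ • 1)) + 1 :=
      finrank_comap_le (A - σ • 1) (A v)
    have hR2 := hSg σ hσ
    have hn := hN σ hσ
    have hSeq : σ ∈ risky A Sg → finrank K (S σ) = finrank K (LinearMap.ker (A - σ • 1)) := fun hr =>
      congrArg (fun W : Submodule K V => finrank K W) (comap_eq_ker (hrisk σ hr).1)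
    have hrk : σ ∉ risky A Sg → 4 ≤ finrank K (LinearMap.range (A - σ • 1)) ∨
        finrank K V ≤ finrank K (LinearMap.range (A - σ • 1)) := fun hr => by
      simp only [risky, Finset.mem_filter, not_and, not_lt] at hr
      by_contra hcon
      push Not at hcon
      have := hr hσ (by omega)
      omega
    by_cases hdel : Del σ
    · have hne : φ (es σ) ≠ 0 := by
        intro e0
        rcases hdel.2 with hV | hr2
        · have h : finrank K V = 3 ∧ Sg.Nonempty := ⟨hV, ⟨σ, hσ⟩⟩
          have hσ' : h.2.choose = σ := Finset.card_le_one.mp (h3c hV) _ h.2.choose_spec _ hσ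
          simp only [U3, dif_pos h, hσ'] at h3
          exact h3 ((hφ _).1 e0)
        · by_cases hV : finrank K V = 3
          · have h : finrank K V = 3 ∧ Sg.Nonempty := ⟨hV, ⟨σ, hσ⟩⟩
            have hσ' : h.2.choose = σ := Finset.card_le_one.mp (h3c hV) _ h.2.choose_spec _ hσ
            simp only [U3, dif_pos h, hσ'] at h3
            exact h3 ((hφ _).1 e0)
          have hmem : σ ∈ E2 := by
            simp only [E2, Finset.mem_filter]
            exact ⟨hσ, by omega, hr2⟩
          by_cases h1p : σ = pick1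
          · subst h1p
            simp only [X, if_pos hmem] at h4
            exact h4 ((hφ _).1 e0)
          · have h2p : σ = pick2 := (hpick σ hmem).resolve_left h1p
            have hp2 : pick2 ∈ E2 := h2p ▸ hmem
            -- two eigenspaces of codimension two: dimension four
            have hne' : E2.Nonempty := ⟨σ, hmem⟩
            have hp1 : pick1 ∈ E2 := by
              simp only [pick1, dif_pos hne']
              exact hne'.choose_spec
            have hnP : ¬ P := by
              simp only [E2, Finset.mem_filter] at hp1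
              have s1 := Submodule.finrank_sup_add_finrank_inf_eq (LinearMap.ker (A - σ • 1))
                (LinearMap.ker (A - pick1 • 1))
              rw [eigen_inf h1p, finrank_bot] at s1
              have := Submodule.finrank_le (LinearMap.ker (A - σ • 1) ⊔ LinearMap.ker (A - pick1 • 1))
              have := eigen_dim A pick1
              rcases hcard with h | h | h
              · exact absurd (Finset.card_le_one.mp h _ hσ _ hp1.1) h1p
              · omega
              · exact h.2.2
            simp only [U2, if_neg hnP, if_pos hp2] at h2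
            rw [h2p] at e0
            exact h2 ((hφ _).1 e0)
      have hlt : (LinearMap.ker (B - σ • 1)).map (LinearMap.ker φ).subtype < S σ :=
        lt_of_le_of_ne hle fun e0 => hne (hleW (e0 ▸ hesS σ hdel))
      have := Submodule.finrank_lt_finrank_of_lt hlt
      by_cases hr : σ ∈ risky A Sg
      · have := hSeq hr
        rcases hdel.2 with hV | hr2 <;> omega
      · have := hrk hr
        rcases hdel.2 with hV | hr2 <;> omega
    · have hnd : finrank K V ≠ 3 ∧ finrank K (LinearMap.range (A - σ • 1)) ≠ 2 :=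
        ⟨fun e => hdel ⟨hσ, Or.inl e⟩, fun e => hdel ⟨hσ, Or.inr e⟩⟩
      have := Submodule.finrank_mono hle
      by_cases hr : σ ∈ risky A Sg
      · have := hSeq hr
        omega
      · have := hrk hr
        omega
  · -- the Schur complement is not scalar
    have hbad : BadF A v (ψ : Module.Dual K V) := by
      refine ⟨hψv, μ, fun w hw => ?_⟩
      have h := congrArg Subtype.val (LinearMap.congr_fun hμ ⟨w, (hφ w).2 hw⟩)
      simp only [coe_schurA, LinearMap.smul_apply, Module.End.one_apply, SetLike.val_smul] at h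
      refine mem_span_singleton.mpr ⟨a⁻¹ * φ (A w), ?_⟩
      rw [← h]
      abel
    by_cases hp1 : pick1 ∈ E2
    · simp only [E2, Finset.mem_filter] at hp1
      obtain ⟨hσ, hn4, hr2⟩ := hp1
      have hrisk' : pick1 ∈ risky A Sg := by
        simp only [risky, Finset.mem_filter]
        exact ⟨hσ, by omega, by omega⟩
      obtain ⟨hψ0, μ', hμ'⟩ := hbad
      have hle : LinearMap.ker (A - pick1 • 1) ≤ span K ({v, A v} : Set V) ∨ pick1 = μ' := by
        by_cases hσμ : pick1 = μ'
        · exact Or.inr hσμ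
        · refine Or.inl fun e he => ?_
          have h := badF_mem_span hψ0 hμ' e
          rw [mem_eigen.mp he, ← sub_smul] at h
          simpa [inv_smul_smul₀ (sub_ne_zero.2 hσμ)] using smul_mem _ (pick1 - μ')⁻¹ h
      rcases hle with hle | hle
      · have h2' := finrank_span_pair_le (K := K) v (A v)
        have h5 := Submodule.eq_of_le_of_finrank_le hle (by have := eigen_dim A pick1; omega)
        exact (hrisk pick1 hrisk').2.1 (h5 ▸ subset_span (by simp))
      · -- the scalar with rank two
        rw [← hle] at hμ'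
        have hle : LinearMap.ker (ψ : Module.Dual K V) ≤ LinearMap.ker (A - pick1 • 1) := by
          rw [← comap_eq_ker (hrisk pick1 hrisk').1]
          intro w hw
          show (A - pick1 • 1) w ∈ K ∙ A v
          simpa using hμ' w hw
        have := Submodule.finrank_mono hle
        have := finrank_ker_add_one v (ψ : Module.Dual K V) hψv
        have := eigen_dim A pick1
        omega
    · simp only [X, if_neg hp1] at h4
      have h' : ∃ ψ : C, BadF A v ψ ∧ 3 ≤ finrank K V := ⟨ψ, hbad, hn⟩
      simp only [dif_pos h'] at h4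
      obtain ⟨t, ht⟩ := badF_unique hinj hAv hn h'.choose_spec.1 hbad
      exact h4 (mem_span_singleton.mpr ⟨t, Subtype.ext ht.symm⟩)

end CfsgLib.CoverPSL
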