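import Cfsg.Agent.CoverPSL.Block
import Cfsg.Agent.Sourour.Basic
import Mathlib.LinearAlgebra.Matrix.ToLinearEquiv

/-!
# Linking blocks

If `x` and `z` each have a conjugate partner with a cyclic triangular product, so has `z ⊕ x`, unless
a common eigenvector on one side meets one on the other.
-/

set_option autoImplicit false

namespace CfsgLib.CoverPSL

open Matrix Polynomial CfsgLib.OreSL CfsgLib.Sourour

variable {F : Type*} [Field F] {a b m : ℕ}

/-- `L` contains the eigenvalue pairs of the common left eigenvectors of `x` and `x * y`. -/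
def LeftIn (x y : Matrix (Fin m) (Fin m) F) (L : Set (F × F)) : Prop :=
  ∀ ψ : Fin m → F, ∀ α β : F, ψ ≠ 0 → ψ ᵥ* x = α • ψ → ψ ᵥ* (x * y) = β • ψ → (α, β) ∈ L

/-- `x` has, in every coset of `N`, a partner with a cyclic product of spectrum `t`. -/
def Sq (N : Subgroup Fˣ) (L : Set (F × F)) (x : Matrix (Fin m) (Fin m) F) (t : Fin m → F) : Prop :=
  ∀ r : Fˣ, ∃ P : GL (Fin m) F, r * GeneralLinearGroup.det P ∈ N ∧
    Mate x ((P : Matrix (Fin m) (Fin m) F) * x * ((P⁻¹ : GL (Fin m) F) : Matrix (Fin m) (Fin m) F)) t ∧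
    LeftIn x ((P : Matrix (Fin m) (Fin m) F) * x * ((P⁻¹ : GL (Fin m) F) : Matrix (Fin m) (Fin m) F)) L

/-- The block diagonal sum. -/
def dsum (z : Matrix (Fin a) (Fin a) F) (x : Matrix (Fin b) (Fin b) F) :
    Matrix (Fin (a + b)) (Fin (a + b)) F :=
  Matrix.reindex finSumFinEquiv finSumFinEquiv (Matrix.fromBlocks z 0 0 x)

theorem det_dsum (z : Matrix (Fin a) (Fin a) F) (x : Matrix (Fin b) (Fin b) F) :
    (dsum z x).det = z.det * x.det := by
  rw [dsum, det_reindex_self, det_fromBlocks_zero₂₁]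

theorem reindex_mul' (A B : Matrix (Fin a ⊕ Fin b) (Fin a ⊕ Fin b) F) :
    Matrix.reindex finSumFinEquiv finSumFinEquiv (A * B) =
      Matrix.reindex finSumFinEquiv finSumFinEquiv A * Matrix.reindex finSumFinEquiv finSumFinEquiv B := by
  simp only [reindex_apply, submatrix_mul_equiv]

theorem reindex_mulVec' (A : Matrix (Fin a ⊕ Fin b) (Fin a ⊕ Fin b) F) (v : Fin (a + b) → F) :
    Matrix.reindex finSumFinEquiv finSumFinEquiv A *ᵥ v =
      (A *ᵥ (v ∘ finSumFinEquiv)) ∘ finSumFinEquiv.symm := by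
  rw [reindex_apply, submatrix_mulVec_equiv]
  rfl

theorem reindex_vecMul' (A : Matrix (Fin a ⊕ Fin b) (Fin a ⊕ Fin b) F) (v : Fin (a + b) → F) :
    v ᵥ* Matrix.reindex finSumFinEquiv finSumFinEquiv A =
      ((v ∘ finSumFinEquiv) ᵥ* A) ∘ finSumFinEquiv.symm := by
  rw [reindex_apply, submatrix_vecMul_equiv]
  rfl

variable [Fintype F]

theorem Sq.link (h4 : 4 ≤ Fintype.card F) {N : Subgroup Fˣ} {L L1 : Set (F × F)}
    {z : Matrix (Fin a) (Fin a) F} (hz0 : z.det ≠ 0) (P1 : GL (Fin a) F) {t1 : Fin a → F}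
    (hM : Mate z ((P1 : Matrix (Fin a) (Fin a) F) * z * ((P1⁻¹ : GL (Fin a) F) : Matrix (Fin a) (Fin a) F)) t1)
    (hL1 : LeftIn z ((P1 : Matrix (Fin a) (Fin a) F) * z * ((P1⁻¹ : GL (Fin a) F) : Matrix (Fin a) (Fin a) F)) L1)
    (hcard : ∃ S : Finset F, S.card ≤ 3 ∧ ∀ i, t1 i ∈ S)
    (hcommon : ∀ (v : Fin a → F) (α β : F), v ≠ 0 → z *ᵥ v = α • v →
      ((P1 : Matrix (Fin a) (Fin a) F) * z * ((P1⁻¹ : GL (Fin a) F) : Matrix (Fin a) (Fin a) F)) *ᵥ v = β • v →
        (α, α * β) ∉ L)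
    {x : Matrix (Fin b) (Fin b) F} (hx0 : x.det ≠ 0) {t2 : Fin b → F} (hx : Sq N L x t2) :
    Sq N (L1 ∪ {p | p ∈ L ∧ ∀ i, t1 i ≠ p.2}) (dsum z x) (Fin.append t1 t2) := by
  classical
  intro r
  obtain ⟨P2, hP2, hM2, hL2⟩ := hx (r * GeneralLinearGroup.det P1)
  set y1 := (P1 : Matrix (Fin a) (Fin a) F) * z * ((P1⁻¹ : GL (Fin a) F) : Matrix (Fin a) (Fin a) F) with hy1
  set y2 := (P2 : Matrix (Fin b) (Fin b) F) * x * ((P2⁻¹ : GL (Fin b) F) : Matrix (Fin b) (Fin b) F) with hy2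
  let Cmap : Matrix (Fin b) (Fin a) F →ₗ[F] Matrix (Fin b) (Fin a) F :=
    { toFun := fun S => x * (S * y1 - y2 * S)
      map_add' := fun S S' => by
        rw [Matrix.add_mul, Matrix.mul_add y2, add_sub_add_comm, Matrix.mul_add]
      map_smul' := fun c S => by
        simp [Matrix.mul_smul, Matrix.smul_mul, ← smul_sub] }
  let f : (Fin b → F) → (Fin a → F) → Matrix (Fin b) (Fin a) F →ₗ[F] F := fun ψ ξ =>
    { toFun := fun S => ψ ⬝ᵥ (Cmap S *ᵥ ξ)
      map_add' := fun S S' => by rw [map_add, add_mulVec, dotProduct_add]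
      map_smul' := fun c S => by rw [map_smul, smul_mulVec, dotProduct_smul, RingHom.id_apply] }
  let Both : F → Prop := fun c => ∃ p : (Fin a → F) × (Fin b → F),
    p.1 ≠ 0 ∧ p.2 ≠ 0 ∧ (z * y1) *ᵥ p.1 = c • p.1 ∧ p.2 ᵥ* (x * y2) = c • p.2
  have hproper : ∀ c, (h : Both c) → LinearMap.ker (f h.choose.2 h.choose.1) ≠ ⊤ := by
    intro c h e
    obtain ⟨hξ0, hψ0, hξ, hψ⟩ := h.choose_spec
    set ξ := h.choose.1
    set ψ := h.choose.2
    have key : ∀ i j, (ψ ᵥ* x) j * (y1 *ᵥ ξ) i = c * ψ j * ξ i := by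
      intro i j
      have := LinearMap.ker_eq_top.mp e
      have h' := LinearMap.congr_fun this (Matrix.single j i 1)
      simp only [f, Cmap, LinearMap.coe_mk, AddHom.coe_mk, LinearMap.zero_apply] at h'
      rw [Matrix.mul_sub, sub_mulVec, dotProduct_sub, ← Matrix.mul_assoc x y2,
        ← mulVec_mulVec ξ x (Matrix.single j i 1 * y1), ← mulVec_mulVec ξ (Matrix.single j i 1) y1,
        ← mulVec_mulVec ξ (x * y2) (Matrix.single j i 1), dotProduct_mulVec ψ x,
        dotProduct_mulVec ψ (x * y2), hψ, single_mulVec, single_mulVec] at h'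
      simp only [dotProduct, Function.update_apply, Pi.zero_apply, Pi.smul_apply, smul_eq_mul, one_mul,
        mul_ite, mul_zero, Finset.sum_ite_eq', Finset.mem_univ, if_true] at h'
      linear_combination h'
    have hψx : ψ ᵥ* x ≠ 0 := fun e0 => hψ0 (by
      by_contra hne
      exact hx0 (Matrix.exists_vecMul_eq_zero_iff.mp ⟨ψ, hne, e0⟩))
    obtain ⟨j, hj⟩ := Function.ne_iff.mp hψx
    obtain ⟨i, hi⟩ := Function.ne_iff.mp hξ0
    simp only [Pi.zero_apply] at hj hi
    set β := c * ψ j / (ψ ᵥ* x) j with hβ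
    have hy : y1 *ᵥ ξ = β • ξ := by
      funext k
      rw [Pi.smul_apply, smul_eq_mul, hβ, div_mul_eq_mul_div, eq_div_iff hj]
      linear_combination key k j
    have hβ0 : β ≠ 0 := by
      intro e0
      rw [e0, zero_smul] at hy
      have hy10 : y1.det ≠ 0 := by
        rw [hy1, Matrix.det_units_conj]
        exact hz0
      exact hy10 (Matrix.exists_mulVec_eq_zero_iff.mp ⟨ξ, hξ0, hy⟩)
    set α := c / β
    have hz : z *ᵥ ξ = α • ξ := by
      have : β • (z *ᵥ ξ) = c • ξ := by rw [← mulVec_smul, ← hy, mulVec_mulVec, hξ]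
      rw [show z *ᵥ ξ = β⁻¹ • (β • (z *ᵥ ξ)) by rw [inv_smul_smul₀ hβ0], this, smul_smul,
        inv_mul_eq_div]
    refine hcommon ξ α β hξ0 hz hy ?_
    rw [show α * β = c from div_mul_cancel₀ c hβ0]
    refine hL2 ψ α c hψ0 ?_ hψ
    funext k
    have h1 := key i k
    rw [congrFun hy i, Pi.smul_apply, smul_eq_mul] at h1
    rw [Pi.smul_apply, smul_eq_mul]
    refine mul_right_cancel₀ (mul_ne_zero hβ0 hi) ?_
    rw [show α * ψ k * (β * ξ i) = c * ψ k * ξ i by simp only [α]; field_simp]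
    linear_combination h1
  obtain ⟨Sv, hSv3, hSv⟩ := hcard
  let Bad : F → Submodule F (Matrix (Fin b) (Fin a) F) := fun c =>
    if h : Both c then LinearMap.ker (f h.choose.2 h.choose.1) else ⊥
  obtain ⟨S, hS⟩ : ∃ S : Matrix (Fin b) (Fin a) F, ∀ c ∈ Sv, (h : Both c) → f h.choose.2 h.choose.1 S ≠ 0 := by
    obtain ⟨S, hS⟩ := exists_avoid (((Sv.filter Both).toList).map Bad) (Finset.univ : Finset F)
      (by
        rw [List.length_map, Finset.length_toList, Finset.card_univ]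
        have := Finset.card_filter_le Sv Both
        omega)
      (by
        intro U hU
        obtain ⟨c, hc, rfl⟩ := List.mem_map.mp hU
        rw [Finset.mem_toList, Finset.mem_filter] at hc
        simp only [Bad, dif_pos hc.2]
        exact hproper c hc.2)
    refine ⟨S, fun c hc h => ?_⟩
    have := hS (Bad c) (List.mem_map.mpr ⟨c, by simp [hc, h], rfl⟩)
    simp only [Bad, dif_pos h, LinearMap.mem_ker] at this
    exact this
  set C := x * (S * y1 - y2 * S) with hC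
  -- the conjugating element
  set V : Matrix (Fin a ⊕ Fin b) (Fin a ⊕ Fin b) F :=
    Matrix.fromBlocks (P1 : Matrix (Fin a) (Fin a) F) 0 (S * (P1 : Matrix (Fin a) (Fin a) F)) (P2 : Matrix (Fin b) (Fin b) F)
    with hV
  have hVd : (Matrix.reindex finSumFinEquiv finSumFinEquiv V).det =
      (P1 : Matrix (Fin a) (Fin a) F).det * (P2 : Matrix (Fin b) (Fin b) F).det := by
    rw [det_reindex_self, hV, det_fromBlocks_zero₁₂]
  have hVd0 : (Matrix.reindex finSumFinEquiv finSumFinEquiv V).det ≠ 0 := by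
    rw [hVd]
    exact mul_ne_zero ((Matrix.isUnit_iff_isUnit_det _).mp P1.isUnit).ne_zero
      ((Matrix.isUnit_iff_isUnit_det _).mp P2.isUnit).ne_zero
  set P : GL (Fin (a + b)) F := GeneralLinearGroup.mkOfDetNeZero _ hVd0 with hP
  set Y := Matrix.fromBlocks y1 0 (S * y1 - y2 * S) y2 with hY
  have hYP : Matrix.reindex finSumFinEquiv finSumFinEquiv Y =
      (P : Matrix (Fin (a + b)) (Fin (a + b)) F) * dsum z x *
        ((P⁻¹ : GL (Fin (a + b)) F) : Matrix (Fin (a + b)) (Fin (a + b)) F) := by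
    rw [Units.eq_mul_inv_iff_mul_eq]
    show _ * Matrix.reindex finSumFinEquiv finSumFinEquiv V = Matrix.reindex finSumFinEquiv finSumFinEquiv V * _
    rw [dsum, ← reindex_mul', ← reindex_mul']
    congr 1
    rw [hY, hV, fromBlocks_multiply, fromBlocks_multiply]
    have e1 : y1 * (P1 : Matrix (Fin a) (Fin a) F) = (P1 : Matrix (Fin a) (Fin a) F) * z := by
      rw [hy1, Matrix.mul_assoc, Units.inv_mul, Matrix.mul_one]
    have e2 : y2 * (P2 : Matrix (Fin b) (Fin b) F) = (P2 : Matrix (Fin b) (Fin b) F) * x := by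
      rw [hy2, Matrix.mul_assoc, Units.inv_mul, Matrix.mul_one]
    simp only [Matrix.mul_zero, Matrix.zero_mul, add_zero, zero_add, e1, e2, Matrix.sub_mul,
      Matrix.mul_assoc, sub_add_cancel]
  have hXY : dsum z x * Matrix.reindex finSumFinEquiv finSumFinEquiv Y =
      Matrix.reindex finSumFinEquiv finSumFinEquiv (Matrix.fromBlocks (z * y1) 0 C (x * y2)) := by
    rw [dsum, ← reindex_mul', hY, fromBlocks_multiply]
    simp only [Matrix.mul_zero, Matrix.zero_mul, add_zero, zero_add, hC]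
  have hchar : ∀ c, (z * y1).charpoly.eval c = 0 → c ∈ Sv := by
    intro c hc
    rw [hM.1, eval_prod, Finset.prod_eq_zero_iff] at hc
    obtain ⟨i, -, hi⟩ := hc
    rw [eval_sub, eval_X, eval_C, sub_eq_zero] at hi
    exact hi ▸ hSv i
  refine ⟨P, ?_, ?_, ?_⟩
  · have : GeneralLinearGroup.det P = GeneralLinearGroup.det P1 * GeneralLinearGroup.det P2 :=
      Units.ext (by simpa [hP] using hVd)
    rw [this, ← mul_assoc]
    exact hP2
  · rw [← hYP]
    refine ⟨?_, fun c => ?_⟩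
    · rw [hXY, charpoly_reindex, charpoly_fromBlocks_zero₁₂, hM.1, hM2.1, Fin.prod_univ_add]
      simp only [Fin.append_left, Fin.append_right]
    rw [hXY, eigLe_iff]
    have hsplit : ∀ v : Fin (a + b) → F,
        Matrix.reindex finSumFinEquiv finSumFinEquiv (Matrix.fromBlocks (z * y1) 0 C (x * y2)) *ᵥ v = c • v →
          (z * y1) *ᵥ (v ∘ finSumFinEquiv ∘ Sum.inl) = c • (v ∘ finSumFinEquiv ∘ Sum.inl) ∧
          C *ᵥ (v ∘ finSumFinEquiv ∘ Sum.inl) + (x * y2) *ᵥ (v ∘ finSumFinEquiv ∘ Sum.inr) =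
            c • (v ∘ finSumFinEquiv ∘ Sum.inr) := by
      intro v hv
      rw [reindex_mulVec', fromBlocks_mulVec] at hv
      refine ⟨funext fun i => ?_, funext fun i => ?_⟩
      · have := congrFun hv (finSumFinEquiv (Sum.inl i))
        simpa [Function.comp_assoc] using this
      · have := congrFun hv (finSumFinEquiv (Sum.inr i))
        simpa [Function.comp_assoc] using this
    have hzero : ∀ v : Fin (a + b) → F, v ∘ finSumFinEquiv ∘ Sum.inl = 0 →
        v ∘ finSumFinEquiv ∘ Sum.inr = 0 → v = 0 := by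
      intro v h1 h2
      funext k
      obtain ⟨k, rfl⟩ := finSumFinEquiv.surjective k
      rcases k with k | k
      exacts [congrFun h1 k, congrFun h2 k]
    intro v w hv hw hv0
    obtain ⟨hv1, hv2⟩ := hsplit v hv
    obtain ⟨hw1, hw2⟩ := hsplit w hw
    by_cases hdet : (x * y2 - c • 1).det = 0
    · obtain ⟨ψ', hψ'0, hψ'⟩ := Matrix.exists_vecMul_eq_zero_iff.mpr hdet
      have hψ'' : ψ' ᵥ* (x * y2) = c • ψ' := by
        rw [vecMul_sub, vecMul_smul, vecMul_one, sub_eq_zero] at hψ'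
        exact hψ'
      have htop : ∀ u : Fin (a + b) → F,
          (z * y1) *ᵥ (u ∘ finSumFinEquiv ∘ Sum.inl) = c • (u ∘ finSumFinEquiv ∘ Sum.inl) →
          C *ᵥ (u ∘ finSumFinEquiv ∘ Sum.inl) + (x * y2) *ᵥ (u ∘ finSumFinEquiv ∘ Sum.inr) =
            c • (u ∘ finSumFinEquiv ∘ Sum.inr) → u ∘ finSumFinEquiv ∘ Sum.inl = 0 := by
        intro u hu1 hu2
        by_contra hne
        have hB : Both c := ⟨(_, ψ'), hne, hψ'0, hu1, hψ''⟩
        obtain ⟨hξ0, hψ0, hξ, hψ⟩ := hB.choose_spec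
        obtain ⟨s, hs⟩ := eigLe_iff.mp (hM.2 c) _ _ hξ hu1 hξ0
        have hs0 : s ≠ 0 := fun e => hne (by rw [hs, e, zero_smul])
        have h := congrArg (fun q => hB.choose.2 ⬝ᵥ q) hu2
        simp only [dotProduct_add, dotProduct_smul, dotProduct_mulVec _ (x * y2), hψ, smul_dotProduct,
          add_eq_right, hs, mulVec_smul] at h
        rw [smul_eq_mul, mul_eq_zero] at h
        refine hS c (hchar c (root_of_eigen hne hu1)) hB ?_
        exact h.resolve_left hs0
      have hv1z := htop v hv1 hv2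
      have hw1z := htop w hw1 hw2
      rw [hv1z, mulVec_zero, zero_add] at hv2
      rw [hw1z, mulVec_zero, zero_add] at hw2
      obtain ⟨s, hs⟩ := eigLe_iff.mp (hM2.2 c) _ _ hv2 hw2 (fun e => hv0 (hzero v hv1z e))
      refine ⟨s, sub_eq_zero.mp (hzero _ ?_ ?_)⟩
      · show w ∘ finSumFinEquiv ∘ Sum.inl - s • (v ∘ finSumFinEquiv ∘ Sum.inl) = 0
        rw [hv1z, hw1z, smul_zero, sub_zero]
      · show w ∘ finSumFinEquiv ∘ Sum.inr - s • (v ∘ finSumFinEquiv ∘ Sum.inr) = 0
        rw [hs, sub_self]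
    · have hbot : ∀ u : Fin b → F, (x * y2) *ᵥ u = c • u → u = 0 := by
        intro u hu
        by_contra hne
        exact hdet (Matrix.exists_mulVec_eq_zero_iff.mp ⟨u, hne, by
          rw [sub_mulVec, hu, smul_mulVec, one_mulVec, sub_self]⟩)
      have hvt : v ∘ finSumFinEquiv ∘ Sum.inl ≠ 0 := fun e => by
        rw [e, mulVec_zero, zero_add] at hv2
        exact hv0 (hzero v e (hbot _ hv2))
      obtain ⟨s, hs⟩ := eigLe_iff.mp (hM.2 c) _ _ hv1 hw1 hvt
      refine ⟨s, sub_eq_zero.mp (hzero _ ?_ (hbot _ ?_))⟩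
      · show w ∘ finSumFinEquiv ∘ Sum.inl - s • (v ∘ finSumFinEquiv ∘ Sum.inl) = 0
        rw [hs, sub_self]
      · show (x * y2) *ᵥ (w ∘ finSumFinEquiv ∘ Sum.inr - s • (v ∘ finSumFinEquiv ∘ Sum.inr)) =
          c • (w ∘ finSumFinEquiv ∘ Sum.inr - s • (v ∘ finSumFinEquiv ∘ Sum.inr))
        rw [hs, mulVec_smul] at hw2
        rw [mulVec_sub, mulVec_smul]
        linear_combination (norm := module) hw2 - s • hv2
  · rw [← hYP]
    intro ψ α β hψ0 hψ1 hψ2
    rw [dsum, reindex_vecMul', vecMul_fromBlocks] at hψ1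
    rw [hXY, reindex_vecMul', vecMul_fromBlocks] at hψ2
    have hl1 : (ψ ∘ finSumFinEquiv ∘ Sum.inl) ᵥ* z = α • (ψ ∘ finSumFinEquiv ∘ Sum.inl) := funext fun i => by
      simpa [Function.comp_assoc] using congrFun hψ1 (finSumFinEquiv (Sum.inl i))
    have hr1 : (ψ ∘ finSumFinEquiv ∘ Sum.inr) ᵥ* x = α • (ψ ∘ finSumFinEquiv ∘ Sum.inr) := funext fun i => by
      simpa [Function.comp_assoc] using congrFun hψ1 (finSumFinEquiv (Sum.inr i))
    have hr2 : (ψ ∘ finSumFinEquiv ∘ Sum.inr) ᵥ* (x * y2) = β • (ψ ∘ finSumFinEquiv ∘ Sum.inr) := funext fun i => by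
      simpa [Function.comp_assoc] using congrFun hψ2 (finSumFinEquiv (Sum.inr i))
    set l := ψ ∘ finSumFinEquiv ∘ Sum.inl with hldef
    set q := ψ ∘ finSumFinEquiv ∘ Sum.inr with hqdef
    have hl2 : l ᵥ* (z * y1) + q ᵥ* C = β • l := funext fun i => by
      simpa [Function.comp_assoc, l, q] using congrFun hψ2 (finSumFinEquiv (Sum.inl i))
    by_cases hr : q = 0
    · have hl : l ≠ 0 := fun e => hψ0 (by
        funext k
        obtain ⟨k, rfl⟩ := finSumFinEquiv.surjective k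
        rcases k with k | k
        exacts [congrFun e k, congrFun hr k])
      rw [hr, zero_vecMul, add_zero] at hl2
      exact Or.inl (hL1 _ α β hl hl1 hl2)
    · refine Or.inr ⟨hL2 _ α β hr hr1 hr2, fun i hi => ?_⟩
      -- the coupling separates an eigenvalue of both diagonal blocks
      have hβ : (z * y1).charpoly.eval β = 0 := by
        rw [hM.1, eval_prod]
        exact Finset.prod_eq_zero (Finset.mem_univ i) (by simp [hi])
      rw [Matrix.eval_charpoly, ← Matrix.exists_mulVec_eq_zero_iff] at hβ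
      obtain ⟨ξ₀, hξ₀, hξ₀'⟩ := hβ
      rw [sub_mulVec, scalar_apply, ← smul_one_eq_diagonal, smul_mulVec, one_mulVec, sub_eq_zero] at hξ₀'
      have hB : Both β := ⟨(ξ₀, q), hξ₀, hr, hξ₀'.symm, hr2⟩
      obtain ⟨hξ, hψ', hξe, hψe⟩ := hB.choose_spec
      obtain ⟨s, hs⟩ := eigLe_iff.mp (eigLe_transpose.mpr (hM2.2 β)) hB.choose.2 q
        (by rw [mulVec_transpose]; exact hψe) (by rw [mulVec_transpose]; exact hr2) hψ'
      have h := congrArg (fun v => v ⬝ᵥ hB.choose.1) hl2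
      simp only [add_dotProduct, ← dotProduct_mulVec, hξe, dotProduct_smul, smul_dotProduct,
        add_eq_left, hs, smul_eq_mul, mul_eq_zero] at h
      exact hS β (by rw [show β = t1 i from hi.symm]; exact hSv i) hB (h.resolve_left fun e => hr (by rw [hs, e, zero_smul]))

end CfsgLib.CoverPSL
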