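import Mathlib

/-!
# Some element of `PSL_n(q)` is not a product of `n - 1` conjugates of a transvection

A product of `n - 1` conjugates of a transvection fixes a nonzero vector, while a shift with a suitable
corner entry has no eigenvalue that is an `n`-th root of unity.
-/

set_option autoImplicit false

namespace CfsgLib.CoverPSL

open Matrix

variable {F : Type*} [Field F]

section Witness

variable {n : ℕ}

/-- The weights of the shift. -/
def shiftW (n : ℕ) (i : Fin n) : F := if i.val + 1 = n then -(-1) ^ n else 1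

/-- A cyclic shift with weights. -/
def shiftM (n : ℕ) : Matrix (Fin n) (Fin n) F :=
  Equiv.Perm.permMatrix F (finRotate n).symm * diagonal (shiftW n)

theorem det_shiftM (hn : 0 < n) : (shiftM n : Matrix (Fin n) (Fin n) F).det = 1 := by
  obtain ⟨m, rfl⟩ : ∃ m, n = m + 1 := ⟨n - 1, by omega⟩
  rw [shiftM, det_mul, det_permutation, Equiv.Perm.sign_symm, sign_finRotate, det_diagonal,
    Finset.prod_eq_single (Fin.last m)]
  · simp only [Nat.add_sub_cancel, shiftW, Fin.val_last, if_true, pow_succ]
    push_cast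
    rw [mul_neg_one, neg_neg, ← mul_pow]
    simp
  · intro i _ hi
    rw [shiftW, if_neg]
    exact fun h => hi (Fin.ext (by simpa using h))
  · simp

/-- The element without eigenvalues among the `n`-th roots of unity. -/
def noFix (m : ℕ) (b : F) : Matrix.SpecialLinearGroup (Fin (m + 3)) F :=
  ⟨Matrix.transvection 1 0 b * shiftM (m + 3), by
    rw [det_mul, det_transvection_of_ne _ _ (by simp), det_shiftM (by omega), one_mul]⟩

theorem shiftM_mulVec (m : ℕ) (v : Fin (m + 1) → F) (i : Fin (m + 1)) :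
    ((shiftM (m + 1)) *ᵥ v) i =
      if i.val = 0 then -(-1) ^ (m + 1) * v (Fin.last m) else v ⟨i.val - 1, by omega⟩ := by
  rw [shiftM, ← mulVec_mulVec, permMatrix_mulVec, Function.comp_apply, mulVec_diagonal]
  by_cases hi : i.val = 0
  · have e : (finRotate (m + 1)).symm i = Fin.last m := by
      rw [Equiv.symm_apply_eq, finRotate_apply, Fin.last_add_one]
      exact Fin.ext hi
    rw [if_pos hi, e, shiftW, if_pos (by simp)]
  · have e : (finRotate (m + 1)).symm i = ⟨i.val - 1, by omega⟩ := by
      rw [Equiv.symm_apply_eq, finRotate_apply]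
      refine Fin.ext ?_
      rw [Fin.val_add_one, if_neg fun h => ?_]
      · simp only; omega
      · have h' := congrArg Fin.val h
        simp only [Fin.val_last] at h'
        omega
    rw [if_neg hi, e, shiftW, if_neg (by simp only; omega), one_mul]

theorem noFix_spec (m : ℕ) {b : F} (hb : ∀ l : F, l ≠ 0 → 1 + (-1) ^ (m + 3) * (1 + b * l) ≠ 0) {l : F}
    (hl : l ^ (m + 3) = 1) {v : Fin (m + 3) → F}
    (hv : (noFix m b : Matrix (Fin (m + 3)) (Fin (m + 3)) F) *ᵥ v = l • v) : v = 0 := by
  have hl0 : l ≠ 0 := fun h => by simp [h] at hl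
  set w := (shiftM (m + 3)) *ᵥ v with hw
  have hv' : Matrix.transvection (1 : Fin (m + 3)) 0 b *ᵥ w = l • v := by
    rw [hw, mulVec_mulVec]
    exact hv
  have hT : ∀ i, l * v i = w i + if i = 1 then b * w 0 else 0 := fun i => by
    have := congrFun hv' i
    simp only [Pi.smul_apply, smul_eq_mul, Matrix.transvection, add_mulVec, one_mulVec, Pi.add_apply,
      single_mulVec, Function.update_apply, Pi.zero_apply] at this
    rw [← this]
  have h0 : l * v 0 = -(-1) ^ (m + 3) * v (Fin.last (m + 2)) := by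
    rw [hT, if_neg (by simp), hw, shiftM_mulVec, if_pos (show ((0 : Fin (m + 3)) : ℕ) = 0 from rfl), add_zero]
  have h1 : l * v 1 = v 0 * (1 + b * l) := by
    have e : w 0 = l * v 0 := by rw [h0, hw, shiftM_mulVec, if_pos (show ((0 : Fin (m + 3)) : ℕ) = 0 from rfl)]
    rw [hT, if_pos rfl, e, hw, shiftM_mulVec, if_neg (by simp)]
    rw [show (⟨(1 : Fin (m + 3)).val - 1, by omega⟩ : Fin (m + 3)) = 0 from Fin.ext (by simp)]
    ring
  have hstep : ∀ k, (h : k + 1 < m + 3) → 1 ≤ k → l * v ⟨k + 1, h⟩ = v ⟨k, by omega⟩ := fun k h hk => by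
    rw [hT, if_neg (fun e => by have := congrArg Fin.val e; simp at this; omega),
      hw, shiftM_mulVec, if_neg (by simp), add_zero]
    simp
  have hpow : ∀ k, (h : k + 1 < m + 3) → l ^ k * v ⟨k + 1, h⟩ = v 1 := by
    intro k
    induction k with
    | zero => intro h; rw [pow_zero, one_mul]; rfl
    | succ k ih =>
      intro h
      rw [pow_succ, mul_assoc, hstep (k + 1) h (by omega)]
      exact ih (by omega)
  have hlast : v (Fin.last (m + 2)) = 0 := by
    have e := hpow (m + 1) (by omega)
    rw [show (⟨m + 1 + 1, by omega⟩ : Fin (m + 3)) = Fin.last (m + 2) from rfl] at e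
    have key : (1 + (-1) ^ (m + 3) * (1 + b * l)) * v (Fin.last (m + 2)) = 0 := by
      linear_combination (-v (Fin.last (m + 2))) * hl + (l * l) * e + l * h1 + (1 + b * l) * h0
    exact (mul_eq_zero.1 key).resolve_left (hb l hl0)
  have hv0 : v 0 = 0 := by
    rw [hlast, mul_zero] at h0
    exact (mul_eq_zero.1 h0).resolve_left hl0
  have hv1 : v 1 = 0 := by
    rw [hv0, zero_mul] at h1
    exact (mul_eq_zero.1 h1).resolve_left hl0
  funext i
  rcases Nat.eq_zero_or_pos i.val with hi | hi
  · rw [show i = 0 from Fin.ext hi, hv0]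
    rfl
  · have e := hpow (i.val - 1) (by omega)
    rw [show (⟨i.val - 1 + 1, by omega⟩ : Fin (m + 3)) = i from Fin.ext (by simp only; omega), hv1] at e
    exact (mul_eq_zero.1 e).resolve_left (pow_ne_zero _ hl0)

theorem exists_corner (m : ℕ) : ∃ b : F, ∀ l : F, l ≠ 0 → 1 + (-1) ^ m * (1 + b * l) ≠ 0 := by
  by_cases h : (1 : F) + (-1) ^ m = 0
  · refine ⟨1, fun l hl e => hl ?_⟩
    have : (-1 : F) ^ m * l = 0 := by linear_combination e - h
    exact (mul_eq_zero.1 this).resolve_left (pow_ne_zero _ (neg_ne_zero.2 one_ne_zero))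
  · exact ⟨0, fun l _ => by simpa using h⟩

end Witness

/-- The vectors fixed by a conjugate of a transvection form a hyperplane. -/
theorem fixed_of_coord {n : ℕ} {i j : Fin n} (hij : i ≠ j) (h : Matrix.SpecialLinearGroup (Fin n) F) {v : Fin n → F}
    (hv : ((h⁻¹ : Matrix.SpecialLinearGroup (Fin n) F) : Matrix (Fin n) (Fin n) F) *ᵥ v ∈ {w | w j = 0}) :
    ((h * Matrix.SpecialLinearGroup.transvection hij 1 * h⁻¹ : Matrix.SpecialLinearGroup (Fin n) F) :
      Matrix (Fin n) (Fin n) F) *ᵥ v = v := by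
  set w := ((h⁻¹ : Matrix.SpecialLinearGroup (Fin n) F) : Matrix (Fin n) (Fin n) F) *ᵥ v with hw
  have hT : (Matrix.SpecialLinearGroup.transvection hij (1 : F) : Matrix (Fin n) (Fin n) F) *ᵥ w = w := by
    funext k
    rw [Matrix.SpecialLinearGroup.transvection_coe]
    simp only [add_mulVec, one_mulVec, Pi.add_apply, single_mulVec, Function.update_apply, Pi.zero_apply]
    rw [show w j = 0 from hv]
    simp
  rw [Matrix.SpecialLinearGroup.coe_mul, Matrix.SpecialLinearGroup.coe_mul, ← mulVec_mulVec, ← mulVec_mulVec, ← hw, hT, hw,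
    mulVec_mulVec, ← Matrix.SpecialLinearGroup.coe_mul, mul_inv_cancel, Matrix.SpecialLinearGroup.coe_one, one_mulVec]

/-- A product of fewer than `n` conjugates of a transvection fixes a nonzero vector. -/
theorem exists_fixed {n : ℕ} {i j : Fin n} (hij : i ≠ j) {k : ℕ} (hk : k < n)
    (h : Fin k → Matrix.SpecialLinearGroup (Fin n) F) :
    ∃ v : Fin n → F, v ≠ 0 ∧
      (((List.ofFn fun r => h r * Matrix.SpecialLinearGroup.transvection hij 1 * (h r)⁻¹).prod :
        Matrix.SpecialLinearGroup (Fin n) F) : Matrix (Fin n) (Fin n) F) *ᵥ v = v := by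
  let φ : (Fin n → F) →ₗ[F] (Fin k → F) := LinearMap.pi fun r =>
    (LinearMap.proj j).comp (Matrix.mulVecLin ((h r)⁻¹ : Matrix.SpecialLinearGroup (Fin n) F).1)
  obtain ⟨v, hv, hv0⟩ := Submodule.exists_mem_ne_zero_of_ne_bot
    (φ.ker_ne_bot_of_finrank_lt (by simpa using hk))
  refine ⟨v, hv0, ?_⟩
  have hone : ∀ x ∈ List.ofFn fun r => h r * Matrix.SpecialLinearGroup.transvection hij (1 : F) * (h r)⁻¹,
      (x : Matrix (Fin n) (Fin n) F) *ᵥ v = v := by
    intro x hx
    obtain ⟨r, rfl⟩ := List.mem_ofFn.1 hx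
    exact fixed_of_coord hij (h r) (congrFun (LinearMap.mem_ker.1 hv) r)
  generalize (List.ofFn fun r => h r * Matrix.SpecialLinearGroup.transvection hij (1 : F) * (h r)⁻¹) = L at hone
  induction L with
  | nil => simp
  | cons x L ih =>
    rw [List.prod_cons, Matrix.SpecialLinearGroup.coe_mul, ← mulVec_mulVec, ih fun y hy => hone y (List.mem_cons_of_mem _ hy)]
    exact hone x List.mem_cons_self

/-- The covering number of `PSL_n` is at least `n`. -/
theorem exists_not_prod (n : ℕ) (hn : 3 ≤ n) :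
    ∃ x : Matrix.ProjectiveSpecialLinearGroup (Fin n) F, x ≠ 1 ∧ ∃ g : Matrix.ProjectiveSpecialLinearGroup (Fin n) F,
      ∀ f : Fin (n - 1) → Matrix.ProjectiveSpecialLinearGroup (Fin n) F,
        g ≠ (List.ofFn fun i => f i * x * (f i)⁻¹).prod := by
  obtain ⟨m, rfl⟩ : ∃ m, n = m + 3 := ⟨n - 3, by omega⟩
  obtain ⟨b, hb⟩ := exists_corner (F := F) (m + 3)
  have hij : (0 : Fin (m + 3)) ≠ 1 := by simp
  refine ⟨QuotientGroup.mk (Matrix.SpecialLinearGroup.transvection hij 1), fun h => ?_, QuotientGroup.mk (noFix m b),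
    fun f h => ?_⟩
  · exact one_ne_zero ((Matrix.SpecialLinearGroup.transvection_mem_center_iff hij 1).1
      ((QuotientGroup.eq_one_iff _).1 h))
  · choose hf hhf using fun i => QuotientGroup.mk_surjective (f i)
    have e : (List.ofFn fun i => f i * QuotientGroup.mk (Matrix.SpecialLinearGroup.transvection hij 1) * (f i)⁻¹) =
        (List.ofFn fun i => hf i * Matrix.SpecialLinearGroup.transvection hij 1 * (hf i)⁻¹).map
          (QuotientGroup.mk' (Subgroup.center (Matrix.SpecialLinearGroup (Fin (m + 3)) F))) := by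
      rw [List.map_ofFn]
      congr 1
      funext i
      simp [← hhf i]
    rw [e, ← map_list_prod] at h
    obtain ⟨v, hv0, hv⟩ := exists_fixed hij (by omega : m + 3 - 1 < m + 3) hf
    set p := (List.ofFn fun i => hf i * Matrix.SpecialLinearGroup.transvection hij (1 : F) * (hf i)⁻¹).prod
    have hz := QuotientGroup.eq.1 h.symm
    obtain ⟨l, hl, hls⟩ := Matrix.SpecialLinearGroup.mem_center_iff.1 hz
    rw [Fintype.card_fin] at hl
    refine hv0 (noFix_spec m hb hl ?_)
    have : noFix m b = p * (p⁻¹ * noFix m b) := (mul_inv_cancel_left _ _).symm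
    rw [this, Matrix.SpecialLinearGroup.coe_mul, ← mulVec_mulVec, ← hls, scalar_apply, ← smul_one_eq_diagonal,
      smul_mulVec, one_mulVec, mulVec_smul, hv]

end CfsgLib.CoverPSL
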