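import Cfsg.Agent.CoverPSL.Link
import Mathlib.LinearAlgebra.Matrix.Adjugate

/-!
# Scalars as products of conjugates: explicit constructions
-/

set_option autoImplicit false

namespace CfsgLib.CoverPSL

open Matrix CfsgLib.OreSL

variable {F : Type*} [Field F]

/-- A matrix is similar to its conjugate by a permutation. -/
theorem sim_reindex_self {ι : Type*} [Fintype ι] [DecidableEq ι] (x : Matrix ι ι F) (e : ι ≃ ι) :
    Sim x (Matrix.reindex e e x) := by
  refine ⟨(1 : Matrix ι ι F).submatrix e.symm id, ?_, ?_⟩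
  · rw [det_permute, det_one, mul_one]
    rcases Int.units_eq_one_or (Equiv.Perm.sign e.symm) with h | h <;> simp [h]
  · ext i j
    simp [Matrix.mul_apply, Matrix.one_apply, -Equiv.symm_apply_eq]
    rw [Finset.sum_eq_single (e j)] <;> simp +contextual [Equiv.symm_apply_eq]

/-- Cyclic shifts of a diagonal matrix multiply to its determinant. -/
theorem cov_diag_scalar {n : ℕ} (d : Fin n → F) :
    Cov ⊤ (diagonal d) n ((∏ i, d i) • 1) := by
  rcases Nat.eq_zero_or_pos n with rfl | hn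
  · rw [Fin.prod_univ_zero, one_smul]
    exact cov_zero
  haveI : NeZero n := ⟨hn.ne'⟩
  have key : ∀ k (o : ℕ → Fin n), Cov ⊤ (diagonal d) k
      (diagonal fun i => ∏ j ∈ Finset.range k, d (i + o j)) := by
    intro k
    induction k with
    | zero => intro o; simp [Cov]
    | succ k ih =>
      intro o
      refine ⟨diagonal fun i => d (i + o 0), _, simIn_top_iff.2 ?_, ih (fun j => o (j + 1)), ?_⟩
      · have := sim_reindex_self (diagonal d) (Equiv.addRight (o 0)).symm
        rw [reindex_apply, submatrix_diagonal_equiv] at this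
        exact this
      · rw [diagonal_mul_diagonal]
        congr 1
        funext i
        rw [Finset.prod_range_succ', mul_comm]
  have := key n (fun j => Fin.ofNat n j)
  convert this using 1
  rw [smul_one_eq_diagonal]
  congr 1
  funext i
  rw [← Fin.prod_univ_eq_prod_range (fun j => d (i + Fin.ofNat n j)) n]
  refine (Equiv.prod_comp (Equiv.addLeft i) d).symm.trans (Finset.prod_congr rfl fun j _ => ?_)
  simp

theorem sim_adjugate (z : Matrix (Fin 2) (Fin 2) F) : Sim z z.adjugate := by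
  obtain ⟨a, b, c, d, rfl⟩ : ∃ a b c d, z = !![a, b; c, d] :=
    ⟨_, _, _, _, Matrix.eta_fin_two z⟩
  rw [adjugate_fin_two_of]
  by_cases hb : b = 0
  swap
  · refine ⟨!![b, 0; d - a, -b], by simp [det_fin_two, hb], ?_⟩
    ext i j
    fin_cases i <;> fin_cases j <;> simp [mul_apply, Fin.sum_univ_two] <;> ring
  by_cases hc : c = 0
  swap
  · refine ⟨!![c, d - a; 0, -c], by simp [det_fin_two, hc], ?_⟩
    ext i j
    fin_cases i <;> fin_cases j <;> simp [mul_apply, Fin.sum_univ_two] <;> ring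
  subst hb hc
  refine ⟨!![0, 1; 1, 0], by simp [det_fin_two], ?_⟩
  ext i j
  fin_cases i <;> fin_cases j <;> simp [mul_apply, Fin.sum_univ_two]

/-- Two conjugates in `GL₂` give the determinant. -/
theorem cov_two_scalar (z : Matrix (Fin 2) (Fin 2) F) : Cov ⊤ z 2 (z.det • 1) := by
  rw [← mul_adjugate z]
  exact (cov_one (simIn_top_iff.2 (sim_adjugate z))).cons (SimIn.refl ⊤ z)

variable {a b r : ℕ}

theorem dsum_mul (z z' : Matrix (Fin a) (Fin a) F) (w w' : Matrix (Fin b) (Fin b) F) :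
    dsum z w * dsum z' w' = dsum (z * z') (w * w') := by
  rw [dsum, dsum, dsum, ← reindex_mul', fromBlocks_multiply]
  simp

theorem dsum_smul_one (c : F) :
    dsum (c • (1 : Matrix (Fin a) (Fin a) F)) (c • (1 : Matrix (Fin b) (Fin b) F)) = c • 1 := by
  have e : fromBlocks (c • (1 : Matrix (Fin a) (Fin a) F)) 0 0 (c • (1 : Matrix (Fin b) (Fin b) F)) =
      c • (1 : Matrix (Fin a ⊕ Fin b) (Fin a ⊕ Fin b) F) := by
    rw [← fromBlocks_one, fromBlocks_smul]
    simp
  rw [dsum, e, reindex_apply]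
  simp [submatrix_smul, submatrix_one_equiv]

theorem sim_dsum {z z' : Matrix (Fin a) (Fin a) F} {w w' : Matrix (Fin b) (Fin b) F} (hz : Sim z z')
    (hw : Sim w w') : Sim (dsum z w) (dsum z' w') :=
  (hz.fromBlocks hw).reindex _

theorem cov_dsum_left {A : Matrix (Fin a) (Fin a) F} (w : Matrix (Fin b) (Fin b) F) {k : ℕ}
    {g : Matrix (Fin a) (Fin a) F} (h : Cov ⊤ A k g) : Cov ⊤ (dsum A w) k (dsum g (w ^ k)) := by
  induction k generalizing g with
  | zero =>
    rw [show g = 1 from h, pow_zero]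
    simpa [Cov] using dsum_smul_one (a := a) (b := b) (1 : F)
  | succ k ih =>
    obtain ⟨y, s, hy, hs, rfl⟩ := h
    rw [pow_succ', ← dsum_mul]
    exact (ih hs).cons (simIn_top_iff.2 (sim_dsum hy.sim (Sim.refl w)))

theorem cov_dsum_right {z : Matrix (Fin a) (Fin a) F} {B : Matrix (Fin b) (Fin b) F} {k : ℕ}
    {g : Matrix (Fin b) (Fin b) F} (h : Cov ⊤ B k g) : Cov ⊤ (dsum z B) k (dsum (z ^ k) g) := by
  induction k generalizing g with
  | zero =>
    rw [show g = 1 from h, pow_zero]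
    simpa [Cov] using dsum_smul_one (a := a) (b := b) (1 : F)
  | succ k ih =>
    obtain ⟨y, s, hy, hs, rfl⟩ := h
    rw [pow_succ', ← dsum_mul]
    exact (ih hs).cons (simIn_top_iff.2 (sim_dsum (Sim.refl z) hy.sim))

theorem sim_dsum_swap (z w : Matrix (Fin a) (Fin a) F) : Sim (dsum z w) (dsum w z) := by
  have e : Sim (fromBlocks z 0 0 w) (fromBlocks w 0 0 z) := by
    have := sim_reindex_self (fromBlocks z 0 0 w) (Equiv.sumComm (Fin a) (Fin a))
    simpa [reindex_apply, fromBlocks_submatrix_sum_swap_sum_swap] using this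
  exact e.reindex _

/-- Four conjugates of a sum of two blocks. -/
theorem cov_pairs (z w : Matrix (Fin 2) (Fin 2) F) :
    Cov ⊤ (dsum z w) 4 ((z.det * w.det) • 1) := by
  have hz := sim_adjugate z
  have hw := sim_adjugate w
  have h1 : SimIn ⊤ (dsum z w) (dsum z.adjugate w.adjugate) := simIn_top_iff.2 (sim_dsum hz hw)
  have h2 : SimIn ⊤ (dsum z w) (dsum w z) := simIn_top_iff.2 (sim_dsum_swap z w)
  have h3 : SimIn ⊤ (dsum z w) (dsum w.adjugate z.adjugate) :=
    h2.trans (simIn_top_iff.2 (sim_dsum hw hz))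
  have e : (z.det * w.det) • (1 : Matrix (Fin (2 + 2)) (Fin (2 + 2)) F) =
      dsum z w * (dsum z.adjugate w.adjugate * (dsum w z * dsum w.adjugate z.adjugate)) := by
    rw [dsum_mul w, dsum_mul, dsum_mul, ← Matrix.mul_assoc z, ← Matrix.mul_assoc w, mul_adjugate,
      mul_adjugate, Matrix.smul_mul, Matrix.smul_mul, Matrix.one_mul, Matrix.one_mul, smul_smul, smul_smul,
      mul_comm w.det, dsum_smul_one]
  rw [e]
  exact (((cov_one h3).cons h2).cons h1).cons (SimIn.refl ⊤ _)

/-- Scalars from a block and a smaller sum. -/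
theorem cov_split (A : Matrix (Fin a) (Fin a) F) (l : F) (hA : Cov ⊤ A a (A.det • 1))
    (hB : Cov ⊤ (dsum A (l • (1 : Matrix (Fin r) (Fin r) F))) (a + r) ((A.det * l ^ r) • 1)) :
    Cov ⊤ (dsum A (l • (1 : Matrix (Fin (a + r)) (Fin (a + r)) F))) (a + (a + r))
      ((A.det * l ^ (a + r)) • 1) := by
  classical
  have hsim : Sim (dsum A (l • (1 : Matrix (Fin (a + r)) (Fin (a + r)) F)))
      (dsum (l • (1 : Matrix (Fin a) (Fin a) F)) (dsum A (l • (1 : Matrix (Fin r) (Fin r) F)))) := by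
    -- exchange the first two blocks
    have e1 : fromBlocks A 0 0 (l • (1 : Matrix (Fin (a + r)) (Fin (a + r)) F)) =
        reindex (Equiv.sumCongr (Equiv.refl (Fin a)) finSumFinEquiv)
          (Equiv.sumCongr (Equiv.refl (Fin a)) finSumFinEquiv)
          (fromBlocks A 0 0 (l • (1 : Matrix (Fin a ⊕ Fin r) (Fin a ⊕ Fin r) F))) := by
      ext i j
      rcases i with i | i <;> rcases j with j | j <;> simp [reindex_apply, one_apply]
    have e2 : fromBlocks (l • (1 : Matrix (Fin a) (Fin a) F)) 0 0 (dsum A (l • (1 : Matrix (Fin r) (Fin r) F))) =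
        reindex (Equiv.sumCongr (Equiv.refl (Fin a)) finSumFinEquiv)
          (Equiv.sumCongr (Equiv.refl (Fin a)) finSumFinEquiv)
          (fromBlocks (l • (1 : Matrix (Fin a) (Fin a) F)) 0 0
            (fromBlocks A 0 0 (l • (1 : Matrix (Fin r) (Fin r) F)))) := by
      ext i j
      rcases i with i | i <;> rcases j with j | j <;> simp [reindex_apply, dsum]
    rw [dsum, dsum, e1, e2]
    refine Sim.reindex (Sim.reindex ?_ _) _
    refine (sim_reindex_self (fromBlocks A 0 0 (l • (1 : Matrix (Fin a ⊕ Fin r) (Fin a ⊕ Fin r) F)))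
      (((Equiv.sumAssoc (Fin a) (Fin a) (Fin r)).symm.trans
        ((Equiv.sumComm (Fin a) (Fin a)).sumCongr (Equiv.refl (Fin r)))).trans
        (Equiv.sumAssoc (Fin a) (Fin a) (Fin r)))).trans (Sim.of_eq ?_)
    ext i j
    rcases i with i | i | i <;> rcases j with j | j | j <;> simp [reindex_apply, one_apply]
  have h1 := cov_dsum_left (l • (1 : Matrix (Fin (a + r)) (Fin (a + r)) F)) hA
  have h2 := (cov_dsum_right (z := l • (1 : Matrix (Fin a) (Fin a) F)) hB).base (simIn_top_iff.2 hsim)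
  convert h1.mul h2 using 1
  rw [dsum_mul, smul_pow, one_pow, smul_pow, one_pow, Matrix.smul_mul, Matrix.smul_mul, Matrix.one_mul,
    Matrix.one_mul, smul_smul, smul_smul, ← dsum_smul_one]
  congr 2 <;> rw [pow_add] <;> ring

/-- A product of four special conjugates of two Jordan blocks. -/
theorem cov_four_jordan_sl (p q : F) :
    Cov ⊥ (dsum !![p, 1; 0, p] !![q, 1; 0, q]) 4 ((p ^ 2 * q ^ 2) • 1) := by
  obtain ⟨P, hP⟩ : ∃ P : GL (Fin (2 + 2)) F, (P : Matrix (Fin (2 + 2)) (Fin (2 + 2)) F) =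
      dsum !![-1, 0; 0, 1] !![-1, 0; 0, 1] :=
    ⟨GeneralLinearGroup.mkOfDetNeZero _ (by rw [det_reindex_self, det_fromBlocks_zero₂₁]; simp [det_fin_two]), rfl⟩
  have hPd : GeneralLinearGroup.det P = 1 := Units.ext (by
    show (P : Matrix (Fin (2 + 2)) (Fin (2 + 2)) F).det = 1
    rw [hP, det_dsum]
    simp [det_fin_two])
  obtain ⟨S, hS⟩ : ∃ S : Matrix (Fin (2 + 2)) (Fin (2 + 2)) F,
      S = Matrix.reindex finSumFinEquiv finSumFinEquiv (fromBlocks 0 1 1 0) := ⟨_, rfl⟩
  have hSd : S.det = 1 := by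
    have e : (fromBlocks 0 1 1 0 : Matrix (Fin 2 ⊕ Fin 2) (Fin 2 ⊕ Fin 2) F) =
        fromBlocks 1 1 0 1 * fromBlocks 1 0 (-1) 1 * fromBlocks 1 1 0 1 * fromBlocks (-1) 0 0 1 := by
      simp [fromBlocks_multiply, fromBlocks_inj]
    rw [hS, det_reindex_self, e, det_mul, det_mul, det_mul, det_fromBlocks_zero₂₁, det_fromBlocks_zero₁₂,
      det_fromBlocks_zero₂₁]
    simp [det_neg]
  obtain ⟨U, hU⟩ : ∃ U : GL (Fin (2 + 2)) F, (U : Matrix (Fin (2 + 2)) (Fin (2 + 2)) F) = S :=
    ⟨GeneralLinearGroup.mkOfDetNeZero _ (by rw [hSd]; exact one_ne_zero), rfl⟩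
  have hUd : GeneralLinearGroup.det U = 1 := Units.ext (by
    show (U : Matrix (Fin (2 + 2)) (Fin (2 + 2)) F).det = 1
    rw [hU, hSd])
  have hPc : ∀ s : F, ∀ t : F, SimIn ⊥ (dsum !![s, 1; 0, s] !![t, 1; 0, t])
      (dsum !![s, -1; 0, s] !![t, -1; 0, t]) := fun s t => ⟨P, Subgroup.mem_bot.2 hPd, by
    rw [hP, dsum_mul, dsum_mul]
    congr 1 <;> ext i j <;> fin_cases i <;> fin_cases j <;> simp [mul_apply, Fin.sum_univ_two]⟩
  have hsw : SimIn ⊥ (dsum !![p, 1; 0, p] !![q, 1; 0, q]) (dsum !![q, 1; 0, q] !![p, 1; 0, p]) := by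
    refine ⟨U, Subgroup.mem_bot.2 hUd, ?_⟩
    rw [hU, hS, dsum, dsum, ← reindex_mul', ← reindex_mul', fromBlocks_multiply, fromBlocks_multiply]
    simp
  have e : (p ^ 2 * q ^ 2) • (1 : Matrix (Fin (2 + 2)) (Fin (2 + 2)) F) =
      dsum !![p, 1; 0, p] !![q, 1; 0, q] * (dsum !![p, -1; 0, p] !![q, -1; 0, q] *
        (dsum !![q, 1; 0, q] !![p, 1; 0, p] * dsum !![q, -1; 0, q] !![p, -1; 0, p])) := by
    rw [dsum_mul, dsum_mul, dsum_mul, ← dsum_smul_one]
    congr 1 <;> ext i j <;> fin_cases i <;> fin_cases j <;> simp [mul_apply, Fin.sum_univ_two] <;> ring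
  rw [e]
  exact (((cov_one (hsw.trans (hPc q p))).cons hsw).cons (hPc p q)).cons (SimIn.refl ⊥ _)

variable [Fintype F]

/-- The scalar as a product of multiples of a square zero unipotent. -/
theorem cov_sq_zero (h4 : 4 ≤ Fintype.card F) {n : ℕ} (hn : 2 ≤ n) (N : Matrix (Fin n) (Fin n) F)
    (hN : N * N = 0) (lam : F) : Cov ⊤ (lam • (1 + N)) n (lam ^ n • 1) := by
  classical
  obtain ⟨g, hg⟩ := (LinearMap.ker (Matrix.toLin' N)).subtype.exists_leftInverse_of_injective
    (Submodule.ker_subtype _)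
  obtain ⟨E, hE⟩ : ∃ E, E = LinearMap.toMatrix' ((LinearMap.ker (Matrix.toLin' N)).subtype ∘ₗ g) := ⟨_, rfl⟩
  have hgk : ∀ k : LinearMap.ker (Matrix.toLin' N), g k = k := fun k => LinearMap.congr_fun hg k
  have hEv : ∀ v, E *ᵥ v = (g v : Fin n → F) := fun v => by
    rw [hE, ← Matrix.toLin'_apply, Matrix.toLin'_toMatrix']
    rfl
  have hNE : N * E = 0 := Matrix.ext_of_mulVec_single fun j => by
    rw [← mulVec_mulVec, hEv, zero_mulVec, ← Matrix.toLin'_apply]
    exact LinearMap.mem_ker.1 (g _).2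
  have hEN : E * N = N := Matrix.ext_of_mulVec_single fun j => by
    have hk : N *ᵥ Pi.single j 1 ∈ LinearMap.ker (Matrix.toLin' N) := by
      rw [LinearMap.mem_ker, Matrix.toLin'_apply, mulVec_mulVec, hN, zero_mulVec]
    rw [← mulVec_mulVec, hEv]
    exact congrArg Subtype.val (hgk ⟨_, hk⟩)
  have hEE : E * E = E := Matrix.ext_of_mulVec_single fun j => by
    rw [← mulVec_mulVec, hEv, hEv]
    exact congrArg Subtype.val (hgk (g _))
  have hsim : ∀ c : F, c ≠ 0 → SimIn ⊤ (lam • (1 + N)) (lam • (1 + c • N)) := fun c hc => by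
    have hP : (1 + (c - 1) • E) * (1 + (c⁻¹ - 1) • E) = 1 := by
      simp only [Matrix.mul_add, Matrix.add_mul, Matrix.mul_smul, Matrix.smul_mul, Matrix.one_mul,
        Matrix.mul_one, hEE, smul_smul]
      match_scalars
      · ring
      · field_simp
        ring
    refine simIn_top_iff.2 ⟨1 + (c - 1) • E, fun e => ?_, ?_⟩
    · have := congrArg Matrix.det hP
      rw [det_mul, e, zero_mul, det_one] at this
      exact zero_ne_one this
    · simp only [Matrix.mul_smul, Matrix.smul_mul, Matrix.mul_add, Matrix.add_mul, Matrix.one_mul,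
        Matrix.mul_one, hEN, hNE, smul_zero, add_zero]
      module
  have hmul : ∀ c d : F, (lam • (1 + c • N)) * (lam • (1 + d • N)) = lam ^ 2 • (1 + (c + d) • N) :=
    fun c d => by
      simp only [Matrix.mul_smul, Matrix.smul_mul, Matrix.mul_add, Matrix.add_mul, Matrix.one_mul,
        Matrix.mul_one, hN, smul_zero, add_zero]
      module
  have h2 : Cov ⊤ (lam • (1 + N)) 2 (lam ^ 2 • 1) := by
    have e : lam ^ 2 • (1 : Matrix (Fin n) (Fin n) F) = (lam • (1 + (1 : F) • N)) * (lam • (1 + (-1 : F) • N)) := by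
      rw [hmul, add_neg_cancel, zero_smul, add_zero]
    rw [e]
    exact (cov_one (hsim _ (by simp))).cons (hsim _ one_ne_zero)
  have h3 : Cov ⊤ (lam • (1 + N)) 3 (lam ^ 3 • 1) := by
    obtain ⟨t, ht0, ht1⟩ : ∃ t : F, t ≠ 0 ∧ t ≠ -1 := by
      obtain ⟨t, -, ht⟩ := Finset.exists_mem_notMem_of_card_lt_card (s := ({0, -1} : Finset F))
        (t := Finset.univ) (by rw [Finset.card_univ]; exact lt_of_le_of_lt Finset.card_le_two (by omega))
      exact ⟨t, by simpa [not_or] using ht⟩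
    have e : lam ^ 3 • (1 : Matrix (Fin n) (Fin n) F) = (lam • (1 + (1 : F) • N)) *
        ((lam • (1 + t • N)) * (lam • (1 + (-(1 + t)) • N))) := by
      rw [hmul, Matrix.mul_smul, show t + -(1 + t) = (-1 : F) by ring, Matrix.smul_mul]
      simp only [Matrix.mul_add, Matrix.add_mul, Matrix.one_mul, Matrix.mul_one, Matrix.smul_mul,
        Matrix.mul_smul, hN, smul_zero, add_zero]
      module
    rw [e]
    exact ((cov_one (hsim _ fun e => ht1 (by linear_combination -e))).cons (hsim _ ht0)).cons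
      (hsim _ one_ne_zero)
  clear hmul
  have key : ∀ k, Cov ⊤ (lam • (1 + N)) (k + 2) (lam ^ (k + 2) • 1) := by
    intro k
    induction k using Nat.twoStepInduction with
    | zero => exact h2
    | one => exact h3
    | more k ih _ =>
      have := ih.mul h2
      rwa [Matrix.smul_mul, Matrix.one_mul, smul_smul, ← pow_add] at this
  obtain ⟨k, rfl⟩ : ∃ k, n = k + 2 := ⟨n - 2, by omega⟩
  exact key k

end CfsgLib.CoverPSL
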