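import Cfsg.Agent.CoverPSL.ThreeGL
import Mathlib.FieldTheory.ChevalleyWarning
import Mathlib.RingTheory.MvPolynomial.Homogeneous

/-!
# Three conjugates in `SL₃`

Up to cube roots of unity three `SL₃`-conjugates of a nonscalar matrix give everything.
-/

set_option autoImplicit false

namespace CfsgLib.CoverPSL.Three

open Matrix Polynomial CfsgLib.OreSL

variable {F : Type*} [Field F]

/-- Every nonzero determinant occurs in the centraliser. -/
def CenSurj (x : Matrix (Fin 3) (Fin 3) F) : Prop :=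
  ∀ u : F, u ≠ 0 → ∃ C : Matrix (Fin 3) (Fin 3) F, C * x = x * C ∧ C.det = u

theorem CenSurj.simIn {x y : Matrix (Fin 3) (Fin 3) F} (hx : CenSurj x) (h : Sim x y) : SimIn ⊥ x y := by
  refine SimIn.of_top (fun u => ?_) (simIn_top_iff.2 h)
  obtain ⟨C, hC, hd⟩ := hx (u : F)⁻¹ (inv_ne_zero u.ne_zero)
  have hd0 : C.det ≠ 0 := by rw [hd]; exact inv_ne_zero u.ne_zero
  refine ⟨GeneralLinearGroup.mkOfDetNeZero C hd0, hC, Subgroup.mem_bot.2 (Units.ext ?_)⟩
  show (u : F) * C.det = 1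
  rw [hd, mul_inv_cancel₀ u.ne_zero]

theorem CenSurj.of_sim {x y : Matrix (Fin 3) (Fin 3) F} (hx : CenSurj x) (h : Sim x y) : CenSurj y := by
  obtain ⟨Q, rfl⟩ := exists_conj_of_sim h
  intro u hu
  obtain ⟨C, hC, hd⟩ := hx u hu
  exact ⟨(Q : Matrix (Fin 3) (Fin 3) F) * C * ((Q⁻¹ : GL (Fin 3) F) : Matrix (Fin 3) (Fin 3) F),
    by rw [mul_conj, mul_conj, hC], by rw [Matrix.det_units_conj, hd]⟩

theorem CenSurj.of_cubes (h : Function.Surjective fun t : F => t ^ 3) (x : Matrix (Fin 3) (Fin 3) F) :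
    CenSurj x := fun u _ => by
  obtain ⟨t, ht⟩ := h u
  exact ⟨t • 1, by simp, by simpa [det_smul] using ht⟩

theorem CenSurj.simple_root {x : Matrix (Fin 3) (Fin 3) F} {r T D : F} (h : r ^ 2 - T * r + D ≠ 0)
    (hx : Sim (rootForm r T D) x) : CenSurj x := by
  refine CenSurj.of_sim (fun u _ => ?_) hx
  obtain ⟨φ, hφ⟩ : ∃ φ, φ = r ^ 2 - T * r + D := ⟨_, rfl⟩
  rw [← hφ] at h
  refine ⟨!![u, 0, 0; (u - 1) * ((r - T) / φ), 1, 0; (u - 1) / φ, 0, 1], ?_, by simp [det_fin_three]⟩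
  ext i j
  fin_cases i <;> fin_cases j <;>
    simp [rootForm, mul_apply, Fin.sum_univ_three] <;> field_simp <;>
    first | ring1 | linear_combination (1 - u) * hφ | linear_combination (u - 1) * hφ

variable [Fintype F]

theorem CenSurj.rankOne (h4 : 4 ≤ Fintype.card F) {σ : F} {a b : Fin 3 → F} (ha : a ≠ 0) (hb : b ≠ 0) :
    CenSurj (σ • (1 : Matrix (Fin 3) (Fin 3) F) + vecMulVec a b) := by
  refine CenSurj.of_sim (x := σ • 1 + vecMulVec ![0, 1, 0] ![1, b ⬝ᵥ a, 0]) (fun u _ => ?_)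
    (sim_rankOne h4 σ (fun e => by simpa using congrFun e 1) (fun e => by simpa using congrFun e 0) ha hb
      (by simp [dotProduct, Fin.sum_univ_three]))
  refine ⟨!![1, 0, 0; 0, 1, 0; 0, 0, u], ?_, by simp [det_fin_three]⟩
  ext i j
  fin_cases i <;> fin_cases j <;>
    simp [mul_apply, Fin.sum_univ_three, vecMulVec_apply, one_apply] <;> ring

open MvPolynomial in
theorem CenSurj.no_root {x : Matrix (Fin 3) (Fin 3) F} (h : ∀ r : F, x.charpoly.eval r ≠ 0) :
    CenSurj x := by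
  classical
  intro u hu
  obtain ⟨p, hp⟩ := CharP.exists F
  have := hp
  obtain ⟨Zp, hZp⟩ : ∃ Zp : Matrix (Fin 3) (Fin 3) (MvPolynomial (Fin 4) F),
      Zp = (MvPolynomial.X 0 : MvPolynomial (Fin 4) F) • (1 : Matrix (Fin 3) (Fin 3) (MvPolynomial (Fin 4) F)) +
        (MvPolynomial.X 1 : MvPolynomial (Fin 4) F) • (x.map fun t => (MvPolynomial.C t : MvPolynomial (Fin 4) F)) +
        (MvPolynomial.X 2 : MvPolynomial (Fin 4) F) • ((x * x).map fun t => (MvPolynomial.C t : MvPolynomial (Fin 4) F)) :=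
    ⟨_, rfl⟩
  have h1 : ∀ i j, (Zp i j).IsHomogeneous 1 := fun i j => by
    rw [hZp]
    simp only [Matrix.add_apply, Matrix.smul_apply, smul_eq_mul, Matrix.map_apply]
    refine ((IsHomogeneous.add ?_ ?_).add ?_)
    · by_cases e : i = j
      · rw [e, one_apply_eq, mul_one]; exact isHomogeneous_X F 0
      · rw [one_apply_ne e, mul_zero]; exact isHomogeneous_zero (Fin 4) F 1
    · rw [mul_comm]; exact (isHomogeneous_X F 1).C_mul _
    · rw [mul_comm]; exact (isHomogeneous_X F 2).C_mul _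
  have h3 : ∀ a b c d e f : Fin 3, (Zp a b * Zp c d * Zp e f).IsHomogeneous 3 := fun a b c d e f =>
    ((h1 a b).mul (h1 c d)).mul (h1 e f)
  obtain ⟨P, hP⟩ : ∃ P : MvPolynomial (Fin 4) F,
      P = Zp.det + MvPolynomial.C (-u) * (MvPolynomial.X 3) ^ 3 := ⟨_, rfl⟩
  have hh : P.IsHomogeneous 3 := by
    rw [hP, det_fin_three]
    exact (((((((h3 _ _ _ _ _ _).sub (h3 _ _ _ _ _ _)).sub (h3 _ _ _ _ _ _)).add (h3 _ _ _ _ _ _)).add
      (h3 _ _ _ _ _ _)).sub (h3 _ _ _ _ _ _))).add ((isHomogeneous_X_pow (3 : Fin 4) 3).C_mul _)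
  have hdeg : P.totalDegree < Fintype.card (Fin 4) := lt_of_le_of_lt hh.totalDegree_le (by simp)
  have hdvd := char_dvd_card_solutions p hdeg
  have heval : ∀ z : Fin 4 → F, MvPolynomial.eval z P =
      (z 0 • (1 : Matrix (Fin 3) (Fin 3) F) + z 1 • x + z 2 • (x * x)).det - u * z 3 ^ 3 := by
    intro z
    rw [hP, map_add, RingHom.map_det]
    have e : (MvPolynomial.eval z).mapMatrix Zp =
        z 0 • (1 : Matrix (Fin 3) (Fin 3) F) + z 1 • x + z 2 • (x * x) := by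
      rw [hZp]
      ext i j
      by_cases hij : i = j
      · subst hij; simp [Matrix.mul_apply, map_sum]
      · simp [hij, Matrix.mul_apply, map_sum]
    rw [e]
    simp [sub_eq_add_neg]
  obtain ⟨⟨z, hz⟩, hne⟩ : ∃ z : {z : Fin 4 → F // MvPolynomial.eval z P = 0}, z.1 ≠ 0 := by
    by_contra hc
    push Not at hc
    have h0 : MvPolynomial.eval (0 : Fin 4 → F) P = 0 := by rw [heval]; simp
    haveI : Subsingleton {z : Fin 4 → F // MvPolynomial.eval z P = 0} :=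
      ⟨fun a b => Subtype.ext ((hc a).trans (hc b).symm)⟩
    rw [Fintype.card_eq_one_iff.2 ⟨⟨0, h0⟩, fun a => Subsingleton.elim _ _⟩] at hdvd
    exact (CharP.char_is_prime F p).one_lt.ne' (Nat.dvd_one.1 hdvd)
  rw [heval, sub_eq_zero] at hz
  obtain ⟨Z, hZ⟩ : ∃ Z, Z = z 0 • (1 : Matrix (Fin 3) (Fin 3) F) + z 1 • x + z 2 • (x * x) := ⟨_, rfl⟩
  rw [← hZ] at hz
  have hcomm : Z * x = x * Z := by
    rw [hZ]
    simp only [Matrix.add_mul, Matrix.mul_add, Matrix.smul_mul, Matrix.mul_smul, Matrix.one_mul,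
      Matrix.mul_one, Matrix.mul_assoc]
  -- a singular combination vanishes
  have hinj : Z.det = 0 → z 0 = 0 ∧ z 1 = 0 ∧ z 2 = 0 := by
    intro hd
    obtain ⟨v, hv0, hv⟩ := Matrix.exists_mulVec_eq_zero_iff.mpr hd
    by_cases hk : (kry x v).det = 0
    · exfalso
      have hli : LinearIndependent F ![v, x *ᵥ v] := by
        rw [LinearIndependent.pair_iff]
        intro s t hst
        rcases eq_or_ne t 0 with rfl | ht
        · rw [zero_smul, add_zero, smul_eq_zero] at hst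
          exact ⟨hst.resolve_right hv0, rfl⟩
        · refine absurd (root_of_eigen hv0 (t := -s / t) ?_) (h _)
          rw [div_eq_inv_mul, mul_smul, eq_inv_smul_iff₀ ht]
          linear_combination (norm := module) hst
      obtain ⟨β, α, p', q, μ, Q, hQ, hQN⟩ := exists_form hli hk
      refine h μ ?_
      obtain ⟨h1, h2, h3⟩ := data_of_sim (A := !![0, β, p'; 1, α, q; 0, 0, μ]) (B := x) ⟨Q, hQ, hQN⟩
      rw [eval_charpoly_three, ← h1, ← h2, ← h3]
      simp [sec, trace_fin_three, det_fin_three]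
      ring
    · have e : kry x v *ᵥ ![z 0, z 1, z 2] = 0 := by
        rw [← hv, hZ]
        funext i
        simp only [add_mulVec, smul_mulVec, one_mulVec, ← mulVec_mulVec, Pi.add_apply, Pi.smul_apply,
          smul_eq_mul]
        simp only [mulVec_mulVec, kry]
        simp [mulVec, dotProduct, Fin.sum_univ_three, Matrix.mul_apply]
        ring
      by_contra hc
      refine hk (Matrix.exists_mulVec_eq_zero_iff.mp ⟨_, fun e0 => hc ?_, e⟩)
      exact ⟨by simpa using congrFun e0 0, by simpa using congrFun e0 1, by simpa using congrFun e0 2⟩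
  have hw : z 3 ≠ 0 := by
    intro e
    rw [e] at hz
    obtain ⟨e0, e1, e2⟩ := hinj (by simpa using hz)
    exact hne (funext fun i => by fin_cases i <;> assumption)
  refine ⟨(z 3)⁻¹ • Z, by rw [Matrix.smul_mul, Matrix.mul_smul, hcomm], ?_⟩
  rw [det_smul, hz, Fintype.card_fin]
  field_simp

omit [Fintype F] in
theorem not_simple_triple {T D r : F} (h : r ^ 2 - T * r + D = 0) (h2 : T - r = r) :
    r + T = 3 * r ∧ D + r * T = 3 * r ^ 2 ∧ r * D = r ^ 3 :=
  ⟨by linear_combination h2, by linear_combination h + 2 * r * h2,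
    by linear_combination r * h + r ^ 2 * h2⟩

/-- The centraliser of a cyclic matrix has every determinant unless there is a triple root. -/
theorem CenSurj.cyc {x : Matrix (Fin 3) (Fin 3) F} (hx : IsCyc x) (hx0 : x.det ≠ 0)
    (ht : ∀ c : F, ¬ (x.trace = 3 * c ∧ sec x = 3 * c ^ 2 ∧ x.det = c ^ 3)) : CenSurj x := by
  by_cases hr : ∃ r : F, x.charpoly.eval r = 0
  · obtain ⟨r, hr⟩ := hr
    have hr0 : r ≠ 0 := fun e => hx0 (by rw [e, eval_charpoly_three] at hr; linear_combination -hr)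
    obtain ⟨T, hT⟩ : ∃ T, T = x.trace - r := ⟨_, rfl⟩
    obtain ⟨D, hD⟩ : ∃ D, D = x.det / r := ⟨_, rfl⟩
    have hs := sim_rootForm hx hr0 hr
    rw [← hT, ← hD] at hs
    obtain ⟨-, hR1, hR2, hR3⟩ := rootForm_spec r T D
    by_cases hφ : r ^ 2 - T * r + D = 0
    · obtain ⟨s, hs'⟩ : ∃ s, s = T - r := ⟨_, rfl⟩
      obtain ⟨hd1, hd2, hd3⟩ := data_of_sim hs
      rw [hR1] at hd1
      rw [hR2] at hd2
      rw [hR3] at hd3
      have hne : s ≠ r := fun e => ht r (by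
        obtain ⟨e1, e2, e3⟩ := not_simple_triple hφ (hs' ▸ e)
        exact ⟨hd1.trans e1, hd2.trans e2, hd3.trans e3⟩)
      have hrs : r * s = D := by rw [hs']; linear_combination -hφ
      have hs0 : s ≠ 0 := fun e => hx0 (by rw [hd3, ← hrs, e, mul_zero, mul_zero])
      have hroot : x.charpoly.eval s = 0 := by
        rw [eval_charpoly_three, hd1, hd2, hd3, ← hrs, show T = r + s by rw [hs']; ring]
        ring
      refine CenSurj.simple_root ?_ (sim_rootForm hx hs0 hroot).symm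
      rw [hd1, hd3, ← hrs, show T = r + s by rw [hs']; ring]
      refine ne_of_eq_of_ne ?_ (pow_ne_zero 2 (sub_ne_zero.2 hne))
      field_simp
      ring
    · exact CenSurj.simple_root hφ hs.symm
  · exact CenSurj.no_root fun r e => hr ⟨r, e⟩

/-- Upper unitriangular. -/
def J3 (a b f : F) : Matrix (Fin 3) (Fin 3) F := !![1, a, f; 0, 1, b; 0, 0, 1]

/-- Lower unitriangular. -/
def L3 (z : F) : Matrix (Fin 3) (Fin 3) F := !![1, 0, 0; 1, 1, 0; z, 1, 1]

omit [Fintype F] in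
theorem simIn_J3 {a : F} (ha : a ≠ 0) (f : F) : SimIn ⊥ (J3 1 1 0) (J3 a a f) := by
  have hd : (!![a, f / a, 0; 0, 1, 0; 0, 0, a⁻¹] : Matrix (Fin 3) (Fin 3) F).det = 1 := by
    simp [det_fin_three, ha]
  refine ⟨GeneralLinearGroup.mkOfDetNeZero _ (by rw [hd]; exact one_ne_zero),
    Subgroup.mem_bot.2 (Units.ext hd), ?_⟩
  show !![a, f / a, 0; 0, 1, 0; 0, 0, a⁻¹] * J3 1 1 0 = J3 a a f * !![a, f / a, 0; 0, 1, 0; 0, 0, a⁻¹]
  ext i j
  fin_cases i <;> fin_cases j <;> simp [J3, mul_apply, Fin.sum_univ_three] <;> field_simp <;> ring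

omit [Fintype F] in
theorem simIn_L3 (z : F) : SimIn ⊥ (J3 1 1 0) (L3 z) := by
  have hd : (!![0, 0, -1; 0, -1, 0; -1, -z, 0] : Matrix (Fin 3) (Fin 3) F).det = 1 := by
    simp [det_fin_three]
  refine ⟨GeneralLinearGroup.mkOfDetNeZero _ (by rw [hd]; exact one_ne_zero),
    Subgroup.mem_bot.2 (Units.ext hd), ?_⟩
  show !![0, 0, -1; 0, -1, 0; -1, -z, 0] * J3 1 1 0 = L3 z * !![0, 0, -1; 0, -1, 0; -1, -z, 0]
  ext i j
  fin_cases i <;> fin_cases j <;> simp [J3, L3, mul_apply, Fin.sum_univ_three] <;> ring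

omit [Fintype F] in
theorem simIn_of_conj (Q R : GL (Fin 3) F) (hd : GeneralLinearGroup.det R = GeneralLinearGroup.det Q)
    (x : Matrix (Fin 3) (Fin 3) F) :
    SimIn ⊥ ((Q : Matrix (Fin 3) (Fin 3) F) * x * ((Q⁻¹ : GL (Fin 3) F) : Matrix (Fin 3) (Fin 3) F))
      ((R : Matrix (Fin 3) (Fin 3) F) * x * ((R⁻¹ : GL (Fin 3) F) : Matrix (Fin 3) (Fin 3) F)) := by
  refine ⟨R * Q⁻¹, Subgroup.mem_bot.2 (by rw [map_mul, map_inv, hd, mul_inv_cancel]), ?_⟩
  simp only [Units.val_mul, Matrix.mul_assoc]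
  rw [← Matrix.mul_assoc ((Q⁻¹ : GL (Fin 3) F) : Matrix (Fin 3) (Fin 3) F) (Q : Matrix (Fin 3) (Fin 3) F),
    ← Matrix.mul_assoc ((R⁻¹ : GL (Fin 3) F) : Matrix (Fin 3) (Fin 3) F) (R : Matrix (Fin 3) (Fin 3) F)]
  simp

omit [Fintype F] in
theorem cov_J3_sum {a b : F} (hb : b ≠ 0) (hab : a - 1 - b ≠ 0) (f : F) :
    Cov ⊥ (J3 1 1 0) 3 (J3 a a f) := by
  have e : J3 a a f = J3 1 1 0 *
      (J3 b b 0 * J3 (a - 1 - b) (a - 1 - b) (f - b - (1 + b) * (a - 1 - b))) := by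
    ext i j
    fin_cases i <;> fin_cases j <;> simp [J3, mul_apply, Fin.sum_univ_three] <;> ring
  rw [e]
  exact ((cov_one (simIn_J3 hab _)).cons (simIn_J3 hb _)).cons (SimIn.refl ⊥ _)

/-- A product of a conjugate of the unipotent and a member of a good class. -/
theorem cov_split {H g y h : Matrix (Fin 3) (Fin 3) F} (hH : Cov ⊥ (J3 1 1 0) 2 H) (hHc : CenSurj H)
    (hgc : CenSurj g) (hy : Sim (J3 1 1 0) y) (hh : Sim H h) (e : g = y * h) :
    Cov ⊥ (J3 1 1 0) 3 g := by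
  obtain ⟨Q, rfl⟩ := exists_conj_of_sim hy
  have s1 : Sim g (((Q⁻¹ : GL (Fin 3) F) : Matrix (Fin 3) (Fin 3) F) * g * (Q : Matrix (Fin 3) (Fin 3) F)) := by
    simpa using simIn_top_iff.1 (SimIn.conj Q⁻¹ (Subgroup.mem_top _) g)
  have s2 : Sim H (((Q⁻¹ : GL (Fin 3) F) : Matrix (Fin 3) (Fin 3) F) * h * (Q : Matrix (Fin 3) (Fin 3) F)) :=
    hh.trans (by simpa using simIn_top_iff.1 (SimIn.conj Q⁻¹ (Subgroup.mem_top _) h))
  refine Cov.conj ?_ (hgc.simIn s1).symm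
  have e' : ((Q⁻¹ : GL (Fin 3) F) : Matrix (Fin 3) (Fin 3) F) * g * (Q : Matrix (Fin 3) (Fin 3) F) =
      J3 1 1 0 * (((Q⁻¹ : GL (Fin 3) F) : Matrix (Fin 3) (Fin 3) F) * h * (Q : Matrix (Fin 3) (Fin 3) F)) := by
    rw [e]
    simp only [Matrix.mul_assoc]
    rw [← Matrix.mul_assoc ((Q⁻¹ : GL (Fin 3) F) : Matrix (Fin 3) (Fin 3) F) (Q : Matrix (Fin 3) (Fin 3) F),
      Units.inv_mul, Matrix.one_mul]
  rw [e']
  exact (hH.conj (hHc.simIn s2)).cons (SimIn.refl ⊥ _)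

omit [Fintype F] in
theorem J3_spec {a b : F} (ha : a ≠ 0) (hb : b ≠ 0) (f : F) : IsCyc (J3 a b f) ∧ (J3 a b f).trace = 3 ∧
    sec (J3 a b f) = 3 ∧ (J3 a b f).det = 1 := by
  refine ⟨isCyc_of_kry ![0, 0, 1] ?_, ?_, ?_, ?_⟩
  · refine ne_of_eq_of_ne ?_ (mul_ne_zero (mul_ne_zero ha hb) hb |> neg_ne_zero.2)
    simp [kry, J3, det_fin_three, dotProduct, Fin.sum_univ_three]
    ring
  · simp [J3, trace_fin_three]
    ring
  · simp [J3, sec]
    ring
  · simp [J3, det_fin_three]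

/-- The case of a regular unipotent. -/
theorem sl3_unip (h4 : 4 ≤ Fintype.card F) {ω : F} (hω : ω ^ 3 = 1) (hω1 : ω ≠ 1)
    (g : Matrix (Fin 3) (Fin 3) F) (hg : g.det = 1) :
    ∃ c : F, c ^ 3 = 1 ∧ Cov ⊥ (J3 1 1 0) 3 (c • g) := by
  classical
  have h3 : (3 : F) ≠ 0 := fun e => hω1 (sub_eq_zero.mp (eq_zero_of_pow_eq_zero (n := 3)
    (show (ω - 1) ^ 3 = 0 by linear_combination hω - (ω ^ 2 - ω) * e)))
  have hd1 : ∀ c : F, c ^ 3 = 1 → (c • g).det = 1 := fun c hc => by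
    rw [det_smul, hg, Fintype.card_fin, hc, mul_one]
  by_cases hs : ∃ s : F, g = s • 1
  · obtain ⟨s, rfl⟩ := hs
    rw [det_smul, det_one, mul_one, Fintype.card_fin] at hg
    have hs0 : s ≠ 0 := fun e => by rw [e] at hg; simp at hg
    obtain ⟨b, hb0, hb1⟩ := exists_two h4 (-1)
    refine ⟨s⁻¹, by rw [inv_pow, hg, inv_one], ?_⟩
    have e : J3 (0 : F) 0 0 = s⁻¹ • (s • 1) := by
      rw [inv_smul_smul₀ hs0]
      ext i j
      fin_cases i <;> fin_cases j <;> simp [J3]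
    rw [← e]
    exact cov_J3_sum hb0 (fun e0 => hb1 (by linear_combination -e0)) 0
  push Not at hs
  -- the good class
  obtain ⟨z, hz2, hzc⟩ : ∃ z : F, 4 + z - z ^ 2 ≠ 2 ∧ IsCyc (L3 z * J3 1 1 (1 - z)) := by
    by_cases h2 : (2 : F) = 0
    · obtain ⟨z, hz0, hz1⟩ := exists_two h4 (1 : F)
      refine ⟨z, fun e => hz1 ?_, isCyc_of_kry ![0, 1, 0] ?_⟩
      · have : z * (z - 1) = 0 := by linear_combination -e + h2
        exact sub_eq_zero.mp ((mul_eq_zero.mp this).resolve_left hz0)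
      · refine ne_of_eq_of_ne ?_ (neg_ne_zero.2 (pow_ne_zero 2 hz0))
        simp [kry, L3, J3, det_fin_three, dotProduct, Fin.sum_univ_three]
        ring_nf
        first | done | linear_combination (-z) * h2 | linear_combination z * h2
    · refine ⟨0, fun e => h2 (by linear_combination e), isCyc_of_kry ![1, 0, 0] ?_⟩
      simp [kry, L3, J3, det_fin_three, dotProduct, Fin.sum_univ_three]
  obtain ⟨T, hT⟩ : ∃ T, T = 4 + z - z ^ 2 := ⟨_, rfl⟩
  obtain ⟨hRc, hR1, hR2, hR3⟩ := rootForm_spec (1 : F) T 1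
  have hsimH : Sim (L3 z * J3 1 1 (1 - z)) (rootForm 1 T 1) := sim_of_data hzc hRc
    (by rw [hR1, hT]; simp [L3, J3, trace_fin_three, mul_apply, Fin.sum_univ_three]; ring)
    (by rw [hR2, hT]; simp [L3, J3, sec, mul_apply, Fin.sum_univ_three]; ring)
    (by rw [hR3, det_mul]; simp [L3, J3, det_fin_three])
  have hHc : CenSurj (L3 z * J3 1 1 (1 - z)) :=
    CenSurj.simple_root (fun e => hz2 (by rw [← hT]; linear_combination -e)) hsimH.symm
  have hH : Cov ⊥ (J3 1 1 0) 2 (L3 z * J3 1 1 (1 - z)) :=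
    (cov_one (simIn_J3 one_ne_zero _)).cons (simIn_L3 _)
  obtain ⟨hUc, hUt, hU2, hU3⟩ := J3_spec (one_ne_zero (α := F)) one_ne_zero 0
  have hU0 : (J3 (1 : F) 1 0).det ≠ 0 := by rw [hU3]; exact one_ne_zero
  rcases cyc_or_rankOne hs with hc | ⟨σ, a, b, ha, hb, rfl⟩
  swap
  · obtain ⟨c, hc3, hcT⟩ : ∃ c : F, c ^ 3 = 1 ∧ c * σ * (1 + T) ≠ 3 := by
      by_cases h : σ * (1 + T) = 3
      · refine ⟨ω, hω, fun e => ?_⟩
        have : (ω - 1) * 3 = 0 := by linear_combination e - ω * h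
        exact (mul_eq_zero.mp this).elim (fun e => hω1 (sub_eq_zero.mp e)) h3
      · exact ⟨1, one_pow _, by simpa using h⟩
    have hc0 : c ≠ 0 := fun e => by rw [e] at hc3; simp at hc3
    refine ⟨c, hc3, ?_⟩
    have e : c • (σ • (1 : Matrix (Fin 3) (Fin 3) F) + vecMulVec a b) =
        (c * σ) • 1 + vecMulVec (c • a) b := by
      rw [smul_add, smul_smul, smul_vecMulVec]
    have hd := hd1 c hc3
    rw [e] at hd ⊢
    obtain ⟨y, h, hy, hh, he⟩ := split_rankOne h4 hUc hU0 (smul_ne_zero hc0 ha) hb (D := 1) one_ne_zero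
      (by rw [hd, hU3, one_mul]) (T := T) (by rw [hUt, div_one]; exact hcT)
    exact cov_split hH hHc (CenSurj.rankOne h4 (smul_ne_zero hc0 ha) hb) hy (hsimH.trans hh) he
  by_cases ht : ∀ c : F, ¬ (g.trace = 3 * c ∧ sec g = 3 * c ^ 2 ∧ g.det = c ^ 3)
  · refine ⟨1, one_pow _, ?_⟩
    rw [one_smul]
    obtain ⟨y, h, hy, hh, he⟩ := split_cyc h4 hUc hU0 hc (D := 1) (by rw [hg, hU3, one_mul]) T
    exact cov_split hH hHc (CenSurj.cyc hc (by rw [hg]; exact one_ne_zero) ht) hy (hsimH.trans hh) he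
  push Not at ht
  obtain ⟨c, hct, hcs, hcd⟩ := ht
  have hc3 : c ^ 3 = 1 := hcd.symm.trans hg
  have hc0 : c ≠ 0 := fun e => by rw [e] at hc3; simp at hc3
  refine ⟨c⁻¹, by rw [inv_pow, hc3, inv_one], ?_⟩
  have hsim : Sim (J3 1 1 0) (c⁻¹ • g) := by
    refine sim_of_data hUc (isCyc_smul (inv_ne_zero hc0) hc) ?_ ?_ ?_
    · rw [hUt, trace_smul, hct, smul_eq_mul]; field_simp
    · rw [hU2]
      have e : sec (c⁻¹ • g) = c⁻¹ ^ 2 * sec g := by simp [sec]; ring
      rw [e, hcs]; field_simp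
    · rw [hU3, hd1 _ (by rw [inv_pow, hc3, inv_one])]
  obtain ⟨R, hR⟩ := exists_conj_of_sim hsim
  obtain ⟨e, he⟩ : ∃ e : F, e = (R : Matrix (Fin 3) (Fin 3) F).det := ⟨_, rfl⟩
  have he0 : e ≠ 0 := he ▸ ((Matrix.isUnit_iff_isUnit_det _).mp R.isUnit).ne_zero
  suffices h : ∃ f, Cov ⊥ (J3 1 1 0) 3 (J3 e 1 f) by
    obtain ⟨f, hf⟩ := h
    refine hf.conj ?_
    obtain ⟨P, hP⟩ : ∃ P : GL (Fin 3) F, (P : Matrix (Fin 3) (Fin 3) F) = !![e, f, 0; 0, 1, 0; 0, 0, 1] :=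
      ⟨GeneralLinearGroup.mkOfDetNeZero _ (by simpa [det_fin_three] using he0), rfl⟩
    have hPJ : (P : Matrix (Fin 3) (Fin 3) F) * J3 1 1 0 * ((P⁻¹ : GL (Fin 3) F) : Matrix (Fin 3) (Fin 3) F) =
        J3 e 1 f := by
      rw [Units.mul_inv_eq_iff_eq_mul, hP]
      ext i j
      fin_cases i <;> fin_cases j <;> simp [J3, mul_apply, Fin.sum_univ_three] <;> ring
    rw [← hPJ, hR]
    refine simIn_of_conj P R (Units.ext ?_) _
    show (R : Matrix (Fin 3) (Fin 3) F).det = (P : Matrix (Fin 3) (Fin 3) F).det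
    rw [hP, ← he]
    simp [det_fin_three]
  by_cases he1 : e = 1
  · subst he1
    exact ⟨0, cov_J3_sum (a := 1) (b := 1) one_ne_zero (by simp) 0⟩
  -- two candidates for the second factor
  obtain ⟨z, f, hk, htr, hWc⟩ : ∃ z f : F, (z - 1) * (f - 1) = -3 - e ∧
      (∀ c : F, ¬ (5 + z * f = 3 * c ∧ 2 - e = 3 * c ^ 2 ∧ 1 = c ^ 3)) ∧ IsCyc (L3 z * J3 1 1 f) := by
    by_cases h0 : ∃ c : F, 5 = 3 * c ∧ 2 - e = 3 * c ^ 2 ∧ 1 = c ^ 3
    · refine ⟨2, -2 - e, by ring, ?_, isCyc_of_kry ![1, 0, 0] ?_⟩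
      · rintro d ⟨d1, d2, d3⟩
        obtain ⟨c, c1, c2, c3⟩ := h0
        have hsq : d ^ 2 = c ^ 2 := mul_left_cancel₀ h3 (d2.symm.trans c2)
        have hdc : d = c := by
          have hd0 : d ^ 2 ≠ 0 := fun e => by
            have : d = 0 := eq_zero_of_pow_eq_zero e
            rw [this] at d3; simp at d3
          refine mul_left_cancel₀ hd0 ?_
          calc d ^ 2 * d = c ^ 3 := by rw [← c3, d3]; ring
            _ = d ^ 2 * c := by rw [hsq]; ring
        rw [hdc, ← c1] at d1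
        have he2 : 2 * (e + 2) = 0 := by linear_combination -d1
        rcases mul_eq_zero.mp he2 with h2 | h2
        · have hc1 : c = 1 := by linear_combination -c1 + (2 - c) * h2
          rw [hc1] at c2
          exact he1 (by linear_combination -c2 - h2)
        · have h13 : (13 : F) = 0 := by linear_combination (5 + 3 * c) * c1 - 3 * c2 - 3 * h2
          have h98 : (98 : F) = 0 := by linear_combination (25 + 15 * c + 9 * c ^ 2) * c1 - 27 * c3
          have h7 : (7 : F) = 0 := by linear_combination h98 - 7 * h13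
          exact one_ne_zero (α := F) (by linear_combination 2 * h7 - h13)
      · refine ne_of_eq_of_ne ?_ (neg_ne_zero.2 (one_ne_zero (α := F)))
        simp [kry, L3, J3, det_fin_three, dotProduct, Fin.sum_univ_three]
        ring
    · push Not at h0
      refine ⟨0, 4 + e, by ring, fun d ⟨d1, d2, d3⟩ => h0 d (by linear_combination d1) d2 d3,
        isCyc_of_kry ![1, 0, 0] ?_⟩
      simp [kry, L3, J3, det_fin_three, dotProduct, Fin.sum_univ_three]
  have hWt : (L3 z * J3 1 1 f).trace = 5 + z * f := by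
    simp [L3, J3, trace_fin_three, mul_apply, Fin.sum_univ_three]; ring
  have hW2 : sec (L3 z * J3 1 1 f) = 2 - e := by
    simp [L3, J3, sec, mul_apply, Fin.sum_univ_three]; linear_combination hk
  have hW3 : (L3 z * J3 1 1 f).det = 1 := by rw [det_mul]; simp [L3, J3, det_fin_three]
  have hWs : CenSurj (L3 z * J3 1 1 f) :=
    CenSurj.cyc hWc (by rw [hW3]; exact one_ne_zero) (by rw [hWt, hW2, hW3]; exact htr)
  obtain ⟨f', hf'⟩ : ∃ f', f' = 5 + z * f - 2 + e := ⟨_, rfl⟩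
  obtain ⟨h, hh⟩ : ∃ h : Matrix (Fin 3) (Fin 3) F,
      h = !![1, e, f'; -1, 1 - e, 1 - f'; 1, e - 1, f'] := ⟨_, rfl⟩
  have hsimh : Sim (L3 z * J3 1 1 f) h := by
    refine sim_of_data hWc (isCyc_of_kry ![1, 0, 0] ?_) ?_ ?_ ?_
    · rw [hh]
      refine ne_of_eq_of_ne ?_ (neg_ne_zero.2 (one_ne_zero (α := F)))
      simp [kry, det_fin_three, dotProduct, Fin.sum_univ_three]
      ring
    · rw [hWt, hh, hf']; simp [trace_fin_three]; ring
    · rw [hW2, hh]; simp [sec]; ring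
    · rw [hW3, hh]; simp [det_fin_three]; ring
  refine ⟨f', ?_⟩
  have e0 : J3 e 1 f' = L3 0 * h := by
    rw [hh]
    ext i j
    fin_cases i <;> fin_cases j <;> simp [J3, L3, mul_apply, Fin.sum_univ_three]
  rw [e0]
  exact (((cov_one (simIn_J3 one_ne_zero f)).cons (simIn_L3 z)).conj (hWs.simIn hsimh)).cons (simIn_L3 0)

theorem cov_of_cenSurj {x : Matrix (Fin 3) (Fin 3) F} (hx : CenSurj x) {k : ℕ}
    {g : Matrix (Fin 3) (Fin 3) F} (h : Cov ⊤ x k g) : Cov ⊥ x k g := by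
  induction k generalizing g with
  | zero => exact h
  | succ k ih =>
    obtain ⟨y, r, hy, hr, e⟩ := h
    exact ⟨y, r, hx.simIn (simIn_top_iff.1 hy), ih hr, e⟩

omit [Fintype F] in
theorem simIn_smul {x y : Matrix (Fin 3) (Fin 3) F} (r : F) (h : SimIn ⊥ x y) :
    SimIn ⊥ (r • x) (r • y) := by
  obtain ⟨P, hP, e⟩ := h
  exact ⟨P, hP, by rw [Matrix.mul_smul, Matrix.smul_mul, e]⟩

omit [Fintype F] in
theorem cov_smul {x g : Matrix (Fin 3) (Fin 3) F} (r : F) {k : ℕ} (h : Cov ⊥ x k g) :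
    Cov ⊥ (r • x) k (r ^ k • g) := by
  induction k generalizing g with
  | zero => rw [show g = 1 from h, pow_zero, one_smul]; exact cov_zero
  | succ k ih =>
    obtain ⟨y, s, hy, hs, rfl⟩ := h
    refine ⟨_, _, simIn_smul r hy, ih hs, ?_⟩
    rw [Matrix.smul_mul, Matrix.mul_smul, smul_smul, ← pow_succ']

omit [Fintype F] in
theorem cov_conj_base (R : GL (Fin 3) F) {x g : Matrix (Fin 3) (Fin 3) F} {k : ℕ} (h : Cov ⊥ x k g) :
    Cov ⊥ ((R : Matrix (Fin 3) (Fin 3) F) * x * ((R⁻¹ : GL (Fin 3) F) : Matrix (Fin 3) (Fin 3) F)) k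
      ((R : Matrix (Fin 3) (Fin 3) F) * g * ((R⁻¹ : GL (Fin 3) F) : Matrix (Fin 3) (Fin 3) F)) := by
  induction k generalizing g with
  | zero => rw [show g = 1 from h, Matrix.mul_one, Units.mul_inv]; exact cov_zero
  | succ k ih =>
    obtain ⟨y, s, hy, hs, rfl⟩ := h
    obtain ⟨P, hP, rfl⟩ := hy.eq_conj
    refine ⟨_, _, ?_, ih hs, (mul_conj R _ _).symm⟩
    have := simIn_of_conj R (R * P) (by rw [map_mul, Subgroup.mem_bot.1 hP, mul_one]) x
    simpa [Matrix.mul_assoc] using this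

end CfsgLib.CoverPSL.Three

namespace CfsgLib.CoverPSL

open Matrix CfsgLib.OreSL Three

variable {F : Type*} [Field F] [Fintype F]

/-- Three conjugates in `SL₃` give everything up to scalars. -/
theorem sl3 (h4 : 4 ≤ Fintype.card F) (x : Matrix (Fin 3) (Fin 3) F) (hx : ∀ c : F, x ≠ c • 1)
    (hx1 : x.det = 1) (g : Matrix (Fin 3) (Fin 3) F) (hg : g.det = 1) :
    ∃ c : F, c ^ 3 = 1 ∧ Cov ⊥ x 3 (c • g) := by
  have hx0 : x.det ≠ 0 := by rw [hx1]; exact one_ne_zero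
  have easy : CenSurj x → ∃ c : F, c ^ 3 = 1 ∧ Cov ⊥ x 3 (c • g) := by
    intro hc
    by_cases hs : ∃ s : F, g = s • 1
    · obtain ⟨s, rfl⟩ := hs
      rw [det_smul, det_one, mul_one, Fintype.card_fin] at hg
      have hs0 : s ≠ 0 := fun e => by rw [e] at hg; simp at hg
      refine ⟨s⁻¹, by rw [inv_pow, hg, inv_one], cov_of_cenSurj hc ?_⟩
      rw [inv_smul_smul₀ hs0]
      simpa [hx1] using gl3_scalar h4 x hx hx0
    · push Not at hs
      refine ⟨1, one_pow _, cov_of_cenSurj hc ?_⟩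
      rw [one_smul]
      exact gl3_nonscalar h4 x g hx hx0 hs (by rw [hg, hx1, one_pow])
  by_cases hcub : Function.Surjective fun t : F => t ^ 3
  · exact easy (CenSurj.of_cubes hcub x)
  obtain ⟨ω, hω, hω1⟩ : ∃ ω : F, ω ^ 3 = 1 ∧ ω ≠ 1 := by
    by_contra hc
    push Not at hc
    refine hcub (Finite.injective_iff_surjective.1 fun a b (hab : a ^ 3 = b ^ 3) => ?_)
    rcases eq_or_ne b 0 with rfl | hb
    · exact eq_zero_of_pow_eq_zero (n := 3) (by simpa using hab)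
    · have := hc (a / b) (by rw [div_pow, hab, div_self (pow_ne_zero 3 hb)])
      rwa [div_eq_one_iff_eq hb] at this
  rcases cyc_or_rankOne hx with hc | ⟨σ, a, b, ha, hb, e⟩
  swap
  · exact easy (e ▸ CenSurj.rankOne h4 ha hb)
  by_cases ht : ∀ c : F, ¬ (x.trace = 3 * c ∧ sec x = 3 * c ^ 2 ∧ x.det = c ^ 3)
  · exact easy (CenSurj.cyc hc hx0 ht)
  push Not at ht
  obtain ⟨r, h1, h2, h3⟩ := ht
  have hr3 : r ^ 3 = 1 := h3.symm.trans hx1
  have hr0 : r ≠ 0 := fun e => by rw [e] at hr3; simp at hr3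
  obtain ⟨hUc, hUt, hU2, hU3⟩ := J3_spec (one_ne_zero (α := F)) one_ne_zero 0
  have hsim : Sim (r • J3 1 1 0) x := by
    refine sim_of_data (isCyc_smul hr0 hUc) hc ?_ ?_ ?_
    · rw [trace_smul, hUt, h1, smul_eq_mul]; ring
    · rw [h2]
      simp [sec, J3]
      ring
    · rw [det_smul, hU3, h3, Fintype.card_fin, mul_one]
  obtain ⟨R, rfl⟩ := exists_conj_of_sim hsim
  obtain ⟨c, hc3, hcov⟩ := sl3_unip h4 hω hω1
    (((R⁻¹ : GL (Fin 3) F) : Matrix (Fin 3) (Fin 3) F) * g * (R : Matrix (Fin 3) (Fin 3) F))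
    (by rw [Matrix.det_units_conj', hg])
  refine ⟨c, hc3, ?_⟩
  have := cov_conj_base R (cov_smul r hcov)
  rw [hr3, one_smul] at this
  convert this using 2
  simp only [Matrix.mul_smul, Matrix.smul_mul, ← Matrix.mul_assoc, Units.mul_inv, Matrix.one_mul]
  simp [Matrix.mul_assoc]

end CfsgLib.CoverPSL
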