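import Cfsg.Agent.CoverPSL.Chain
import Cfsg.Agent.CoverPSL.Three
import Cfsg.Agent.CoverPSL.Shift
import Mathlib.LinearAlgebra.Matrix.ProjectiveSpecialLinearGroup

/-!
# The covering number of `PSL_n`, upper bound

The statement for `GL_n` is assumed; the passage to `SL_n` needs the determinants of the centraliser.
-/

set_option autoImplicit false

namespace CfsgLib.CoverPSL

open Matrix Polynomial CfsgLib.OreSL

variable {F : Type*} [Field F] {n N : ℕ}

/-- A single conjugator moves both the base and the product. -/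
theorem Cov.conj_both (Q : GL (Fin n) F) {x g : Matrix (Fin n) (Fin n) F} {k : ℕ} (h : Cov ⊥ x k g) :
    Cov ⊥ ((Q : Matrix (Fin n) (Fin n) F) * x * ((Q⁻¹ : GL (Fin n) F) : Matrix (Fin n) (Fin n) F)) k
      ((Q : Matrix (Fin n) (Fin n) F) * g * ((Q⁻¹ : GL (Fin n) F) : Matrix (Fin n) (Fin n) F)) := by
  induction k generalizing g with
  | zero => rw [show g = 1 from h, Matrix.mul_one, Units.mul_inv]; exact cov_zero
  | succ k ih =>
    obtain ⟨y, s, ⟨P, hP, e⟩, hs, rfl⟩ := h
    refine ⟨_, _, ⟨Q * P * Q⁻¹, ?_, ?_⟩, ih hs, (mul_conj Q y s).symm⟩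
    · rwa [map_mul, map_mul, map_inv, mul_comm (GeneralLinearGroup.det Q), mul_inv_cancel_right]
    · simp only [Units.val_mul]
      rw [mul_conj, mul_conj, e]

theorem cov_scalar_of_sim {x z : Matrix (Fin n) (Fin n) F} (h : Sim z x) {k : ℕ}
    (hz : Cov ⊥ z k 1) : Cov ⊥ x k 1 := by
  obtain ⟨Q, rfl⟩ := exists_conj_of_sim h
  simpa only [Matrix.mul_one, Units.mul_inv] using hz.conj_both Q

/-- A block of size one contributes every determinant. -/
theorem centDet_top_of_size_one {B : Fin N → Blk F} {x : Matrix (Fin n) (Fin n) F}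
    (h : SimRep B Finset.univ x) {i : Fin N} (hi : (B i).m = 0) : centDet x = ⊤ := by
  refine eq_top_iff.2 fun u _ => h.centDet_le i ?_
  have := pow_card_mem_centDet (x := (B i).mat) u
  have e : u ^ ((B i).m + 1) = u := by rw [hi, zero_add, pow_one]
  rwa [Fintype.card_fin, e] at this

variable [Fintype F]

/-- A two dimensional block with an eigenvalue is a Jordan block. -/
theorem exists_jordan_two (z : Matrix (Fin 2) (Fin 2) F) (hc : IsCyc z) (hone : OneRoot z) {p : F}
    (hp : z.charpoly.eval p = 0) : Sim !![p, 1; 0, p] z := by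
  have h1 : z.charpoly.eval p = p ^ 2 - z.trace * p + z.det := by
    rw [charpoly_fin_two]
    simp
  have hT : z.trace = 2 * p := by
    have := hone p (z.trace - p) hp (by
      rw [charpoly_fin_two]
      simp
      linear_combination h1.symm.trans hp)
    linear_combination -this
  refine sim_of_trace_det (fun c e => ?_) (IsCyc.ne_scalar le_rfl hc) ?_ ?_
  · have := congrArg (fun A : Matrix (Fin 2) (Fin 2) F => A 0 1) e
    simp at this
  · simp [trace_fin_two, hT]
    ring
  · rw [h1, hT] at hp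
    rw [det_fin_two_of]
    linear_combination -hp

/-- The identity in four conjugates when there is no one dimensional block. -/
theorem cov_four_one (h4 : 4 ≤ Fintype.card F) {x : Matrix (Fin 4) (Fin 4) F} (hx1 : x.det = 1)
    (hG : centDet x ≠ ⊤) : Cov ⊥ x 4 1 := by
  classical
  have hx0 : x.det ≠ 0 := by rw [hx1]; exact one_ne_zero
  obtain ⟨M, B, hrep, hB⟩ := exists_simRep x
  have hm : ∀ i, 1 ≤ (B i).m := fun i => by
    by_contra h
    exact hG (centDet_top_of_size_one hrep (i := i) (by omega))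
  have hsum := hrep.sizes
  rw [Fintype.card_fin] at hsum
  obtain ⟨i₀⟩ : Nonempty (Fin M) := by
    by_contra h
    rw [not_nonempty_iff] at h
    rw [Finset.sum_of_isEmpty] at hsum
    omega
  by_cases hone : ∀ i, i = i₀
  · -- one block
    have hu : (Finset.univ : Finset (Fin M)) = {i₀} :=
      Finset.eq_singleton_iff_unique_mem.2 ⟨Finset.mem_univ _, fun i _ => hone i⟩
    rw [hu, Finset.sum_singleton] at hsum
    have hR := simRep_singleton B i₀
    rw [← hu] at hR
    obtain ⟨hor, -⟩ := hB i₀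
    generalize B i₀ = A at hsum hR hor
    obtain ⟨m, z, hc⟩ := A
    simp only at hsum hR hor
    obtain rfl : m = 3 := by omega
    change Matrix (Fin (1 + 3)) (Fin (1 + 3)) F at z
    change IsCyc (m := 1 + 3) z at hc
    have hs : Sim z x := hR.sim hrep
    have hz1 : z.det = 1 := hs.det_eq.trans hx1
    obtain ⟨a, ha0, ha1, ha2⟩ := exists_ne_three h4 0 1 (-1)
    have hai : a ≠ a⁻¹ := fun e => by
      have h : (a - 1) * (a + 1) = 0 := by
        field_simp at e
        linear_combination e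
      rcases mul_eq_zero.mp h with h | h
      exacts [ha1 (sub_eq_zero.mp h), ha2 (eq_neg_of_add_eq_zero_left h)]
    have hai1 : a⁻¹ ≠ 1 := fun e => ha1 (inv_eq_one.mp e)
    obtain ⟨t, ht⟩ : ∃ t : Fin (1 + 3) → F, t = ![a, a⁻¹, 1, 1] := ⟨_, rfl⟩
    have hg : Grouped t := by
      intro i j hij e h
      rw [ht] at e ⊢
      fin_cases i <;> fin_cases j <;> simp_all
    have hsimple : ∀ j, t j = t 0 → j = 0 := fun j hj => by
      rw [ht] at hj
      fin_cases j <;> simp_all
    obtain ⟨r₀, hpair⟩ := block_pair h4 (k := 1) z hc (by rw [hz1]; exact one_ne_zero) hor t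
      (fun i => by rw [ht]; fin_cases i <;> simp [ha0]) hg (by rw [ht, hz1, Fin.prod_univ_four]; simp [ha0])
    have hSq : Sq ⊥ Set.univ z t := fun r => by
      obtain ⟨P, hP, hM, -⟩ := hpair r⁻¹ (Or.inr (by rw [ht]; exact ⟨by simpa using hai, by simpa using hai1⟩))
      exact ⟨P, Subgroup.mem_bot.2 (by rw [hP, mul_inv_cancel]), hM, leftIn_univ _ _⟩
    have := cov_four_scalar hSq (Or.inr ⟨0, hsimple⟩) (one_ne_zero (α := F))
      (fun i => by rw [ht]; fin_cases i <;> simp [ha0]) (Equiv.swap 0 1) (fun i => by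
        rw [ht]
        fin_cases i <;> simp [Equiv.swap_apply_def, ha0])
    rw [one_smul] at this
    exact cov_scalar_of_sim hs this
  · -- two blocks
    push Not at hone
    obtain ⟨i₁, hne⟩ := hone
    have hu : (Finset.univ : Finset (Fin M)) = {i₁} ∪ {i₀} := by
      refine (Finset.eq_univ_iff_forall.2 fun i => ?_).symm
      by_contra hi
      simp only [Finset.mem_union, Finset.mem_singleton, not_or] at hi
      have := Finset.sum_le_sum_of_subset (f := fun i => (B i).m + 1)
        (Finset.subset_univ ({i₁, i₀, i} : Finset (Fin M)))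
      rw [Finset.sum_insert (by simp [hne, Ne.symm hi.1]), Finset.sum_insert (by simp [Ne.symm hi.2]),
        Finset.sum_singleton, ← hsum] at this
      have := hm i₁
      have := hm i₀
      have := hm i
      omega
    rw [hu, Finset.sum_union (Finset.disjoint_singleton.mpr hne), Finset.sum_singleton,
      Finset.sum_singleton] at hsum
    have hR := (simRep_singleton B i₁).union (Finset.disjoint_singleton.mpr hne) (simRep_singleton B i₀)
    rw [← hu] at hR
    have hroot : ∀ i, (B i).m = 1 → ∃ l, (B i).mat.charpoly.eval l = 0 := by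
      intro i hi
      have hle := hrep.centDet_le i
      generalize hA : B i = A at hi hle
      obtain ⟨m, z, hc⟩ := A
      simp only at hi
      subst hi
      by_contra hroot
      push Not at hroot
      refine hG (eq_top_iff.2 ?_)
      rw [← centDet_irred z hroot]
      exact hle
    have h1 : (B i₁).m = 1 := by have := hm i₁; have := hm i₀; omega
    have h0 : (B i₀).m = 1 := by have := hm i₁; have := hm i₀; omega
    obtain ⟨p, hp⟩ := hroot i₁ h1
    obtain ⟨q, hq⟩ := hroot i₀ h0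
    obtain ⟨hor1, -⟩ := hB i₁
    obtain ⟨hor0, -⟩ := hB i₀
    generalize B i₁ = A1 at hR h1 hp hor1
    generalize B i₀ = A0 at hR h0 hq hor0
    obtain ⟨m1, z1, hc1⟩ := A1
    obtain ⟨m0, z0, hc0⟩ := A0
    simp only at hR h1 h0 hp hq hor1 hor0
    subst h1 h0
    change Matrix (Fin 2) (Fin 2) F at z1
    change Matrix (Fin 2) (Fin 2) F at z0
    have hs : Sim (dsum z1 z0) x := hR.sim hrep
    have s1 := exists_jordan_two z1 hc1 hor1 hp
    have s0 := exists_jordan_two z0 hc0 hor0 hq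
    have hJ : Sim (dsum !![p, 1; 0, p] !![q, 1; 0, q]) x := (sim_dsum s1 s0).trans hs
    have hd : p ^ 2 * q ^ 2 = 1 := by
      rw [← hx1, ← hJ.det_eq, det_dsum]
      simp [det_fin_two]
      ring
    have := cov_four_jordan_sl p q
    rw [hd, one_smul] at this
    exact cov_scalar_of_sim hJ this

/-- Conjugates in `SL_n` give everything up to a scalar. -/
theorem cov_sl (h4 : 4 ≤ Fintype.card F)
    (hQ : ∀ {n : ℕ} (x g : Matrix (Fin n) (Fin n) F), 3 ≤ n → (∀ c : F, x ≠ c • 1) → x.det ≠ 0 →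
      (∀ c : F, g ≠ c • 1) → g.det = x.det ^ n → Cov ⊤ x n g)
    (hW : ∀ {n : ℕ} (x : Matrix (Fin n) (Fin n) F), 3 ≤ n → x.det ≠ 0 → Cov ⊤ x n (x.det • 1))
    (hn : 3 ≤ n) (x g : Matrix (Fin n) (Fin n) F) (hx : ∀ c : F, x ≠ c • 1) (hx1 : x.det = 1)
    (hg1 : g.det = 1) : ∃ c : F, c ^ n = 1 ∧ Cov ⊥ x n (c • g) := by
  classical
  have hx0 : x.det ≠ 0 := by rw [hx1]; exact one_ne_zero
  have hscal : ∀ s : F, g = s • 1 → s⁻¹ ^ n = 1 ∧ s⁻¹ • g = 1 := fun s e => by
    rw [e, det_smul, det_one, mul_one, Fintype.card_fin] at hg1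
    have hs : s ≠ 0 := fun e0 => by rw [e0, zero_pow (by omega)] at hg1; exact zero_ne_one hg1
    exact ⟨by rw [inv_pow, hg1, inv_one], by rw [e, inv_smul_smul₀ hs]⟩
  by_cases hG : centDet x = ⊤
  · have fin : ∀ {h : Matrix (Fin n) (Fin n) F}, Cov ⊤ x n h → Cov ⊥ x n h := fun h =>
      Cov.of_centDet (by rwa [hG])
    by_cases hs : ∃ s : F, g = s • 1
    · obtain ⟨s, hs⟩ := hs
      obtain ⟨h1, h2⟩ := hscal s hs
      refine ⟨s⁻¹, h1, fin ?_⟩
      rw [h2]
      simpa [hx1] using hW x hn hx0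
    · push Not at hs
      refine ⟨1, one_pow _, fin ?_⟩
      rw [one_smul]
      exact hQ x g hn hx hx0 hs (by rw [hg1, hx1, one_pow])
  rcases eq_or_lt_of_le hn with rfl | hn4
  · exact sl3 h4 x hx hx1 g hg1
  obtain ⟨M, B, hrep, hB⟩ := exists_simRep x
  have hB' : ∀ i, OneRoot (B i).mat ∧ 1 ≤ (B i).m ∧ (B i).mat.det ≠ 0 := fun i =>
    ⟨(hB i).1, by
      by_contra h
      exact hG (centDet_top_of_size_one hrep (i := i) (by omega)), hrep.det_ne_zero hx0 i⟩
  obtain ⟨t, hSq, hN⟩ := exists_sq_centDet h4 (by omega) hx0 hrep hB'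
  rcases eq_or_lt_of_le (show 4 ≤ n by omega) with rfl | hn5
  · by_cases hs : ∃ s : F, g = s • 1
    · obtain ⟨s, hs⟩ := hs
      obtain ⟨h1, h2⟩ := hscal s hs
      refine ⟨s⁻¹, h1, ?_⟩
      rw [h2]
      exact cov_four_one h4 hx1 hG
    · push Not at hs
      refine ⟨1, one_pow _, ?_⟩
      rw [one_smul]
      exact (cov_four_ns h4 (by omega) hx0 hSq hN hs (by rw [hg1, hx1, one_pow])).of_centDet
  · refine ⟨1, one_pow _, ?_⟩
    rw [one_smul]
    exact (cov_all h4 hn5 hx0 hSq hN n hn5 g (by rw [hg1, hx1, one_pow])).of_centDet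

omit [Fintype F] in
theorem Cov.exists_list {k : ℕ} (X : Matrix.SpecialLinearGroup (Fin n) F)
    {g : Matrix (Fin n) (Fin n) F} (h : Cov ⊥ (X : Matrix (Fin n) (Fin n) F) k g) :
    ∃ f : Fin k → Matrix.SpecialLinearGroup (Fin n) F,
      ((List.ofFn fun i => f i * X * (f i)⁻¹).prod : Matrix (Fin n) (Fin n) F) = g := by
  induction k generalizing g with
  | zero => exact ⟨fun i => 1, by rw [show g = 1 from h]; simp⟩
  | succ k ih =>
    obtain ⟨y, s, ⟨P, hP, e⟩, hs, rfl⟩ := h
    obtain ⟨f, hf⟩ := ih hs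
    have hP1 : (P : Matrix (Fin n) (Fin n) F).det = 1 := congrArg Units.val (Subgroup.mem_bot.1 hP)
    let P' : Matrix.SpecialLinearGroup (Fin n) F := ⟨P, hP1⟩
    have hy : ((P' * X * P'⁻¹ : Matrix.SpecialLinearGroup (Fin n) F) : Matrix (Fin n) (Fin n) F) = y := by
      rw [Matrix.SpecialLinearGroup.coe_mul, Matrix.SpecialLinearGroup.coe_mul]
      show (P : Matrix (Fin n) (Fin n) F) * (X : Matrix (Fin n) (Fin n) F) * _ = y
      rw [e, Matrix.mul_assoc, show (P : Matrix (Fin n) (Fin n) F) = (P' : Matrix (Fin n) (Fin n) F) from rfl,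
        ← Matrix.SpecialLinearGroup.coe_mul, mul_inv_cancel, Matrix.SpecialLinearGroup.coe_one, Matrix.mul_one]
    refine ⟨Fin.cons P' f, ?_⟩
    rw [List.ofFn_succ, List.prod_cons, Matrix.SpecialLinearGroup.coe_mul]
    simp only [Fin.cons_zero, Fin.cons_succ]
    rw [hy, hf]

/-- Every element of `PSL_n` is a product of `n` conjugates of any nontrivial element. -/
theorem psl_cover (h4 : 4 ≤ Fintype.card F)
    (hQ : ∀ {n : ℕ} (x g : Matrix (Fin n) (Fin n) F), 3 ≤ n → (∀ c : F, x ≠ c • 1) → x.det ≠ 0 →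
      (∀ c : F, g ≠ c • 1) → g.det = x.det ^ n → Cov ⊤ x n g)
    (hW : ∀ {n : ℕ} (x : Matrix (Fin n) (Fin n) F), 3 ≤ n → x.det ≠ 0 → Cov ⊤ x n (x.det • 1))
    (hn : 3 ≤ n) (x : Matrix.ProjectiveSpecialLinearGroup (Fin n) F) (hx : x ≠ 1)
    (g : Matrix.ProjectiveSpecialLinearGroup (Fin n) F) :
    ∃ f : Fin n → Matrix.ProjectiveSpecialLinearGroup (Fin n) F,
      g = (List.ofFn fun i => f i * x * (f i)⁻¹).prod := by
  obtain ⟨X, rfl⟩ := QuotientGroup.mk_surjective x
  obtain ⟨G, rfl⟩ := QuotientGroup.mk_surjective g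
  have hX : ∀ c : F, (X : Matrix (Fin n) (Fin n) F) ≠ c • 1 := fun c e => hx (by
    refine (QuotientGroup.eq_one_iff _).2 (Matrix.SpecialLinearGroup.mem_center_iff.2 ⟨c, ?_, ?_⟩)
    · have := X.2
      rwa [e, det_smul, det_one, mul_one] at this
    · rw [e, scalar_apply, ← smul_one_eq_diagonal])
  obtain ⟨c, hc, hcov⟩ := cov_sl h4 hQ hW hn _ (G : Matrix (Fin n) (Fin n) F) hX X.2 G.2
  obtain ⟨f, hf⟩ := Cov.exists_list X hcov
  refine ⟨fun i => QuotientGroup.mk (f i), ?_⟩
  have e : (List.ofFn fun i => (QuotientGroup.mk (f i) : Matrix.ProjectiveSpecialLinearGroup (Fin n) F) *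
      QuotientGroup.mk X * (QuotientGroup.mk (f i))⁻¹) =
      (List.ofFn fun i => f i * X * (f i)⁻¹).map
        (QuotientGroup.mk' (Subgroup.center (Matrix.SpecialLinearGroup (Fin n) F))) := by
    rw [List.map_ofFn]
    congr 1
  rw [e, ← map_list_prod]
  refine QuotientGroup.eq.2 (Matrix.SpecialLinearGroup.mem_center_iff.2 ⟨c, by rw [Fintype.card_fin, hc], ?_⟩)
  rw [Matrix.SpecialLinearGroup.coe_mul, hf, scalar_apply, ← smul_one_eq_diagonal, Matrix.mul_smul,
    ← Matrix.SpecialLinearGroup.coe_mul, inv_mul_cancel, Matrix.SpecialLinearGroup.coe_one]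

end CfsgLib.CoverPSL
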