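import Cfsg.Agent.CoverPSL.Blocks
import Cfsg.Agent.CoverPSL.GL2
import Cfsg.Agent.CoverPSL.Block
import Cfsg.Agent.OreSL.Scalar

/-!
# The mates of single blocks
-/

set_option autoImplicit false

namespace CfsgLib.CoverPSL

open Matrix Polynomial CfsgLib.OreSL

variable {F : Type*} [Field F] {n : ℕ}

theorem eval_charpoly_two (z : Matrix (Fin 2) (Fin 2) F) (l : F) :
    z.charpoly.eval l = l ^ 2 - z.trace * l + z.det := by
  rw [Matrix.charpoly_fin_two]
  simp only [eval_add, eval_sub, eval_pow, eval_X, eval_mul, eval_C]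

/-- An eigenvalue of a matrix is nonzero when the determinant is. -/
theorem root_ne_zero {z : Matrix (Fin n) (Fin n) F} (hz : z.det ≠ 0) {a : F}
    (ha : z.charpoly.eval a = 0) : a ≠ 0 := by
  rintro rfl
  refine hz ?_
  rw [Matrix.det_eq_sign_charpoly_coeff, coeff_zero_eq_eval_zero, ha, mul_zero]

/-- A cyclic matrix of size at least two is not scalar. -/
theorem IsCyc.ne_scalar {z : Matrix (Fin n) (Fin n) F} (hn : 2 ≤ n) (hc : IsCyc z) (c : F) :
    z ≠ c • 1 := by
  rintro rfl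
  obtain ⟨w, hw⟩ := hc
  have h01 : (⟨0, by omega⟩ : Fin n) ≠ ⟨1, by omega⟩ := by simp [Fin.ext_iff]
  have := (linearIndependent_iff'.mp hw) {⟨0, by omega⟩, ⟨1, by omega⟩}
    (fun i => if i = ⟨0, by omega⟩ then c else -1) (by
      rw [Finset.sum_pair h01]
      simp [smul_mulVec, h01.symm]) ⟨1, by omega⟩ (by simp)
  simp [h01.symm] at this

theorem sim_scalar {z : Matrix (Fin n) (Fin n) F} {c : F} (h : Sim z (c • 1)) : z = c • 1 := by
  obtain ⟨P, hP, e⟩ := h
  rw [Matrix.smul_mul, Matrix.one_mul] at e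
  rw [← Matrix.one_mul z, ← nonsing_inv_mul P (isUnit_iff_ne_zero.2 hP), Matrix.mul_assoc, e,
    Matrix.mul_smul, nonsing_inv_mul P (isUnit_iff_ne_zero.2 hP)]

variable [Fintype F]

/-- The mate of a nonscalar matrix of size two with spectrum `(s, δ² / s)`. -/
theorem gl2_mate (h4 : 4 ≤ Fintype.card F) (z : Matrix (Fin 2) (Fin 2) F) (hz : ∀ c : F, z ≠ c • 1)
    (hz0 : z.det ≠ 0) (s : F) (hs : s ≠ 0)
    (hgood : (∃ l, z.charpoly.eval l = 0) ∨ (s ≠ z.det ∧ s ≠ -z.det)) :
    ∃ P : GL (Fin 2) F,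
      Mate z ((P : Matrix (Fin 2) (Fin 2) F) * z * ((P⁻¹ : GL (Fin 2) F) : Matrix (Fin 2) (Fin 2) F))
        ![s, z.det ^ 2 / s] ∧
      ((∀ a b, z.charpoly.eval a = 0 → z.charpoly.eval b = 0 → a * b ≠ s ∧ a * b ≠ z.det ^ 2 / s) →
        NoCommon z ((P : Matrix (Fin 2) (Fin 2) F) * z * ((P⁻¹ : GL (Fin 2) F) : Matrix (Fin 2) (Fin 2) F))) := by
  set g : Matrix (Fin 2) (Fin 2) F := !![s, 0; 1, z.det ^ 2 / s]
  have hgl : ∀ i j : Fin 2, i.val < j.val → g i j = 0 := by
    intro i j h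
    fin_cases i <;> fin_cases j <;> first | rfl | simp at h
  have hgd : g.det = z.det ^ 2 := by simp [g, det_fin_two, mul_div_cancel₀ _ hs]
  have hgn : ∀ c : F, g ≠ c • 1 := fun c e => by simpa [g] using congrFun (congrFun e 1) 0
  have hgc : g.charpoly = ∏ i, (X - C (![s, z.det ^ 2 / s] i)) := by
    rw [charpoly_lower hgl]
    simp [g, Fin.prod_univ_two]
  have hge : ∀ c, EigLe g c := eigLe_lower hgl (fun i j hij e h => by
      fin_cases i <;> fin_cases j <;> first | exact e.symm | simp at hij h) fun i h _ => by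
    obtain rfl : i = 0 := Fin.ext (by simp only [Fin.val_zero]; omega)
    simp [g]
  have hcov : Cov ⊤ z 2 g := gl2_pair h4 z g hz hgn hz0 hgd (by
    rcases hgood with ⟨l, hl⟩ | ⟨h1, h2⟩
    · exact Or.inl ⟨l, (eval_charpoly_two z l).symm.trans hl⟩
    · refine Or.inr ⟨fun e => h1 ?_, fun _ e => h2 ?_⟩
      · simp [g, trace_fin_two] at e
        field_simp at e
        have : (s - z.det) ^ 2 = 0 := by linear_combination e
        exact sub_eq_zero.mp (pow_eq_zero_iff two_ne_zero |>.mp this)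
      · simp [g, trace_fin_two] at e
        field_simp at e
        have : (s + z.det) ^ 2 = 0 := by linear_combination e
        exact eq_neg_of_add_eq_zero_left (pow_eq_zero_iff two_ne_zero |>.mp this))
  obtain ⟨y1, h1, hy1, ⟨y2, h2, hy2, hh2, rfl⟩, hg⟩ := hcov
  rw [show h2 = 1 from hh2, Matrix.mul_one] at hg
  obtain ⟨Q, -, rfl⟩ := hy1.eq_conj
  obtain ⟨R, -, rfl⟩ := hy2.eq_conj
  set y : Matrix (Fin 2) (Fin 2) F :=
    ((Q⁻¹ * R : GL (Fin 2) F) : Matrix (Fin 2) (Fin 2) F) * z * (((Q⁻¹ * R)⁻¹ : GL (Fin 2) F) : Matrix (Fin 2) (Fin 2) F)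
    with hy
  have hzy : z * y = ((Q⁻¹ : GL (Fin 2) F) : Matrix (Fin 2) (Fin 2) F) * g * (Q : Matrix (Fin 2) (Fin 2) F) := by
    rw [hg, hy]
    simp only [_root_.mul_inv_rev, inv_inv, Units.val_mul, Matrix.mul_assoc]
    rw [← Matrix.mul_assoc ((Q⁻¹ : GL (Fin 2) F) : Matrix (Fin 2) (Fin 2) F) (Q : Matrix (Fin 2) (Fin 2) F),
      Units.inv_mul, Matrix.one_mul]
  have hzy' : z * y = ((Q⁻¹ : GL (Fin 2) F) : Matrix (Fin 2) (Fin 2) F) * g *
      (((Q⁻¹)⁻¹ : GL (Fin 2) F) : Matrix (Fin 2) (Fin 2) F) := by rw [inv_inv]; exact hzy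
  refine ⟨Q⁻¹ * R, ⟨?_, fun c => ?_⟩, fun hroot v a b hv hv2 => ?_⟩
  · rw [hzy', charpoly_conj, hgc]
  · rw [hzy']
    exact eigLe_conj _ (hge c)
  · by_contra hv0
    have ha := root_of_eigen hv0 hv
    have hb := root_of_eigen hv0 hv2
    rw [charpoly_conj] at hb
    have hab : (z * y).charpoly.eval (a * b) = 0 := root_of_eigen hv0 (by
      rw [← mulVec_mulVec, hv2, mulVec_smul, hv, smul_smul, mul_comm])
    rw [hzy', charpoly_conj, hgc, eval_prod, Fin.prod_univ_two, mul_eq_zero] at hab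
    simp only [eval_sub, eval_X, eval_C, sub_eq_zero] at hab
    exact hab.elim (by simpa using (hroot a b ha hb).1) (by simpa using (hroot a b ha hb).2)

/-- A cyclic matrix of size two with the single eigenvalue `κ` has free mates. -/
theorem j2_mate (h4 : 4 ≤ Fintype.card F) (z : Matrix (Fin 2) (Fin 2) F) (hc : IsCyc z) (hone : OneRoot z)
    (hz0 : z.det ≠ 0) {κ : F} (hκ : z.charpoly.eval κ = 0) :
    z.det = κ ^ 2 ∧ ∀ K : Subgroup Fˣ, (∀ u : Fˣ, u ^ 2 ∈ K) → ∀ r : Fˣ, ∃ P : GL (Fin 2) F,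
      r * GeneralLinearGroup.det P ∈ K ∧
      Mate z ((P : Matrix (Fin 2) (Fin 2) F) * z * ((P⁻¹ : GL (Fin 2) F) : Matrix (Fin 2) (Fin 2) F))
        ![κ ^ 2, κ ^ 2] := by
  classical
  have hκ0 := root_ne_zero hz0 hκ
  rw [eval_charpoly_two] at hκ
  have hκ' : z.charpoly.eval (z.trace - κ) = 0 := by
    rw [eval_charpoly_two]
    linear_combination hκ
  have hT : z.trace = 2 * κ := by
    have := hone κ (z.trace - κ) (by rw [eval_charpoly_two]; exact hκ) hκ'
    linear_combination -this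
  have hD : z.det = κ ^ 2 := by
    rw [hT] at hκ
    linear_combination hκ
  refine ⟨hD, fun K hK r => ?_⟩
  set J : Matrix (Fin 2) (Fin 2) F := !![κ, 1; 0, κ]
  obtain ⟨Q, hQ⟩ := exists_conj_of_sim (sim_of_trace_det (A := J) (B := z)
    (fun c e => by simpa [J] using congrFun (congrFun e 0) 1) (IsCyc.ne_scalar le_rfl hc)
    (by simp [J, trace_fin_two, hT]; ring) (by simp [J, det_fin_two, hD]; ring))
  obtain ⟨β, hβ, hβK⟩ : ∃ β : Fˣ, (β : F) ≠ -1 ∧ r * β ∈ K := by
    by_cases h : ((r⁻¹ : Fˣ) : F) = -1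
    · obtain ⟨c, hc0, hc1, hcm⟩ : ∃ c : F, c ≠ 0 ∧ c ≠ 1 ∧ c ≠ -1 := by
        by_contra hc
        push Not at hc
        have hsub : (Finset.univ : Finset F) ⊆ {0, 1, -1} := fun a _ => by
          simp only [Finset.mem_insert, Finset.mem_singleton]
          by_contra h'
          push Not at h'
          exact h'.2.2 (hc a h'.1 h'.2.1)
        have := (Finset.card_le_card hsub).trans Finset.card_le_three
        rw [Finset.card_univ] at this
        omega
      refine ⟨r⁻¹ * (Units.mk0 c hc0) ^ 2, ?_, by rw [mul_inv_cancel_left]; exact hK _⟩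
      rw [Units.val_mul, h, Units.val_pow_eq_pow_val, Units.val_mk0]
      intro e
      have : (c - 1) * (c + 1) = 0 := by linear_combination -e
      rcases mul_eq_zero.mp this with h' | h'
      exacts [hc1 (sub_eq_zero.mp h'), hcm (eq_neg_of_add_eq_zero_left h')]
    · exact ⟨r⁻¹, h, by rw [mul_inv_cancel]; exact one_mem K⟩
  set D : GL (Fin 2) F := GeneralLinearGroup.mkOfDetNeZero !![(β : F), 0; 0, 1]
    (by simp [det_fin_two]) with hDdef
  have hDd : GeneralLinearGroup.det D = β := Units.ext (by simp [D, det_fin_two])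
  refine ⟨Q * D * Q⁻¹, ?_, ?_⟩
  · rw [map_mul, map_mul, map_inv, mul_comm (GeneralLinearGroup.det Q), mul_inv_cancel_right, hDd]
    exact hβK
  set y : Matrix (Fin 2) (Fin 2) F := !![κ, (β : F); 0, κ]
  have hy : (D : Matrix (Fin 2) (Fin 2) F) * J * ((D⁻¹ : GL (Fin 2) F) : Matrix (Fin 2) (Fin 2) F) = y := by
    rw [Units.mul_inv_eq_iff_eq_mul]
    ext i j
    fin_cases i <;> fin_cases j <;> simp [D, J, y, mul_apply, Fin.sum_univ_two, mul_comm]
  have hconj : ((Q * D * Q⁻¹ : GL (Fin 2) F) : Matrix (Fin 2) (Fin 2) F) * z *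
      (((Q * D * Q⁻¹)⁻¹ : GL (Fin 2) F) : Matrix (Fin 2) (Fin 2) F) =
      (Q : Matrix (Fin 2) (Fin 2) F) * y * ((Q⁻¹ : GL (Fin 2) F) : Matrix (Fin 2) (Fin 2) F) := by
    rw [← hy, hQ]
    simp only [_root_.mul_inv_rev, inv_inv, Units.val_mul, Matrix.mul_assoc]
    simp only [← Matrix.mul_assoc ((Q⁻¹ : GL (Fin 2) F) : Matrix (Fin 2) (Fin 2) F) (Q : Matrix (Fin 2) (Fin 2) F),
      Units.inv_mul, Matrix.one_mul]
  rw [hconj, hQ]
  refine Mate.conj Q ⟨?_, fun c => ?_⟩
  · rw [Matrix.charpoly_fin_two]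
    simp [J, y, trace_fin_two, det_fin_two, Fin.prod_univ_two]
    ring
  · rw [eigLe_iff]
    intro v w hv hw hv0
    have e : J * y = !![κ ^ 2, κ * ((β : F) + 1); 0, κ ^ 2] := by
      ext i j
      fin_cases i <;> fin_cases j <;> simp [J, y, mul_apply, Fin.sum_univ_two] <;> ring
    have hβ1 : κ * ((β : F) + 1) ≠ 0 := mul_ne_zero hκ0 fun h => hβ (eq_neg_of_add_eq_zero_left h)
    have key : ∀ u : Fin 2 → F, (J * y) *ᵥ u = c • u → u 1 = 0 := by
      intro u hu
      rw [e] at hu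
      have h0 := congrFun hu 0
      have h1 := congrFun hu 1
      simp [mulVec, dotProduct, Fin.sum_univ_two] at h0 h1
      rcases h1 with h1 | h1
      · rw [← h1] at h0
        exact (mul_eq_zero.mp (show κ * ((β : F) + 1) * u 1 = 0 by linear_combination h0)).resolve_left hβ1
      · exact h1
    have hv0' : v 0 ≠ 0 := fun h => hv0 (funext fun i => by fin_cases i <;> simp [h, key v hv])
    refine ⟨w 0 / v 0, funext fun i => ?_⟩
    fin_cases i <;> simp [key v hv, key w hw, div_mul_cancel₀ _ hv0']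

/-- A matrix of size two without eigenvalue has centraliser elements of every determinant. -/
theorem centDet_irred (z : Matrix (Fin 2) (Fin 2) F) (hroot : ∀ l, z.charpoly.eval l ≠ 0) :
    centDet z = ⊤ := by
  classical
  rw [eq_top_iff]
  intro u _
  obtain ⟨a, b, hab⟩ : ∃ a b : F, a ^ 2 + a * b * z.trace + b ^ 2 * z.det = u := by
    rcases eq_or_ne (ringChar F) 2 with h2 | h2
    · obtain ⟨a, ha⟩ := FiniteField.isSquare_of_char_two h2 (u : F)
      exact ⟨a, 0, by rw [ha]; ring⟩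
    · have h2' : (2 : F) ≠ 0 := Ring.two_ne_zero h2
      have h4' : (4 : F) ≠ 0 := by rw [show (4 : F) = 2 * 2 by norm_num]; exact mul_ne_zero h2' h2'
      set w := z.trace ^ 2 / 4 - z.det with hw
      have hw0 : w ≠ 0 := by
        intro e
        refine hroot (z.trace / 2) ?_
        rw [eval_charpoly_two]
        rw [hw, sub_eq_zero] at e
        rw [← e]
        field_simp
        ring
      obtain ⟨a, b, h⟩ := exists_norm_value h2 hw0 (u : F)
      refine ⟨a - b * z.trace / 2, b, ?_⟩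
      rw [← h, hw]
      field_simp
      ring
  refine mem_centDet (a • 1 + b • z) ?_ ?_
  · rw [Matrix.add_mul, Matrix.mul_add, Matrix.smul_mul, Matrix.mul_smul, Matrix.smul_mul, Matrix.mul_smul,
      Matrix.one_mul, Matrix.mul_one]
  · rw [← hab]
    simp [det_fin_two, trace_fin_two]
    ring

/-- A subgroup is proper only if it misses at least half of the units. -/
theorem exists_notMem_ne (h4 : 4 ≤ Fintype.card F) {K : Subgroup Fˣ} (hK : K ≠ ⊤) (v : F) :
    ∃ a : Fˣ, a ∉ K ∧ (a : F) ≠ v := by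
  classical
  obtain ⟨a, ha⟩ : ∃ a, a ∉ K := by
    by_contra hc
    push Not at hc
    exact hK (eq_top_iff.2 fun a _ => hc a)
  by_cases hav : (a : F) ≠ v
  · exact ⟨a, ha, hav⟩
  push Not at hav
  by_contra hc
  push Not at hc
  have hK1 : ∀ k ∈ K, k = 1 := fun k hk => by
    have := hc (a * k) (fun h => ha (by simpa using mul_mem h (inv_mem hk)))
    rw [← hav] at this
    exact mul_eq_left.mp (Units.ext this)
  have : (Finset.univ : Finset Fˣ) ⊆ {1, a} := fun b _ => by
    simp only [Finset.mem_insert, Finset.mem_singleton]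
    by_cases hb : b ∈ K
    · exact Or.inl (hK1 b hb)
    · exact Or.inr (Units.ext ((hc b hb).trans hav.symm))
  have := (Finset.card_le_card this).trans Finset.card_le_two
  rw [Finset.card_univ, Fintype.card_units] at this
  omega

end CfsgLib.CoverPSL
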