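import Cfsg.Agent.CoverPSL.Four
import Cfsg.Agent.CoverPSL.Shift
import Cfsg.Agent.Sourour.Step

/-!
# Conjugates of a scalar plus a matrix of rank one

A nonscalar matrix of determinant `ρ ^ n` is a product of `n` conjugates of any `1 + a bᵀ` of
determinant `ρ`: the factors are taken off one by one, each enlarging the fixed subspace.
-/

set_option autoImplicit false

namespace CfsgLib.CoverPSL

open Matrix CfsgLib.OreSL

variable {F : Type*} [Field F] {n : ℕ}

theorem exists_row {W : Submodule F (Fin n → F)} {x : Fin n → F} (hx : x ∉ W) :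
    ∃ φ : Fin n → F, φ ⬝ᵥ x = 1 ∧ ∀ w ∈ W, φ ⬝ᵥ w = 0 := by
  obtain ⟨ψ, hψ, hW⟩ := Sourour.exists_dual_of_notMem hx
  have key : ∀ v, (fun j => (ψ x)⁻¹ * ψ (Pi.single j 1)) ⬝ᵥ v = (ψ x)⁻¹ * ψ v := fun v => by
    conv_rhs => rw [pi_eq_sum_univ' v]
    simp only [map_sum, map_smul, smul_eq_mul, Finset.mul_sum, dotProduct]
    exact Finset.sum_congr rfl fun i _ => by ring
  exact ⟨_, by rw [key, inv_mul_cancel₀ hψ], fun w hw => by rw [key, hW w hw, mul_zero]⟩

theorem mem_line_split {U : Submodule F (Fin n → F)} {v y : Fin n → F}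
    (h : y ∈ U ⊔ Submodule.span F {v}) : ∃ u ∈ U, ∃ s : F, y = u + s • v := by
  obtain ⟨u, hu, b, hb, rfl⟩ := Submodule.mem_sup.mp h
  obtain ⟨s, rfl⟩ := Submodule.mem_span_singleton.mp hb
  exact ⟨u, hu, s, rfl⟩

/-- A matrix with nonscalar quotient moves some vector off its line modulo `U`. -/
theorem exists_moved {U : Submodule F (Fin n → F)} {G : Matrix (Fin n) (Fin n) F}
    (hU : ∀ u ∈ U, G *ᵥ u = u) (hns : ¬ ∃ c : F, ∀ x, G *ᵥ x - c • x ∈ U) :
    ∃ v, v ∉ U ∧ G *ᵥ v ∉ U ⊔ Submodule.span F {v} := by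
  by_contra hc
  push Not at hc
  have hev : ∀ v, v ∉ U → ∃ c : F, G *ᵥ v - c • v ∈ U := fun v hv => by
    obtain ⟨u, hu, s, e⟩ := mem_line_split (hc v hv)
    exact ⟨s, by rwa [e, add_sub_cancel_right]⟩
  obtain ⟨v, hv⟩ : ∃ v, v ∉ U := by
    by_contra h
    push Not at h
    exact hns ⟨1, fun x => h _⟩
  obtain ⟨c, hcv⟩ := hev v hv
  refine hns ⟨c, fun x => ?_⟩
  by_cases hx : x ∈ U ⊔ Submodule.span F {v}
  · obtain ⟨u, hu, s, rfl⟩ := mem_line_split hx
    rw [mulVec_add, mulVec_smul, hU u hu,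
      show u + s • (G *ᵥ v) - c • (u + s • v) = (1 - c) • u + s • (G *ᵥ v - c • v) by module]
    exact add_mem (U.smul_mem _ hu) (U.smul_mem _ hcv)
  · have hxU : x ∉ U := fun h => hx (Submodule.mem_sup_left h)
    obtain ⟨d, hd⟩ := hev x hxU
    have hxv : x + v ∉ U := fun h => hx (by
      rw [show x = (x + v) + (-1 : F) • v by module]
      exact add_mem (Submodule.mem_sup_left h)
        (Submodule.mem_sup_right (Submodule.smul_mem _ _ (Submodule.mem_span_singleton_self _))))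
    obtain ⟨e, he⟩ := hev (x + v) hxv
    have h3 : (e - d) • x + (e - c) • v ∈ U := by
      have := sub_mem (add_mem hd hcv) he
      rw [mulVec_add] at this
      convert this using 1
      module
    rcases eq_or_ne d c with rfl | hne
    · exact hd
    exfalso
    rcases eq_or_ne e d with rfl | hed
    · rw [sub_self, zero_smul, zero_add] at h3
      exact hv (by simpa [inv_smul_smul₀ (sub_ne_zero.2 hne)] using U.smul_mem (e - c)⁻¹ h3)
    · refine hx ?_
      rw [show x = (e - d)⁻¹ • ((e - d) • x + (e - c) • v - (e - c) • v) by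
        rw [add_sub_cancel_right, inv_smul_smul₀ (sub_ne_zero.2 hed)]]
      exact Submodule.smul_mem _ _ (sub_mem (Submodule.mem_sup_left h3)
        (Submodule.mem_sup_right (Submodule.smul_mem _ _ (Submodule.mem_span_singleton_self _))))

/-- Taking off one factor. -/
theorem peel {ρ : F} (hρ : ρ ≠ 0) (w φ : Fin n → F) (hw : φ ⬝ᵥ w = ρ - 1)
    (G : Matrix (Fin n) (Fin n) F) :
    (1 + vecMulVec w φ) * (G - ρ⁻¹ • vecMulVec w (φ ᵥ* G)) = G := by
  have h2 : (1 + vecMulVec w φ) * (1 - ρ⁻¹ • vecMulVec w φ) = 1 := by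
    rw [Matrix.add_mul, Matrix.one_mul, Matrix.mul_sub, Matrix.mul_one, Matrix.mul_smul,
      vecMulVec_mul_vecMulVec, vecMulVec_smul, hw]
    match_scalars <;> field_simp <;> ring
  have e : G - ρ⁻¹ • vecMulVec w (φ ᵥ* G) = (1 - ρ⁻¹ • vecMulVec w φ) * G := by
    rw [Matrix.sub_mul, Matrix.one_mul, Matrix.smul_mul, vecMulVec_mul]
  rw [e, ← Matrix.mul_assoc, h2, Matrix.one_mul]

theorem cov_smul_base {N : Subgroup Fˣ} {x g : Matrix (Fin n) (Fin n) F} (c : F) {k : ℕ}
    (h : Cov N x k g) : Cov N (c • x) k (c ^ k • g) := by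
  induction k generalizing g with
  | zero => rw [show g = 1 from h, pow_zero, one_smul]; exact cov_zero
  | succ k ih =>
    obtain ⟨y, s, ⟨P, hP, e⟩, hs, rfl⟩ := h
    refine ⟨c • y, _, ⟨P, hP, by rw [Matrix.mul_smul, Matrix.smul_mul, e]⟩, ih hs, ?_⟩
    rw [Matrix.smul_mul, Matrix.mul_smul, smul_smul, ← pow_succ']

variable [Fintype F]

theorem cov_refl (h4 : 4 ≤ Fintype.card F) {ρ : F} {a b : Fin n → F} (ha : a ≠ 0) (hb : b ≠ 0)
    (hab : b ⬝ᵥ a = ρ - 1) {w φ : Fin n → F} (hw : w ≠ 0) (hφ : φ ≠ 0) (h : φ ⬝ᵥ w = ρ - 1) :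
    SimIn ⊤ (1 + vecMulVec a b) (1 + vecMulVec w φ) := by
  have := sim_rankOne h4 (1 : F) ha hb hw hφ (hab.trans h.symm)
  rw [one_smul] at this
  exact simIn_top_iff.2 this

/-- The induction on the codimension of the fixed subspace. -/
theorem cov_fixed (h4 : 4 ≤ Fintype.card F) {ρ : F} (hρ : ρ ≠ 0) {a b : Fin n → F} (ha : a ≠ 0)
    (hb : b ≠ 0) (hab : b ⬝ᵥ a = ρ - 1) :
    ∀ m, 2 ≤ m → ∀ (U : Submodule F (Fin n → F)) (G : Matrix (Fin n) (Fin n) F),
      Module.finrank F U + m = n → (∀ u ∈ U, G *ᵥ u = u) → (¬ ∃ c : F, ∀ x, G *ᵥ x - c • x ∈ U) →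
      G.det = ρ ^ m → Cov ⊤ (1 + vecMulVec a b) m G := by
  intro m hm
  induction m, hm using Nat.le_induction with
  | base =>
    intro U G hdim hU hns hdet
    obtain ⟨v, hv, hGv⟩ := exists_moved hU hns
    have hvG : v ∉ U ⊔ Submodule.span F {G *ᵥ v} := fun h => by
      obtain ⟨u, hu, s, e⟩ := mem_line_split h
      rcases eq_or_ne s 0 with rfl | hs
      · exact hv (by rw [e, zero_smul, add_zero]; exact hu)
      · refine hGv ?_
        rw [show G *ᵥ v = s⁻¹ • (v - u) by rw [show v - u = s • (G *ᵥ v) from sub_eq_of_eq_add' e, inv_smul_smul₀ hs]]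
        exact Submodule.smul_mem _ _ (sub_mem (Submodule.mem_sup_right (Submodule.mem_span_singleton_self _))
          (Submodule.mem_sup_left hu))
    obtain ⟨φ1, h11, h12⟩ := exists_row hvG
    obtain ⟨φ2, h21, h22⟩ := exists_row hGv
    obtain ⟨φ, hφ⟩ : ∃ φ, φ = φ1 + ρ • φ2 := ⟨_, rfl⟩
    have hφv : φ ⬝ᵥ v = 1 := by
      rw [hφ, add_dotProduct, smul_dotProduct, h11,
        h22 v (Submodule.mem_sup_right (Submodule.mem_span_singleton_self _)), smul_zero, add_zero]
    have hφG : φ ⬝ᵥ (G *ᵥ v) = ρ := by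
      rw [hφ, add_dotProduct, smul_dotProduct, h21,
        h12 _ (Submodule.mem_sup_right (Submodule.mem_span_singleton_self _)), zero_add, smul_eq_mul, mul_one]
    have hφU : ∀ u ∈ U, φ ⬝ᵥ u = 0 := fun u hu => by
      rw [hφ, add_dotProduct, smul_dotProduct, h12 u (Submodule.mem_sup_left hu),
        h22 u (Submodule.mem_sup_left hu), smul_zero, add_zero]
    have hφ0 : φ ≠ 0 := fun e => by rw [e, zero_dotProduct] at hφv; exact zero_ne_one hφv
    obtain ⟨w, hw⟩ : ∃ w, w = G *ᵥ v - v := ⟨_, rfl⟩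
    have hwφ : φ ⬝ᵥ w = ρ - 1 := by rw [hw, dotProduct_sub, hφG, hφv]
    have hw0 : w ≠ 0 := fun e => hGv (by
      rw [hw, sub_eq_zero] at e
      rw [e]
      exact Submodule.mem_sup_right (Submodule.mem_span_singleton_self _))
    have hpeel := peel hρ w φ hwφ G
    obtain ⟨G', hG'⟩ : ∃ G', G' = G - ρ⁻¹ • vecMulVec w (φ ᵥ* G) := ⟨_, rfl⟩
    rw [← hG'] at hpeel
    have hG'v : ∀ x, G' *ᵥ x = G *ᵥ x - (ρ⁻¹ * (φ ⬝ᵥ (G *ᵥ x))) • w := fun x => by
      rw [hG', sub_mulVec, smul_mulVec, vecMulVec_mulVec, op_smul_eq_smul, smul_smul, dotProduct_mulVec]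
    have hfix : ∀ y ∈ U ⊔ Submodule.span F {v}, G' *ᵥ y = y := fun y hy => by
      obtain ⟨u, hu, s, rfl⟩ := mem_line_split hy
      rw [hG'v, mulVec_add, mulVec_smul, hU u hu, dotProduct_add, dotProduct_smul, hφU u hu, hφG, zero_add,
        smul_eq_mul, ← mul_assoc, mul_comm ρ⁻¹ s, mul_assoc, inv_mul_cancel₀ hρ, mul_one, hw]
      module
    have hd' : G'.det = ρ := by
      have := congrArg Matrix.det hpeel
      rw [det_mul, det_one_add_vecMulVec, hwφ, add_sub_cancel, hdet, sq] at this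
      exact mul_left_cancel₀ hρ this
    by_cases h1 : G' = 1
    · -- a transvection
      have hρ1 : ρ = 1 := by rw [← hd', h1, det_one]
      subst hρ1
      obtain ⟨t, ht0, ht1⟩ : ∃ t : F, t ≠ 0 ∧ t ≠ 1 := by
        classical
        obtain ⟨t, -, ht⟩ := Finset.exists_mem_notMem_of_card_lt_card (s := ({0, 1} : Finset F))
          (t := Finset.univ) (by rw [Finset.card_univ]; exact lt_of_le_of_lt Finset.card_le_two (by omega))
        exact ⟨t, by simpa [not_or] using ht⟩
      rw [sub_self] at hwφ hab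
      have e : G = (1 + vecMulVec w (t • φ)) * (1 + vecMulVec w ((1 - t) • φ)) := by
        rw [← hpeel, h1, Matrix.mul_one, Matrix.add_mul, Matrix.one_mul, Matrix.mul_add, Matrix.mul_one,
          vecMulVec_mul_vecMulVec, smul_dotProduct, hwφ, smul_zero, zero_smul, vecMulVec_zero, add_zero,
          vecMulVec_smul, vecMulVec_smul]
        module
      rw [e]
      have hs : ∀ s : F, s ≠ 0 → SimIn ⊤ (1 + vecMulVec a b) (1 + vecMulVec w (s • φ)) := fun s hs =>
        cov_refl h4 ha hb (ρ := 1) (by rw [sub_self, hab]) hw0 (smul_ne_zero hs hφ0)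
          (by rw [smul_dotProduct, hwφ, smul_zero, sub_self])
      exact (cov_one (hs _ (sub_ne_zero.2 (Ne.symm ht1)))).cons (hs _ ht0)
    · -- the last factor has rank one
      obtain ⟨W, hW⟩ : ∃ W, W = U ⊔ Submodule.span F {v} := ⟨_, rfl⟩
      rw [← hW] at hfix
      have hlt : Module.finrank F U < Module.finrank F W :=
        Submodule.finrank_lt_finrank_of_lt (lt_of_le_of_ne (hW ▸ le_sup_left) fun e => hv (by
          rw [e, hW]
          exact Submodule.mem_sup_right (Submodule.mem_span_singleton_self _)))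
      obtain ⟨x, hx⟩ : ∃ x, x ∉ W := by
        by_contra hc
        push Not at hc
        exact h1 (Matrix.ext_of_mulVec_single fun j => by rw [hfix _ (hc _), one_mulVec])
      have htop : W ⊔ Submodule.span F {x} = ⊤ := by
        refine Submodule.eq_top_of_finrank_eq (le_antisymm (Submodule.finrank_le _) ?_)
        have : Module.finrank F W < Module.finrank F ↥(W ⊔ Submodule.span F {x}) :=
          Submodule.finrank_lt_finrank_of_lt (lt_of_le_of_ne le_sup_left fun e => hx (by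
            rw [e]
            exact Submodule.mem_sup_right (Submodule.mem_span_singleton_self _)))
        rw [Module.finrank_fin_fun]
        omega
      obtain ⟨ψ, hψx, hψW⟩ := exists_row hx
      have e : G' = 1 + vecMulVec (G' *ᵥ x - x) ψ := Matrix.ext_of_mulVec_single fun j => by
        obtain ⟨y, hy, s, e⟩ := mem_line_split (htop ▸ Submodule.mem_top : (Pi.single j 1 : Fin n → F) ∈
          W ⊔ Submodule.span F {x})
        rw [e, add_mulVec, one_mulVec, vecMulVec_mulVec, op_smul_eq_smul, dotProduct_add, dotProduct_smul,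
          hψx, hψW y hy, zero_add, mulVec_add, mulVec_smul, hfix y hy, smul_eq_mul, mul_one]
        module
      have hu : G' *ᵥ x - x ≠ 0 := fun e0 => h1 (by rw [e, e0, zero_vecMulVec, add_zero])
      have hψ0 : ψ ≠ 0 := fun e0 => by rw [e0, zero_dotProduct] at hψx; exact zero_ne_one hψx
      rw [← hpeel]
      refine (cov_one (e ▸ cov_refl h4 ha hb hab hu hψ0 ?_)).cons (cov_refl h4 ha hb hab hw0 hφ0 hwφ)
      rw [e, det_one_add_vecMulVec] at hd'
      linear_combination hd'
  | succ m hm ih =>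
    intro U G hdim hU hns hdet
    have hG0 : G.det ≠ 0 := by rw [hdet]; exact pow_ne_zero _ hρ
    obtain ⟨v, hv, hGv⟩ := exists_moved hU hns
    have hvG : v ∉ U ⊔ Submodule.span F {G *ᵥ v} := fun h => by
      obtain ⟨u, hu, s, e⟩ := mem_line_split h
      rcases eq_or_ne s 0 with rfl | hs
      · exact hv (by rw [e, zero_smul, add_zero]; exact hu)
      · refine hGv ?_
        rw [show G *ᵥ v = s⁻¹ • (v - u) by rw [show v - u = s • (G *ᵥ v) from sub_eq_of_eq_add' e, inv_smul_smul₀ hs]]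
        exact Submodule.smul_mem _ _ (sub_mem (Submodule.mem_sup_right (Submodule.mem_span_singleton_self _))
          (Submodule.mem_sup_left hu))
    obtain ⟨φ1, h11, h12⟩ := exists_row hvG
    obtain ⟨φ2, h21, h22⟩ := exists_row hGv
    obtain ⟨w, hw⟩ : ∃ w, w = G *ᵥ v - v := ⟨_, rfl⟩
    obtain ⟨W, hW⟩ : ∃ W, W = U ⊔ Submodule.span F {v} := ⟨_, rfl⟩
    obtain ⟨W', hW'⟩ : ∃ W', W' = W ⊔ Submodule.span F {w} := ⟨_, rfl⟩
    have hdW : Module.finrank F W ≤ Module.finrank F U + 1 := by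
      rw [hW]
      refine (Submodule.finrank_add_le_finrank_add_finrank _ _).trans (Nat.add_le_add_left ?_ _)
      exact (finrank_span_singleton (fun e : v = 0 => hv (e ▸ U.zero_mem))).le
    have hdW1 : Module.finrank F W = Module.finrank F U + 1 := by
      refine le_antisymm hdW (Nat.succ_le_of_lt ?_)
      exact Submodule.finrank_lt_finrank_of_lt (lt_of_le_of_ne (hW ▸ le_sup_left) fun e => hv (by
        rw [e, hW]
        exact Submodule.mem_sup_right (Submodule.mem_span_singleton_self _)))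
    have hwW : w ∉ W := fun h => hGv (by
      rw [show G *ᵥ v = w + v by rw [hw, sub_add_cancel], ← hW]
      exact add_mem h (hW ▸ Submodule.mem_sup_right (Submodule.mem_span_singleton_self _)))
    have hdW' : Module.finrank F W' ≤ Module.finrank F U + 2 := by
      rw [hW']
      refine (Submodule.finrank_add_le_finrank_add_finrank _ _).trans ?_
      rw [finrank_span_singleton (fun e : w = 0 => hwW (e ▸ W.zero_mem))]
      omega
    obtain ⟨x, hx⟩ := Sourour.exists_notMem_of_finrank_lt (U := W') (by rw [Module.finrank_fin_fun]; omega)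
    obtain ⟨η, hηx, hηW⟩ := exists_row hx
    have hUW : ∀ u ∈ U, u ∈ W := fun u hu => hW ▸ Submodule.mem_sup_left hu
    have hvW : v ∈ W := hW ▸ Submodule.mem_sup_right (Submodule.mem_span_singleton_self _)
    have hWW' : ∀ y ∈ W, y ∈ W' := fun y hy => hW' ▸ Submodule.mem_sup_left hy
    have hηv : η ⬝ᵥ v = 0 := hηW v (hWW' v hvW)
    have hηG : η ⬝ᵥ (G *ᵥ v) = 0 := by
      refine hηW _ ?_
      rw [show G *ᵥ v = w + v by rw [hw, sub_add_cancel], hW']
      exact add_mem (Submodule.mem_sup_right (Submodule.mem_span_singleton_self _))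
        (Submodule.mem_sup_left hvW)
    -- the candidates
    obtain ⟨φ, hφ⟩ : ∃ φ : F → Fin n → F, φ = fun s => φ1 + ρ • φ2 + s • η := ⟨_, rfl⟩
    have hφv : ∀ s, φ s ⬝ᵥ v = 1 := fun s => by
      simp only [hφ]
      rw [add_dotProduct, add_dotProduct, smul_dotProduct, smul_dotProduct, h11, hηv,
        h22 v (Submodule.mem_sup_right (Submodule.mem_span_singleton_self _)), smul_zero, smul_zero, add_zero,
        add_zero]
    have hφG : ∀ s, φ s ⬝ᵥ (G *ᵥ v) = ρ := fun s => by
      simp only [hφ]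
      rw [add_dotProduct, add_dotProduct, smul_dotProduct, smul_dotProduct, h21, hηG,
        h12 _ (Submodule.mem_sup_right (Submodule.mem_span_singleton_self _)), smul_zero, add_zero, zero_add,
        smul_eq_mul, mul_one]
    have hφU : ∀ s, ∀ u ∈ U, φ s ⬝ᵥ u = 0 := fun s u hu => by
      simp only [hφ]
      rw [add_dotProduct, add_dotProduct, smul_dotProduct, smul_dotProduct, h12 u (Submodule.mem_sup_left hu),
        h22 u (Submodule.mem_sup_left hu), hηW u (hWW' u (hUW u hu)), smul_zero, smul_zero, add_zero, add_zero]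
    obtain ⟨G', hG'⟩ : ∃ G' : F → Matrix (Fin n) (Fin n) F,
        G' = fun s => G - ρ⁻¹ • vecMulVec w (φ s ᵥ* G) := ⟨_, rfl⟩
    have hG'v : ∀ s y, G' s *ᵥ y = G *ᵥ y - (ρ⁻¹ * (φ s ⬝ᵥ (G *ᵥ y))) • w := fun s y => by
      simp only [hG']
      rw [sub_mulVec, smul_mulVec, vecMulVec_mulVec, op_smul_eq_smul, smul_smul, dotProduct_mulVec]
    have hfix : ∀ s, ∀ y ∈ W, G' s *ᵥ y = y := fun s y hy => by
      obtain ⟨u, hu, r, rfl⟩ := mem_line_split (hW ▸ hy)
      rw [hG'v, mulVec_add, mulVec_smul, hU u hu, dotProduct_add, dotProduct_smul, hφU s u hu, hφG, zero_add,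
        smul_eq_mul, ← mul_assoc, mul_comm ρ⁻¹ r, mul_assoc, inv_mul_cancel₀ hρ, mul_one, hw]
      module
    obtain ⟨s, hs⟩ : ∃ s : F, ¬ ∃ c : F, ∀ y, G' s *ᵥ y - c • y ∈ W := by
      by_contra hc
      push Not at hc
      obtain ⟨c0, e0⟩ := hc 0
      obtain ⟨c1, e1⟩ := hc 1
      have hdiff : ∀ y, (ρ⁻¹ * (η ⬝ᵥ (G *ᵥ y))) • w - (c0 - c1) • y ∈ W := fun y => by
        have := sub_mem (e0 y) (e1 y)
        rw [hG'v, hG'v] at this
        simp only [hφ, add_dotProduct, smul_dotProduct, zero_smul, one_smul, add_zero, mul_add] at this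
        convert this using 1
        module
      have hc : c0 = c1 := by
        by_contra hne
        refine hx ?_
        have := hdiff x
        have h' : (c0 - c1) • x ∈ W' := by
          rw [show (c0 - c1) • x = (ρ⁻¹ * (η ⬝ᵥ (G *ᵥ x))) • w -
            ((ρ⁻¹ * (η ⬝ᵥ (G *ᵥ x))) • w - (c0 - c1) • x) by module]
          exact sub_mem (Submodule.smul_mem _ _ (hW' ▸ Submodule.mem_sup_right
            (Submodule.mem_span_singleton_self _))) (hWW' _ this)
        simpa [inv_smul_smul₀ (sub_ne_zero.2 hne)] using W'.smul_mem (c0 - c1)⁻¹ h'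
      obtain ⟨y, hy⟩ : ∃ y, G *ᵥ y = x := by
        refine ⟨G⁻¹ *ᵥ x, ?_⟩
        rw [mulVec_mulVec, mul_nonsing_inv _ (isUnit_iff_ne_zero.2 hG0), one_mulVec]
      have := hdiff y
      rw [hy, hηx, mul_one, hc, sub_self, zero_smul, sub_zero] at this
      exact hwW (by simpa [smul_inv_smul₀ hρ] using W.smul_mem ρ this)
    have hwφ : φ s ⬝ᵥ w = ρ - 1 := by rw [hw, dotProduct_sub, hφG, hφv]
    have hpeel := peel hρ w (φ s) hwφ G
    rw [show G - ρ⁻¹ • vecMulVec w (φ s ᵥ* G) = G' s by rw [hG']] at hpeel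
    have hd' : (G' s).det = ρ ^ m := by
      have := congrArg Matrix.det hpeel
      rw [det_mul, det_one_add_vecMulVec, hwφ, add_sub_cancel, hdet, pow_succ'] at this
      exact mul_left_cancel₀ hρ this
    rw [← hpeel]
    refine (ih W (G' s) (by omega) (hfix s) hs hd').cons (cov_refl h4 ha hb hab ?_ ?_ hwφ)
    · exact fun e => hwW (e ▸ W.zero_mem)
    · exact fun e => by
        have := hφv s
        rw [e, zero_dotProduct] at this
        exact zero_ne_one this

/-- `n` conjugates of a scalar plus a matrix of rank one give every nonscalar matrix. -/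
theorem cov_rankOne (h4 : 4 ≤ Fintype.card F) (hn : 2 ≤ n) (lam : F) (a b : Fin n → F) (hlam : lam ≠ 0)
    (ha : a ≠ 0) (hb : b ≠ 0) (hx0 : (lam • 1 + vecMulVec a b).det ≠ 0) (g : Matrix (Fin n) (Fin n) F)
    (hg : ∀ c : F, g ≠ c • 1) (hdet : g.det = (lam • 1 + vecMulVec a b).det ^ n) :
    Cov ⊤ (lam • 1 + vecMulVec a b) n g := by
  have hX : lam • (1 : Matrix (Fin n) (Fin n) F) + vecMulVec a b = lam • (1 + vecMulVec (lam⁻¹ • a) b) := by
    rw [smul_add, smul_vecMulVec, smul_inv_smul₀ hlam]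
  obtain ⟨ρ, hρ⟩ : ∃ ρ, ρ = 1 + b ⬝ᵥ (lam⁻¹ • a) := ⟨_, rfl⟩
  rw [hX, det_smul, det_one_add_vecMulVec, Fintype.card_fin, ← hρ] at hx0 hdet
  obtain ⟨-, hρ0⟩ := mul_ne_zero_iff.mp hx0
  have hl : (lam ^ n) ≠ 0 := pow_ne_zero _ hlam
  have hc : Cov ⊤ (1 + vecMulVec (lam⁻¹ • a) b) n ((lam ^ n)⁻¹ • g) := by
    refine cov_fixed h4 hρ0 (smul_ne_zero (inv_ne_zero hlam) ha) hb (by rw [hρ]; ring) n hn ⊥ _
      (by simp) (fun u hu => by rw [Submodule.mem_bot] at hu; rw [hu, mulVec_zero]) ?_ ?_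
    · rintro ⟨c, hc⟩
      refine hg (lam ^ n * c) (Matrix.ext_of_mulVec_single fun j => ?_)
      have := hc (Pi.single j 1)
      rw [Submodule.mem_bot, sub_eq_zero, smul_mulVec, inv_smul_eq_iff₀ hl] at this
      rw [this, smul_mulVec, one_mulVec, smul_smul]
    · rw [det_smul, hdet, Fintype.card_fin, mul_pow, inv_pow]
      field_simp
  have := cov_smul_base lam hc
  rwa [← hX, smul_inv_smul₀ hl] at this

/-- `n` conjugates of a scalar plus a matrix of rank one give the determinant as a scalar. -/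
theorem cov_rankOne_scalar (h4 : 4 ≤ Fintype.card F) (hn : 2 ≤ n) (lam : F) (a b : Fin n → F)
    (hlam : lam ≠ 0) (ha : a ≠ 0) (hb : b ≠ 0) :
    Cov ⊤ (lam • 1 + vecMulVec a b) n ((lam • 1 + vecMulVec a b).det • 1) := by
  have hX : lam • (1 : Matrix (Fin n) (Fin n) F) + vecMulVec a b = lam • (1 + vecMulVec (lam⁻¹ • a) b) := by
    rw [smul_add, smul_vecMulVec, smul_inv_smul₀ hlam]
  rcases eq_or_ne (b ⬝ᵥ a) 0 with h0 | h0
  · have hN : vecMulVec (lam⁻¹ • a) b * vecMulVec (lam⁻¹ • a) b = 0 := by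
      rw [vecMulVec_mul_vecMulVec, dotProduct_smul, h0, smul_zero, zero_smul, vecMulVec_zero]
    rw [hX, det_smul, det_one_add_vecMulVec, dotProduct_smul, h0, smul_zero, add_zero, mul_one,
      Fintype.card_fin]
    exact cov_sq_zero h4 hn _ hN lam
  · obtain ⟨i, hi⟩ : ∃ i : Fin n, i.val = 0 := ⟨⟨0, by omega⟩, rfl⟩
    obtain ⟨d, hd⟩ : ∃ d : Fin n → F, d = fun k => if k = i then lam + b ⬝ᵥ a else lam := ⟨_, rfl⟩
    have hdiag : diagonal d = lam • 1 + vecMulVec (Pi.single i 1) ((b ⬝ᵥ a) • Pi.single i 1) := by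
      ext k l
      rw [hd]
      rcases eq_or_ne k l with rfl | hkl
      · rcases eq_or_ne k i with rfl | hki
        · simp [vecMulVec_apply]
        · simp [vecMulVec_apply, hki]
      · rcases eq_or_ne k i with rfl | hki
        · simp [vecMulVec_apply, hkl, Ne.symm hkl]
        · simp [vecMulVec_apply, hkl, hki]
    have hs : Sim (lam • 1 + vecMulVec a b) (diagonal d) := by
      rw [hdiag]
      exact sim_rankOne h4 lam ha hb (by simp) (smul_ne_zero h0 (by simp)) (by simp)
    have := (cov_diag_scalar d).base (simIn_top_iff.2 hs)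
    rwa [← det_diagonal, ← hs.det_eq] at this

end CfsgLib.CoverPSL
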