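import Cfsg.Agent.CoverPSL.ThreeBase
import Cfsg.Agent.CoverPSL.GL2

/-!
# Three conjugates in `GL₃`

Three conjugates of a nonscalar matrix give every matrix of the right determinant which is not scalar,
and the scalar `det x`.
-/

set_option autoImplicit false

namespace CfsgLib.CoverPSL.Three

open Matrix Polynomial CfsgLib.OreSL

variable {F : Type*} [Field F]

theorem kry_det_of_isCyc {A : Matrix (Fin 3) (Fin 3) F} (h : IsCyc A) : ∃ v, (kry A v).det ≠ 0 := by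
  obtain ⟨v, hv⟩ := h
  refine ⟨v, ?_⟩
  have e : (fun i : Fin 3 => A ^ (i : ℕ) *ᵥ v) = (kry A v).col := by
    funext j i
    fin_cases j <;> simp [kry, Matrix.col, pow_succ, mulVec_mulVec]
  rw [e] at hv
  exact ((Matrix.isUnit_iff_isUnit_det _).mp (Matrix.linearIndependent_cols_iff_isUnit.mp hv)).ne_zero

theorem isCyc_of_sim {A B : Matrix (Fin 3) (Fin 3) F} (h : Sim A B) (hA : IsCyc A) : IsCyc B := by
  obtain ⟨P, hP, e⟩ := h
  obtain ⟨v, hv⟩ := kry_det_of_isCyc hA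
  refine isCyc_of_kry (P *ᵥ v) ?_
  rw [kry_conj e, det_mul]
  exact mul_ne_zero hP hv

theorem isCyc_smul {A : Matrix (Fin 3) (Fin 3) F} {c : F} (hc : c ≠ 0) (hA : IsCyc A) : IsCyc (c • A) := by
  obtain ⟨v, hv⟩ := kry_det_of_isCyc hA
  refine isCyc_of_kry v (ne_of_eq_of_ne ?_ (mul_ne_zero (pow_ne_zero 3 hc) hv))
  have e : kry (c • A) v = kry A v * !![1, 0, 0; 0, c, 0; 0, 0, c ^ 2] := by
    ext i j
    fin_cases j <;>
      simp [kry, Matrix.mul_apply, Fin.sum_univ_three, smul_mulVec, mulVec_smul, -mulVec_mulVec] <;> ring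
  rw [e, det_mul, det_fin_three (!![1, 0, 0; 0, c, 0; 0, 0, c ^ 2])]
  simp
  ring

theorem rankOne_det {σ : F} (a b : Fin 3 → F) (h : (σ • (1 : Matrix (Fin 3) (Fin 3) F) + vecMulVec a b).det ≠ 0) :
    σ ≠ 0 := by
  rintro rfl
  refine h ?_
  simp [det_fin_three, vecMulVec_apply]
  ring

variable [Fintype F]

theorem sim_rankOne_det (h4 : 4 ≤ Fintype.card F) {σ : F} (hσ : σ ≠ 0) {a b a' b' : Fin 3 → F} (ha : a ≠ 0)
    (hb : b ≠ 0) (ha' : a' ≠ 0) (hb' : b' ≠ 0)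
    (h : (σ • (1 : Matrix (Fin 3) (Fin 3) F) + vecMulVec a b).det = (σ • (1 : Matrix (Fin 3) (Fin 3) F) + vecMulVec a' b').det) :
    Sim (σ • (1 : Matrix (Fin 3) (Fin 3) F) + vecMulVec a b) (σ • 1 + vecMulVec a' b') := by
  refine sim_rankOne h4 σ ha hb ha' hb' ?_
  rw [det_smul_add_vecMulVec hσ, det_smul_add_vecMulVec hσ] at h
  have h2 := add_left_cancel (mul_left_cancel₀ (pow_ne_zero _ hσ) h)
  field_simp at h2
  exact h2

omit [Fintype F] in
theorem split_sim {x h0 y h g : Matrix (Fin 3) (Fin 3) F} (hy : Sim x y) (hh : Sim h0 h) (hg : Sim (y * h) g) :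
    ∃ y' h', Sim x y' ∧ Sim h0 h' ∧ g = y' * h' := by
  obtain ⟨R, rfl⟩ := exists_conj_of_sim hg
  refine ⟨_, _, hy.trans (simIn_top_iff.1 (SimIn.conj R (Subgroup.mem_top _) y)),
    hh.trans (simIn_top_iff.1 (SimIn.conj R (Subgroup.mem_top _) h)), (mul_conj R y h).symm⟩

/-- A cyclic matrix is a conjugate of `x` times a conjugate of a matrix with the root one. -/
theorem split_cyc (h4 : 4 ≤ Fintype.card F) {x g : Matrix (Fin 3) (Fin 3) F} (hx : IsCyc x) (hx0 : x.det ≠ 0)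
    (hg : IsCyc g) {D : F} (hdet : g.det = x.det * D) (T : F) :
    ∃ y h, Sim x y ∧ Sim (rootForm 1 T D) h ∧ g = y * h := by
  obtain ⟨hCc, hC1, hC2, hC3⟩ := comp3_spec x.trace (sec x) x.det
  have sx : Sim x (comp3 x.trace (sec x) x.det) := sim_of_data hx hCc hC1.symm hC2.symm hC3.symm
  obtain ⟨hJc, hJC, hCJ, -⟩ := inv3_spec x.trace (sec x) hx0 (one_ne_zero (α := F))
  rw [one_smul] at hJC hCJ
  generalize hJ : inv3 x.trace (sec x) x.det 1 = J at hJc hJC hCJ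
  generalize hC : comp3 x.trace (sec x) x.det = C at hCc hC3 sx hJC hCJ
  have hJd : J.det * x.det = 1 := by rw [← hC3, ← det_mul, hJC, det_one]
  have hJ0 : J.det ≠ 0 := fun e => by rw [e, zero_mul] at hJd; exact zero_ne_one hJd
  obtain ⟨J', G', hJ', hG', hW⟩ := exists_mul_root h4 hJc hg hJ0 (r := 1) (T := T) (D := D) one_ne_zero
    (by rw [hdet, one_mul, ← mul_assoc, hJd, one_mul])
  obtain ⟨Q, rfl⟩ := exists_conj_of_sim hJ'
  refine split_sim (sx.trans (simIn_top_iff.1 (SimIn.conj Q (Subgroup.mem_top _) C))) hW.symm ?_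
  rw [← Matrix.mul_assoc, mul_conj, hCJ, Matrix.mul_one, Units.mul_inv, Matrix.one_mul]
  exact hG'.symm

/-- The same for a scalar plus a matrix of rank one. -/
theorem split_rankOne (h4 : 4 ≤ Fintype.card F) {x : Matrix (Fin 3) (Fin 3) F} (hx : IsCyc x)
    (hx0 : x.det ≠ 0) {σ : F} {a b : Fin 3 → F} (ha : a ≠ 0) (hb : b ≠ 0) {D : F} (hD : D ≠ 0)
    (hdet : (σ • 1 + vecMulVec a b).det = x.det * D) {T : F} (hT : σ * (D + T) / D ≠ x.trace) :
    ∃ y h, Sim x y ∧ Sim (rootForm 1 T D) h ∧ σ • 1 + vecMulVec a b = y * h := by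
  have hσ := rankOne_det a b (by rw [hdet]; exact mul_ne_zero hx0 hD)
  obtain ⟨hCc, hC1, hC2, hC3⟩ := comp3_spec (1 + T) (D + T) D
  obtain ⟨hRc, hR1, hR2, hR3⟩ := rootForm_spec 1 T D
  rw [one_mul] at hR2 hR3
  obtain ⟨hMc, hMC, -, hMt⟩ := inv3_spec (1 + T) (D + T) hD hσ
  generalize inv3 (1 + T) (D + T) D σ = M at hMc hMC hMt
  obtain ⟨w, ψ, hw, hψ, hc', hp⟩ := exists_rankOne_perturb (by norm_num) hMc (Matrix.charpoly_monic x)
    (by rw [Matrix.charpoly_natDegree_eq_dim, Fintype.card_fin])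
    (fun e => hT (by rw [← hMt]; exact (data_of_charpoly e).1))
  refine split_sim (sim_of_isCyc hx hc' hp.symm)
    (sim_of_data hRc hCc (by rw [hR1, hC1]) (by rw [hR2, hC2]) (by rw [hR3, hC3])) ?_
  have e : (M + vecMulVec w ψ) * comp3 (1 + T) (D + T) D = σ • 1 + vecMulVec w (ψ ᵥ* comp3 (1 + T) (D + T) D) := by
    rw [Matrix.add_mul, hMC, vecMulVec_mul]
  rw [e]
  refine sim_rankOne_det h4 hσ hw (fun e0 => ?_) ha hb ?_
  · exact hD (by
      rw [← hC3]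
      exact Matrix.exists_vecMul_eq_zero_iff.mp ⟨ψ, hψ, e0⟩)
  · rw [← e, det_mul, hC3, (data_of_charpoly hp).2.2, hdet]

theorem cov_two_root (h4 : 4 ≤ Fintype.card F) {x : Matrix (Fin 3) (Fin 3) F} (hx : IsCyc x) (hx0 : x.det ≠ 0)
    {r T D : F} (hr : r ≠ 0) (hdet : r * D = x.det ^ 2) : Cov ⊤ x 2 (rootForm r T D) := by
  obtain ⟨A', B', hA, hB, hW⟩ := exists_mul_root h4 hx hx hx0 hr (T := T) (by rw [hdet, sq])
  exact ((cov_one (simIn_top_iff.2 hB)).cons (simIn_top_iff.2 hA)).conj_top hW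

theorem cov_cyc (h4 : 4 ≤ Fintype.card F) {x g : Matrix (Fin 3) (Fin 3) F} (hx : IsCyc x) (hx0 : x.det ≠ 0)
    (hg : ∀ c : F, g ≠ c • 1) (hdet : g.det = x.det ^ 3) : Cov ⊤ x 3 g := by
  have hd : g.det = x.det * x.det ^ 2 := by rw [hdet]; ring
  have hD : x.det ^ 2 ≠ 0 := pow_ne_zero _ hx0
  have fin : ∀ T, (∃ y h, Sim x y ∧ Sim (rootForm 1 T (x.det ^ 2)) h ∧ g = y * h) → Cov ⊤ x 3 g := by
    rintro T ⟨y, h, hy, hh, rfl⟩
    exact ((cov_two_root h4 hx hx0 one_ne_zero (one_mul _)).conj_top hh).cons (simIn_top_iff.2 hy)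
  rcases cyc_or_rankOne hg with hc | ⟨σ, a, b, ha, hb, rfl⟩
  · exact fin 0 (split_cyc h4 hx hx0 hc hd 0)
  · have hσ := rankOne_det a b (by rw [hdet]; exact pow_ne_zero _ hx0)
    refine fin _ (split_rankOne h4 hx hx0 ha hb hD hd
      (T := x.det ^ 2 * x.trace / σ - x.det ^ 2 + 1) fun e => ?_)
    have h2 : σ / x.det ^ 2 = 0 := by
      field_simp at e ⊢
      linear_combination e
    exact div_ne_zero hσ hD h2

/-- The scalar as a cube of a product with a weighted three-cycle. -/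
theorem cov_cyc_scalar (h4 : 4 ≤ Fintype.card F) {x : Matrix (Fin 3) (Fin 3) F} (hx : IsCyc x)
    (hx0 : x.det ≠ 0) : Cov ⊤ x 3 (x.det • 1) := by
  obtain ⟨hSc, -, -, hS3⟩ := comp3_spec (0 : F) 0 x.det⁻¹
  obtain ⟨A, B, hA, hB, hW⟩ := exists_mul_root h4 hx hSc hx0 (r := 1) (T := -1) (D := 1) one_ne_zero
    (by rw [hS3, mul_inv_cancel₀ hx0, mul_one])
  have cube : ∀ {M N : Matrix (Fin 3) (Fin 3) F} {c : F}, Sim M N → M * M * M = c • 1 → N * N * N = c • 1 := by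
    intro M N c h e
    obtain ⟨Q, rfl⟩ := exists_conj_of_sim h
    rw [mul_conj, mul_conj, e, Matrix.mul_smul, Matrix.smul_mul, Matrix.mul_one, Units.mul_inv]
  have hB3 : B * B * B = x.det⁻¹ • 1 := cube hB (by
    ext i j
    fin_cases i <;> fin_cases j <;> simp [comp3, mul_apply, Fin.sum_univ_three, one_apply])
  have hAB3 : A * B * (A * B) * (A * B) = (1 : F) • 1 := cube hW.symm (by
    ext i j
    fin_cases i <;> fin_cases j <;> simp [rootForm, mul_apply, Fin.sum_univ_three, one_apply])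
  have hB0 : B.det ≠ 0 := by rw [← hB.det_eq, hS3]; exact inv_ne_zero hx0
  have k : ∀ M : Matrix (Fin 3) (Fin 3) F, B * (B * (B * M)) = x.det⁻¹ • M := fun M => by
    rw [← Matrix.mul_assoc, ← Matrix.mul_assoc, hB3, Matrix.smul_mul, Matrix.one_mul]
  have k0 : B * (B * B) = x.det⁻¹ • 1 := by rw [← Matrix.mul_assoc, hB3]
  have h2 : SimIn ⊤ x (x.det • (B * A * (B * B))) := simIn_top_iff.2 (hA.trans ⟨B, hB0, by
    simp only [Matrix.smul_mul, Matrix.mul_assoc, k0, Matrix.mul_smul, Matrix.mul_one, smul_smul,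
      mul_inv_cancel₀ hx0, one_smul]⟩)
  have h3 : SimIn ⊤ x (x.det • (B * B * A * B)) := simIn_top_iff.2 (hA.trans ⟨B * B, by
    rw [det_mul]; exact mul_ne_zero hB0 hB0, by
    simp only [Matrix.smul_mul, Matrix.mul_assoc, k0, Matrix.mul_smul, Matrix.mul_one, smul_smul,
      mul_inv_cancel₀ hx0, one_smul]⟩)
  have e : x.det • (1 : Matrix (Fin 3) (Fin 3) F) =
      A * (x.det • (B * A * (B * B)) * (x.det • (B * B * A * B))) := by
    rw [one_smul] at hAB3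
    conv_lhs => rw [← hAB3]
    simp only [Matrix.smul_mul, Matrix.mul_smul, Matrix.mul_assoc, k, smul_smul]
    rw [mul_inv_cancel₀ hx0, mul_one]
  rw [e]
  exact ((cov_one h3).cons h2).cons (simIn_top_iff.2 hA)

/-- Two conjugates of `l` plus a matrix of rank one give the cyclic matrices with root `l²`. -/
theorem cov_two_nc (h4 : 4 ≤ Fintype.card F) {l m : F} (hl : l ≠ 0) {a b : Fin 3 → F} (ha : a ≠ 0) (hb : b ≠ 0)
    (hab : b ⬝ᵥ a = m - l) (T : F) :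
    Cov ⊤ (l • (1 : Matrix (Fin 3) (Fin 3) F) + vecMulVec a b) 2 (rootForm (l ^ 2) T (l ^ 2 * m ^ 2)) := by
  obtain ⟨b1, hb1⟩ : ∃ b1 : Fin 3 → F,
      b1 = ![l⁻¹, m - l, (-(l ^ 2 * m ^ 2) + l * m * (T - l ^ 2)) / l] := ⟨_, rfl⟩
  obtain ⟨b2, hb2⟩ : ∃ b2 : Fin 3 → F, b2 = ![0, l⁻¹, (T - l ^ 2) / l] := ⟨_, rfl⟩
  have hs : ∀ a' b' : Fin 3 → F, a' ≠ 0 → b' ≠ 0 → b' ⬝ᵥ a' = m - l →
      SimIn ⊤ (l • (1 : Matrix (Fin 3) (Fin 3) F) + vecMulVec a b) (l • 1 + vecMulVec a' b') :=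
    fun a' b' h1 h2 h => simIn_top_iff.2 (sim_rankOne h4 l ha hb h1 h2 (hab.trans h.symm))
  have hy := hs ![0, 1, 0] b1 (fun e => by simpa using congrFun e 1)
    (fun e => inv_ne_zero hl (by simpa [hb1] using congrFun e 0))
    (by simp [hb1, dotProduct, Fin.sum_univ_three])
  have hy' := hs ![0, l * m - T, 1] b2 (fun e => by simpa using congrFun e 2)
    (fun e => inv_ne_zero hl (by simpa [hb2] using congrFun e 1))
    (by simp [hb2, dotProduct, Fin.sum_univ_three]; field_simp; ring)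
  have e : rootForm (l ^ 2) T (l ^ 2 * m ^ 2) =
      (l • 1 + vecMulVec ![0, 1, 0] b1) * (l • 1 + vecMulVec ![0, l * m - T, 1] b2) := by
    rw [hb1, hb2]
    ext i j
    fin_cases i <;> fin_cases j <;>
      simp [rootForm, mul_apply, Fin.sum_univ_three, vecMulVec_apply, one_apply] <;> field_simp <;> ring
  rw [e]
  exact (cov_one hy').cons hy

theorem cov_nc (h4 : 4 ≤ Fintype.card F) {l m : F} (hl : l ≠ 0) (hm : m ≠ 0) {a b : Fin 3 → F} (ha : a ≠ 0)
    (hb : b ≠ 0) (hab : b ⬝ᵥ a = m - l) {g : Matrix (Fin 3) (Fin 3) F} (hg : ∀ c : F, g ≠ c • 1)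
    (hdet : g.det = (l ^ 2 * m) ^ 3) : Cov ⊤ (l • 1 + vecMulVec a b) 3 g := by
  obtain ⟨x, hx⟩ : ∃ x : Matrix (Fin 3) (Fin 3) F, x = l • 1 + vecMulVec a b := ⟨_, rfl⟩
  rw [← hx]
  have hx3 : x.det = l ^ 2 * m := by
    rw [hx, det_smul_add_vecMulVec hl, hab]
    field_simp
    ring
  have hxs : ∀ a' b' : Fin 3 → F, a' ≠ 0 → b' ≠ 0 →
      (l • (1 : Matrix (Fin 3) (Fin 3) F) + vecMulVec a' b').det = l ^ 2 * m →
      SimIn ⊤ x (l • 1 + vecMulVec a' b') := fun a' b' h1 h2 h =>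
    simIn_top_iff.2 (hx ▸ sim_rankOne_det h4 hl ha hb h1 h2 (by rw [← hx, hx3, h]))
  have h2 : ∀ h : Matrix (Fin 3) (Fin 3) F, IsCyc h → h.charpoly.eval (l ^ 2) = 0 →
      h.det = l ^ 2 * (l ^ 2 * m ^ 2) → Cov ⊤ x 2 h := by
    intro h hc hr hd
    have s := sim_rootForm hc (pow_ne_zero 2 hl) hr
    rw [hd, mul_div_cancel_left₀ _ (pow_ne_zero 2 hl)] at s
    exact (hx ▸ cov_two_nc h4 hl ha hb hab _).conj_top s.symm
  rcases cyc_or_rankOne hg with hc | ⟨σ, p, q, hp, hq, rfl⟩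
  · obtain ⟨T, hT⟩ : ∃ T, T = (l⁻¹ • g).trace - l ^ 2 + 1 := ⟨_, rfl⟩
    obtain ⟨hRc, hR1, -, hR3⟩ := rootForm_spec (l ^ 2) T (l ^ 2 * m ^ 2)
    obtain ⟨w, ψ, hw, hψ, hMc, hMp⟩ := exists_rankOne_perturb (by norm_num) (isCyc_smul (inv_ne_zero hl) hc)
      (Matrix.charpoly_monic (rootForm (l ^ 2) T (l ^ 2 * m ^ 2)))
      (by rw [Matrix.charpoly_natDegree_eq_dim, Fintype.card_fin])
      (fun e => by
        have := (data_of_charpoly e).1
        rw [hR1, hT] at this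
        exact one_ne_zero (α := F) (by linear_combination -this))
    generalize hM : l⁻¹ • g + vecMulVec w ψ = M at hMc hMp
    have hMd : M.det = l ^ 2 * (l ^ 2 * m ^ 2) := by rw [(data_of_charpoly hMp).2.2, hR3]
    have hMu : IsUnit M.det := isUnit_iff_ne_zero.2 (by
      rw [hMd]
      exact mul_ne_zero (pow_ne_zero _ hl) (mul_ne_zero (pow_ne_zero _ hl) (pow_ne_zero _ hm)))
    have hroot : M.charpoly.eval (l ^ 2) = 0 := by
      rw [hMp]
      exact (eval_charpoly_three _ _).trans (by simp [rootForm, sec, trace_fin_three, det_fin_three]; ring)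
    have hgM : g * M⁻¹ = l • 1 + vecMulVec (-l • w) (ψ ᵥ* M⁻¹) := by
      have e : g = l • M + vecMulVec (-l • w) ψ := by
        rw [← hM, smul_add, smul_inv_smul₀ hl, smul_vecMulVec, neg_smul, add_assoc, add_neg_cancel, add_zero]
      conv_lhs => rw [e]
      rw [Matrix.add_mul, Matrix.smul_mul, mul_nonsing_inv _ hMu, vecMulVec_mul]
    have e : g = g * M⁻¹ * M := by rw [Matrix.mul_assoc, nonsing_inv_mul _ hMu, Matrix.mul_one]
    rw [e]
    refine (h2 M hMc hroot hMd).cons (hgM ▸ hxs _ _ ?_ ?_ ?_)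
    · exact smul_ne_zero (neg_ne_zero.2 hl) hw
    · intro e0
      have := congrArg (· ᵥ* M) e0
      simp only [vecMul_vecMul, nonsing_inv_mul _ hMu, vecMul_one, zero_vecMul] at this
      exact hψ this
    · rw [← hgM]
      have hd := congrArg Matrix.det e
      rw [det_mul, hdet, hMd] at hd
      refine mul_right_cancel₀ (hMd ▸ hMu.ne_zero) ?_
      rw [← hd]
      ring
  · have hσ := rankOne_det p q (by rw [hdet]; exact pow_ne_zero _ (mul_ne_zero (pow_ne_zero _ hl) hm))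
    obtain ⟨τ, hτ⟩ : ∃ τ, τ = (l ^ 2 * m) ^ 3 / σ ^ 3 - 1 := ⟨_, rfl⟩
    obtain ⟨c, hc⟩ : ∃ c, c = σ / l := ⟨_, rfl⟩
    obtain ⟨w0, hw0⟩ : ∃ w0, w0 = l / m - 1 := ⟨_, rfl⟩
    obtain ⟨ν, hν⟩ : ∃ ν, ν = l ^ 2 / c - 1 := ⟨_, rfl⟩
    obtain ⟨w1, hw1⟩ : ∃ w1, w1 = (w0 - ν) * (τ - ν) / (1 + ν) := ⟨_, rfl⟩
    have hc0 : c ≠ 0 := hc ▸ div_ne_zero hσ hl
    have hν' : c * (1 + ν) = l ^ 2 := by rw [hν]; field_simp; ring
    have hν0 : 1 + ν ≠ 0 := fun e => pow_ne_zero 2 hl (by rw [← hν', e, mul_zero])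
    have hw1' : w1 * (1 + ν) = (w0 - ν) * (τ - ν) := by rw [hw1]; field_simp
    obtain ⟨h, hh⟩ : ∃ h : Matrix (Fin 3) (Fin 3) F,
        h = c • !![1 + w0 + w1, w1 * (1 + τ), 1; 1, 1 + τ, 0; 0, 0, 1] := ⟨_, rfl⟩
    have hhd : h.det = l ^ 2 * (l ^ 2 * m ^ 2) := by
      rw [hh, hc, hw0, hτ]
      simp [det_fin_three]
      field_simp
      ring
    have hhc : IsCyc h := by
      rw [hh]
      refine isCyc_smul hc0 (isCyc_of_kry ![0, 0, 1] ?_)
      simp [kry, det_fin_three, dotProduct, Fin.sum_univ_three]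
    have hroot : h.charpoly.eval (l ^ 2) = 0 := by
      rw [eval_charpoly_three, hh, ← hν']
      simp [sec, trace_fin_three, det_fin_three]
      linear_combination -(c ^ 3 * ν) * hw1'
    obtain ⟨bG, hbG⟩ : ∃ bG : Fin 3 → F, bG = σ • ![1, τ, 0] := ⟨_, rfl⟩
    have hG : Sim ((l • 1 + vecMulVec ![1, 0, 0] (-m • ![w0, w1, 1])) * h) (σ • 1 + vecMulVec p q) := by
      have e : (l • 1 + vecMulVec ![1, 0, 0] (-m • ![w0, w1, 1])) * h = σ • 1 + vecMulVec ![0, 1, 0] bG := by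
        rw [hh, hbG, hw0, hc]
        ext i j
        fin_cases i <;> fin_cases j <;>
          simp [mul_apply, Fin.sum_univ_three, vecMulVec_apply, one_apply] <;> field_simp <;> ring
      rw [e]
      refine sim_rankOne_det h4 hσ (fun e => by simpa using congrFun e 1)
        (fun e => hσ (by simpa [hbG] using congrFun e 0)) hp hq ?_
      rw [hdet, det_smul_add_vecMulVec hσ, hbG, hτ]
      simp [dotProduct, Fin.sum_univ_three]
      field_simp
      ring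
    refine Cov.conj_top (((h2 h hhc hroot hhd).cons (hxs _ _ (fun e => by simpa using congrFun e 0) (fun e => hm (by simpa using congrFun e 2)) ?_))) hG
    rw [det_smul_add_vecMulVec hl, hw0]
    simp [dotProduct, Fin.sum_univ_three]
    field_simp
    ring

theorem cov_nc_scalar (h4 : 4 ≤ Fintype.card F) {l m : F} (hl : l ≠ 0) {a b : Fin 3 → F} (ha : a ≠ 0)
    (hb : b ≠ 0) (hab : b ⬝ᵥ a = m - l) : Cov ⊤ (l • 1 + vecMulVec a b) 3 ((l ^ 2 * m) • 1) := by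
  have hs : ∀ a' b' : Fin 3 → F, a' ≠ 0 → b' ≠ 0 → b' ⬝ᵥ a' = m - l →
      SimIn ⊤ (l • (1 : Matrix (Fin 3) (Fin 3) F) + vecMulVec a b) (l • 1 + vecMulVec a' b') :=
    fun a' b' h1 h2 h => simIn_top_iff.2 (sim_rankOne h4 l ha hb h1 h2 (hab.trans h.symm))
  rcases eq_or_ne m l with rfl | hml
  · obtain ⟨t, ht0, ht1⟩ := exists_two h4 (-1)
    have hs' : ∀ s : F, s ≠ 0 → SimIn ⊤ (m • (1 : Matrix (Fin 3) (Fin 3) F) + vecMulVec a b)
        (m • 1 + vecMulVec ![s, 0, 0] ![0, 1, 0]) := fun s hs0 => hs _ _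
      (fun e => hs0 (by simpa using congrFun e 0)) (fun e => by simpa using congrFun e 1)
      (by simp [dotProduct, Fin.sum_univ_three])
    have e : (m ^ 2 * m) • (1 : Matrix (Fin 3) (Fin 3) F) = (m • 1 + vecMulVec ![1, 0, 0] ![0, 1, 0]) *
        ((m • 1 + vecMulVec ![t, 0, 0] ![0, 1, 0]) * (m • 1 + vecMulVec ![-(1 + t), 0, 0] ![0, 1, 0])) := by
      ext i j
      fin_cases i <;> fin_cases j <;>
        simp [mul_apply, Fin.sum_univ_three, vecMulVec_apply, one_apply] <;> ring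
    rw [e]
    exact ((cov_one (hs' _ fun e => ht1 (by linear_combination -e))).cons (hs' _ ht0)).cons
      (hs' _ one_ne_zero)
  · have hd : m - l ≠ 0 := sub_ne_zero.2 hml
    have e : (l ^ 2 * m) • (1 : Matrix (Fin 3) (Fin 3) F) = (l • 1 + vecMulVec ![0, 0, 1] ![0, 0, m - l]) *
        ((l • 1 + vecMulVec ![0, 1, 0] ![0, m - l, 0]) * (l • 1 + vecMulVec ![1, 0, 0] ![m - l, 0, 0])) := by
      ext i j
      fin_cases i <;> fin_cases j <;>
        simp [mul_apply, Fin.sum_univ_three, vecMulVec_apply, one_apply] <;> ring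
    rw [e]
    refine ((cov_one (hs _ _ ?_ ?_ ?_)).cons (hs _ _ ?_ ?_ ?_)).cons (hs _ _ ?_ ?_ ?_)
    · exact fun e => by simpa using congrFun e 0
    · exact fun e => hd (by simpa using congrFun e 0)
    · simp [dotProduct, Fin.sum_univ_three]
    · exact fun e => by simpa using congrFun e 1
    · exact fun e => hd (by simpa using congrFun e 1)
    · simp [dotProduct, Fin.sum_univ_three]
    · exact fun e => by simpa using congrFun e 2
    · exact fun e => hd (by simpa using congrFun e 2)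
    · simp [dotProduct, Fin.sum_univ_three]

omit [Fintype F] in
/-- A nonscalar matrix which is not cyclic, in normal parameters. -/
theorem nc_data {x : Matrix (Fin 3) (Fin 3) F} {σ : F} {a b : Fin 3 → F}
    (e : x = σ • 1 + vecMulVec a b) (hx0 : x.det ≠ 0) :
    σ ≠ 0 ∧ σ + b ⬝ᵥ a ≠ 0 ∧ x.det = σ ^ 2 * (σ + b ⬝ᵥ a) := by
  subst e
  have hσ := rankOne_det a b hx0
  have hd : (σ • (1 : Matrix (Fin 3) (Fin 3) F) + vecMulVec a b).det = σ ^ 2 * (σ + b ⬝ᵥ a) := by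
    rw [det_smul_add_vecMulVec hσ]
    field_simp
  refine ⟨hσ, fun h => hx0 ?_, hd⟩
  rw [hd, h, mul_zero]

end CfsgLib.CoverPSL.Three

namespace CfsgLib.CoverPSL

open Matrix CfsgLib.OreSL Three

variable {F : Type*} [Field F] [Fintype F]

/-- Three conjugates give all nonscalar matrices. -/
theorem gl3_nonscalar (h4 : 4 ≤ Fintype.card F) (x g : Matrix (Fin 3) (Fin 3) F) (hx : ∀ c : F, x ≠ c • 1)
    (hx0 : x.det ≠ 0) (hg : ∀ c : F, g ≠ c • 1) (hdet : g.det = x.det ^ 3) : Cov ⊤ x 3 g := by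
  rcases cyc_or_rankOne hx with hc | ⟨σ, a, b, ha, hb, e⟩
  · exact cov_cyc h4 hc hx0 hg hdet
  · obtain ⟨hσ, hm, hd⟩ := nc_data e hx0
    rw [hd] at hdet
    exact e ▸ cov_nc h4 hσ hm ha hb (by ring) hg hdet

/-- Three conjugates give the scalar `det x`. -/
theorem gl3_scalar (h4 : 4 ≤ Fintype.card F) (x : Matrix (Fin 3) (Fin 3) F) (hx : ∀ c : F, x ≠ c • 1)
    (hx0 : x.det ≠ 0) : Cov ⊤ x 3 (x.det • 1) := by
  rcases cyc_or_rankOne hx with hc | ⟨σ, a, b, ha, hb, e⟩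
  · exact cov_cyc_scalar h4 hc hx0
  · obtain ⟨hσ, -, hd⟩ := nc_data e hx0
    rw [hd, e]
    exact cov_nc_scalar h4 hσ ha hb (by ring)

end CfsgLib.CoverPSL
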