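import Cfsg.Agent.CoverPSL.Select
import Cfsg.Agent.CoverPSL.ThreeGL
import Cfsg.Agent.CoverPSL.RankOne

/-!
# Products of `n` conjugates in `GL_n`

Every nonscalar matrix of the right determinant, and the scalar equal to the determinant of `x`, are products
of `n` conjugates of `x`.
-/

set_option autoImplicit false

namespace CfsgLib.CoverPSL

open Matrix Polynomial CfsgLib.OreSL CfsgLib.Sourour

variable {F : Type*} [Field F] {n N : ℕ}

/-- Powers are products of conjugates. -/
theorem cov_pow (x : Matrix (Fin n) (Fin n) F) : ∀ k, Cov ⊤ x k (x ^ k)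
  | 0 => by rw [pow_zero]; exact cov_zero
  | k + 1 => by rw [pow_succ']; exact (cov_pow x k).cons (SimIn.refl ⊤ x)

theorem cov_of_scalar (c : F) : Cov ⊤ (c • (1 : Matrix (Fin n) (Fin n) F)) n
    ((c • (1 : Matrix (Fin n) (Fin n) F)).det • 1) := by
  have h := cov_pow (c • (1 : Matrix (Fin n) (Fin n) F)) n
  rw [_root_.smul_pow, one_pow] at h
  rwa [det_smul, det_one, mul_one, Fintype.card_fin]

theorem exists_eq_smul_of_le_one (hn : n ≤ 1) (x : Matrix (Fin n) (Fin n) F) : ∃ c : F, x = c • 1 := by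
  have : Subsingleton (Fin n) := Fin.subsingleton_iff_le_one.mpr hn
  rcases isEmpty_or_nonempty (Fin n) with h | ⟨⟨i⟩⟩
  · exact ⟨0, Subsingleton.elim _ _⟩
  · refine ⟨x i i, Matrix.ext fun p q => ?_⟩
    rw [Subsingleton.elim p i, Subsingleton.elim q i]
    simp

theorem dsum_sub {a b : ℕ} (z z' : Matrix (Fin a) (Fin a) F) (w w' : Matrix (Fin b) (Fin b) F) :
    dsum z w - dsum z' w' = dsum (z - z') (w - w') := by
  ext i j
  simp only [dsum, Matrix.sub_apply, Matrix.reindex_apply, submatrix_apply]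
  generalize finSumFinEquiv.symm i = p
  generalize finSumFinEquiv.symm j = q
  rcases p with p | p <;> rcases q with q | q <;> simp

/-- A block with an eigenvalue `l` has determinant a power of `l`. -/
theorem Pure.det_eq {m : ℕ} {A : Matrix (Fin m) (Fin m) F} (hA : Pure A) {l : F}
    (h : A.charpoly.eval l = 0) : A.det = l ^ m := by
  rw [Matrix.det_eq_sign_charpoly_coeff, hA l h, coeff_zero_eq_eval_zero, Fintype.card_fin]
  simp only [eval_pow, eval_sub, eval_X, eval_C, zero_sub]
  rw [← mul_pow, neg_one_mul, neg_neg]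

theorem Pure.sq_zero {m : ℕ} {A : Matrix (Fin m) (Fin m) F} (hA : Pure A) (hm : m = 2) {l : F}
    (h : A.charpoly.eval l = 0) : (A - l • 1) * (A - l • 1) = 0 := by
  have h2 := Matrix.aeval_self_charpoly A
  rw [hA l h, show (X - C l) ^ m = (X - C l) ^ 2 by rw [hm], map_pow, map_sub, aeval_X, aeval_C,
    Algebra.algebraMap_eq_smul_one, sq] at h2
  exact h2

theorem out_of_noDiag {B : Fin N → Blk F} {x : Matrix (Fin n) (Fin n) F} (hrep : SimRep B Finset.univ x)
    (hx0 : x.det ≠ 0) {s : Finset (Fin N)} (hs : blocksOf B ⊆ s) {L : Set (F × F)}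
    (hL : ∀ v : F, v ≠ 0 → (v, v ^ 2) ∉ L) (i : Fin N) (hi : i ∉ s) :
    (B i).m = 0 ∧ (val B i, val B i ^ 2) ∉ L :=
  ⟨mem_out hs hi, hL _ (val_ne_zero hrep hx0 (mem_out hs hi))⟩

theorem out_of_const {B : Fin N → Blk F} {l : F} (hl : ∀ i ∈ linesOf B, val B i = l) {s : Finset (Fin N)}
    (hs : blocksOf B ⊆ s) {L : Set (F × F)} (hL : (l, l ^ 2) ∉ L) (i : Fin N) (hi : i ∉ s) :
    (B i).m = 0 ∧ (val B i, val B i ^ 2) ∉ L := by
  refine ⟨mem_out hs hi, ?_⟩
  rwa [hl i (mem_linesOf.mpr (mem_out hs hi))]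

theorem line_of_const {B : Fin N → Blk F} {l : F} (hl : ∀ i ∈ linesOf B, val B i = l) {i : Fin N}
    (hi : i ∈ linesOf B) : Line B i l :=
  hl i hi ▸ line_val (mem_linesOf.mp hi)

theorem lines_eq_univ {B : Fin N → Blk F} {s : Finset (Fin N)} (h : linesOf B ⊆ s) (hb : blocksOf B ⊆ s) :
    s = Finset.univ :=
  Finset.eq_univ_iff_forall.mpr fun i => by
    rcases Nat.eq_zero_or_pos (B i).m with h0 | h0
    · exact h (mem_linesOf.mpr h0)
    · exact hb (mem_blocksOf.mpr h0)

variable [Fintype F]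

/-- A wide matrix has a base of size at least four. -/
theorem exists_base_four (h4 : 4 ≤ Fintype.card F) (hn : 4 ≤ n) {x : Matrix (Fin n) (Fin n) F}
    (hx0 : x.det ≠ 0) (hw : Wide x) {B : Fin N → Blk F} (hrep : SimRep B Finset.univ x)
    (hB : ∀ i, OneRoot (B i).mat ∧ Pure (B i).mat) :
    ∃ s L, Have B s L ∧ 4 ≤ size B s ∧ ∀ i, i ∉ s → (B i).m = 0 ∧ (val B i, val B i ^ 2) ∉ L := by
  classical
  have hone := fun i => (hB i).1
  have hu := size_univ B
  rw [← hrep.rep_size] at hu
  have h2 := two_mul_card_blocks B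
  obtain ⟨b, hb⟩ : ∃ b, b = size B (blocksOf B) := ⟨_, rfl⟩
  rw [← hb] at hu h2
  rcases Nat.lt_or_ge b 4 with hlt | hge
  swap
  · refine ⟨blocksOf B, ∅, Have.blocks h4 ?_ fun i hi => ⟨hone i, mem_blocksOf.mp hi, hrep.det_ne_zero hx0 i⟩,
      by omega, out_of_noDiag hrep hx0 (subset_refl _) fun v _ => id⟩
    rw [Finset.nonempty_iff_ne_empty]
    intro e
    rw [e] at hb
    simp [size] at hb
    omega
  rcases eq_or_ne b 0 with rfl | hb0
  · have hbl : blocksOf B = ∅ := Finset.card_eq_zero.mp (by omega)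
    obtain ⟨i, j, k, l, hi, hj, hk, hl, hki, hkj, hli, hlj, hij, hkl⟩ :=
      exists_four_lines (B := B) (by omega) (lines_of_wide hrep hbl hw)
    obtain ⟨s, L, hL, hs, hh, hsz⟩ :=
      have_pairs_blocks h4 hx0 hrep hone hi hj hk hl hki hkj hli hlj hij hkl
    exact ⟨s, L, hh, by omega, out_of_noDiag hrep hx0 hs hL⟩
  have hb1 : b ≠ 1 := by
    intro e
    have : blocksOf B = ∅ := Finset.card_eq_zero.mp (by omega)
    rw [this] at hb
    simp [size] at hb
    omega
  obtain ⟨k, hk, hk1⟩ : ∃ k, b = k + 2 ∧ k ≤ 1 := ⟨b - 2, by omega, by omega⟩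
  obtain ⟨i, hi, him⟩ := blocks_eq_singleton (B := B) (k := k) (by omega) hk1
  rcases lines_cases B with ⟨p, q, hp, hq, hpq⟩ | ⟨l, hl⟩
  · obtain ⟨L, hL, hh, hsz⟩ := have_pair_blocks h4 hx0 hrep hone hp hq hpq
    exact ⟨_, L, hh, by omega, out_of_noDiag hrep hx0 Finset.subset_union_left hL⟩
  interval_cases k
  · -- a block of size two
    obtain ⟨j₁, hj₁, j₂, hj₂, hne⟩ := Finset.one_lt_card.mp (show 1 < (linesOf B).card by omega)
    have hroot : (B i).mat.charpoly.eval l ≠ 0 := fun e => not_wide_two hrep hi him hl e hw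
    have hline := line_of_const hl hj₁
    obtain ⟨L, hL, hh⟩ := Have.double h4 hline (line_of_const hl hj₂) hne
      (hl j₁ hj₁ ▸ val_ne_zero hrep hx0 (mem_linesOf.mp hj₁)) him (hrep.det_ne_zero hx0 i) hroot
    refine ⟨_, L, hh, ?_, out_of_const hl (by rw [hi]; simp) hL⟩
    have hne₁ : i ≠ j₁ := fun e => by have := mem_linesOf.mp hj₁; rw [← e] at this; omega
    have hne₂ : i ≠ j₂ := fun e => by have := mem_linesOf.mp hj₂; rw [← e] at this; omega
    rw [size, Finset.sum_insert (by simp [hne₁, hne₂]), Finset.sum_pair hne, him, mem_linesOf.mp hj₁,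
      mem_linesOf.mp hj₂]
    omega
  · -- a block of size three
    obtain ⟨j, hj⟩ := Finset.card_pos.mp (show 0 < (linesOf B).card by omega)
    have hh := Have.absorb h4 (i := i) (line_of_const hl hj) (hl j hj ▸ val_ne_zero hrep hx0 (mem_linesOf.mp hj))
      (hone i) (hB i).2 (by omega) (hrep.det_ne_zero hx0 i)
    refine ⟨_, _, hh, ?_, out_of_const hl (by rw [hi]; simp) fun e => e.2 rfl⟩
    have hne : i ≠ j := fun e => by have := mem_linesOf.mp hj; rw [← e] at this; omega
    rw [size, Finset.sum_pair hne, him, mem_linesOf.mp hj]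

/-- `n` conjugates give every nonscalar matrix. -/
theorem cov_nonscalar (h4 : 4 ≤ Fintype.card F) (x g : Matrix (Fin n) (Fin n) F) (hn : 3 ≤ n)
    (hx : ∀ c : F, x ≠ c • 1) (hx0 : x.det ≠ 0) (hg : ∀ c : F, g ≠ c • 1) (hdet : g.det = x.det ^ n) :
    Cov ⊤ x n g := by
  classical
  rcases eq_or_lt_of_le hn with rfl | hn4
  · exact gl3_nonscalar h4 x g hx hx0 hg hdet
  by_cases hw : Wide x
  swap
  · obtain ⟨σ, a, b, hσ, ha, hb, rfl⟩ := exists_rankOne_of_not_wide (by omega) hx hx0 hw
    exact cov_rankOne h4 (by omega) σ a b hσ ha hb hx0 g hg hdet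
  obtain ⟨M, B, hrep, hB⟩ := exists_simRep x
  obtain ⟨s, L, hh, hsz, hout⟩ := exists_base_four h4 (by omega) hx0 hw hrep hB
  exact (cov_of_base h4 hx0 hrep hh hsz hout).1 g hg hdet

/-- Five conjugates in dimension five. -/
theorem cov_whole_five (h4 : 4 ≤ Fintype.card F) {x : Matrix (Fin 5) (Fin 5) F} (hx0 : x.det ≠ 0)
    {B : Fin N → Blk F} (hrep : SimRep B Finset.univ x) {L : Set (F × F)} (h : Have B Finset.univ L) :
    Cov ⊤ x 5 (x.det • 1) := by
  obtain ⟨m, M, t, hR, hSq, -⟩ := h
  obtain rfl : m = 5 := hR.rep_size.trans hrep.rep_size.symm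
  exact cov_five h4 le_rfl hx0 (hSq.sim (hR.sim hrep)) (Or.inl rfl)
    (by rw [det_smul, det_one, mul_one, Fintype.card_fin])

/-- One cyclic block of size four. -/
theorem cov_block_four (h4 : 4 ≤ Fintype.card F) (A : Blk F) (hm : A.m = 3) (hone : OneRoot A.mat)
    (hd0 : A.mat.det ≠ 0) {x : Matrix (Fin 4) (Fin 4) F} {B : Fin N → Blk F} {i : Fin N} (hA : B i = A)
    (hbl : Finset.univ = ({i} : Finset (Fin N))) (hrep : SimRep B Finset.univ x) :
    Cov ⊤ x 4 (x.det • 1) := by
  have hR := simRep_singleton B i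
  rw [← hbl, hA] at hR
  obtain ⟨m, z, hc⟩ := A
  simp only at hm hone hd0 hR
  subst hm
  change Matrix (Fin (1 + 3)) (Fin (1 + 3)) F at z
  change IsCyc (m := 1 + 3) z at hc
  have hs : Sim z x := hR.sim hrep
  set δ := z.det with hδ
  obtain ⟨t, ht⟩ : ∃ t : Fin (1 + 3) → F, t = ![1, 1, δ, δ] := ⟨_, rfl⟩
  have ht0 : ∀ i, t i ≠ 0 := fun i => by rw [ht]; fin_cases i <;> simp [hd0]
  have hg : Grouped t := by
    intro i j hij e h
    rw [ht] at e ⊢
    fin_cases i <;> fin_cases j <;> simp_all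
  obtain ⟨r₀, hpair⟩ := block_pair h4 (k := 1) z hc hd0 hone t ht0 hg
    (by rw [ht, Fin.prod_univ_four]; simp [hδ, sq])
  obtain ⟨P, -, hM, -⟩ := hpair r₀ (Or.inl rfl)
  have hSq : Sq ⊤ Set.univ z t := fun r => ⟨P, Subgroup.mem_top _, hM, leftIn_univ _ _⟩
  have h := cov_four_scalar (hSq.sim hs) (Or.inl rfl) hd0 ht0 Fin.revPerm fun i => by
    rw [ht]
    fin_cases i <;> simp [Fin.revPerm, Fin.rev]
  rwa [← hs.det_eq]

/-- A block of size three over a line. -/
theorem cov_block_line (h4 : 4 ≤ Fintype.card F) (A : Blk F) (hm : A.m = 2) (hone : OneRoot A.mat)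
    (hd0 : A.mat.det ≠ 0) {x : Matrix (Fin 4) (Fin 4) F} {B : Fin N → Blk F} {i j : Fin N} (hA : B i = A)
    {l : F} (hj : Line B j l) (hl : l ≠ 0) (hne : i ≠ j) (huniv : ({i, j} : Finset (Fin N)) = Finset.univ)
    (hrep : SimRep B Finset.univ x) : Cov ⊤ x 4 (x.det • 1) := by
  classical
  have hR := simRep_singleton B i
  rw [hA] at hR
  obtain ⟨m₀, M₀, t₀, hR₀, hSq₀, hM₀⟩ := Have.line hj hl
  obtain rfl : m₀ = 1 := by
    have := hR₀.rep_size
    simpa [size, hj.1] using this
  obtain ⟨m, z, hc⟩ := A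
  simp only at hm hone hd0 hR
  subst hm
  change Matrix (Fin (0 + 3)) (Fin (0 + 3)) F at z
  change IsCyc (m := 0 + 3) z at hc
  set δ := z.det with hδ
  set a := δ / l with ha
  have ha0 : a ≠ 0 := div_ne_zero hd0 hl
  obtain ⟨t, ht⟩ : ∃ t : Fin (0 + 3) → F, t = ![a, a, l ^ 2] := ⟨_, rfl⟩
  obtain ⟨r₀, hpair⟩ := block_pair h4 (k := 0) z hc hd0 hone t
    (fun i => by rw [ht]; fin_cases i <;> simp [ha0, hl]) (by
      intro p q hpq e h
      rw [ht] at e ⊢
      fin_cases p <;> fin_cases q <;> simp_all) (by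
      rw [ht, Fin.prod_univ_three]
      simp [ha, hδ]
      field_simp)
  obtain ⟨P, -, hM, hN, -⟩ := hpair r₀ (Or.inl rfl)
  have hlink := Sq.link h4 hd0 P hM (leftIn_univ _ _)
    ⟨{a, l ^ 2}, Finset.card_le_two.trans (by norm_num), fun i => by rw [ht]; fin_cases i <;> simp⟩
    (fun v α β hv h1 h2 e => by
      obtain rfl : α = l := by
        by_cases hr : z.charpoly.eval l = 0
        · exact hone α l (root_of_eigen hv h1) hr
        · exact absurd e (by
            rintro e
            have := congrArg Prod.fst (Set.mem_singleton_iff.mp e)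
            simp at this
            exact hr (this ▸ root_of_eigen hv h1))
      refine hv (hN (fun b hb q hq => ?_) v α β h1 h2)
      rw [hone b α hb (root_of_eigen hv h1)] at *
      rw [ht]
      rfl) hM₀ hSq₀
  have hu := hR.union (Finset.disjoint_singleton.mpr hne) hR₀
  rw [← Finset.insert_eq, huniv] at hu
  have hs : Sim (dsum z M₀) x := hu.sim hrep
  -- the spectrum
  have ht₀ : t₀ 0 = l ^ 2 := by
    obtain ⟨Q, -, hQ, -⟩ := hSq₀ 1
    have h1 := hQ.prod_eq
    rw [Fin.prod_univ_one, det_mul, det_units_conj] at h1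
    rw [h1, ← sq]
    congr 1
    rw [(hR₀.sim hj.rep).det_eq]
    simp
  have hT : (Fin.append t t₀ : Fin 4 → F) = ![a, a, l ^ 2, l ^ 2] := by
    funext k
    rw [ht]
    fin_cases k
    exacts [rfl, rfl, rfl, ht₀]
  have hsq : Sq ⊤ Set.univ x (![a, a, l ^ 2, l ^ 2] : Fin 4 → F) := hT ▸ hlink.sim hs
  have h := cov_four_scalar hsq (Or.inl rfl) (mul_ne_zero hd0 hl)
    (fun i => by fin_cases i <;> simp [ha0, hl])
    ((Equiv.swap 0 2).trans (Equiv.swap 1 3) : Equiv.Perm (Fin 4)) fun i => by
      fin_cases i <;> simp [Equiv.swap_apply_def, ha] <;> field_simp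
  rwa [← hs.det_eq, det_dsum, (hR₀.sim hj.rep).det_eq, det_smul, det_one, mul_one, Fintype.card_fin, pow_one]

/-- Two blocks of size two with the same eigenvalue as all the lines. -/
theorem cov_square_zero_blocks (h4 : 4 ≤ Fintype.card F) (hn : 2 ≤ n) {x : Matrix (Fin n) (Fin n) F}
    {B : Fin N → Blk F} (hrep : SimRep B Finset.univ x) {i j : Fin N} (hij : i ≠ j)
    (hbl : blocksOf B = {i, j}) (hi : (B i).m = 1) (hj : (B j).m = 1) (hpi : Pure (B i).mat)
    (hpj : Pure (B j).mat) {l : F} (hl0 : l ≠ 0) (hl : ∀ p ∈ linesOf B, val B p = l)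
    (hri : (B i).mat.charpoly.eval l = 0) (hrj : (B j).mat.charpoly.eval l = 0) :
    Cov ⊤ x n (x.det • 1) := by
  classical
  have hlr := simRep_constLines (subset_refl (linesOf B)) hl
  have hd : _root_.Disjoint ({i} ∪ {j} : Finset (Fin N)) (linesOf B) := by
    rw [show ({i} ∪ {j} : Finset (Fin N)) = {i, j} from (Finset.insert_eq i {j}).symm, ← hbl]
    exact disjoint_blocks_lines (subset_refl _)
  have hu := ((simRep_singleton B i).union (Finset.disjoint_singleton.mpr hij) (simRep_singleton B j)).union hd hlr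
  rw [lines_eq_univ (s := {i} ∪ {j} ∪ linesOf B) Finset.subset_union_right
    (by rw [hbl, Finset.insert_eq]; exact Finset.subset_union_left)] at hu
  have hn' := hu.rep_size.trans hrep.rep_size.symm
  subst hn'
  have hs := hu.sim hrep
  set k := (linesOf B).card
  obtain ⟨Q, hQ⟩ := exists_conj_of_sim hs
  set Y := dsum (dsum (B i).mat (B j).mat) (l • (1 : Matrix (Fin k) (Fin k) F)) with hY
  have hsq : (Y - l • 1) * (Y - l • 1) = 0 := by
    rw [hY, ← dsum_smul_one, dsum_sub, ← dsum_smul_one, dsum_sub, dsum_mul, dsum_mul,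
      hpi.sq_zero (by omega) hri, hpj.sq_zero (by omega) hrj, sub_self, Matrix.mul_zero]
    have e : dsum (0 : Matrix (Fin ((B i).m + 1)) (Fin ((B i).m + 1)) F)
        (0 : Matrix (Fin ((B j).m + 1)) (Fin ((B j).m + 1)) F) = 0 := by simp [dsum]
    rw [e]
    simp [dsum]
  set Nx := l⁻¹ • (Y - l • 1)
  have hY' : Y = l • (1 + Nx) := by rw [smul_add, smul_inv_smul₀ hl0]; abel
  have hdet : Y.det = l ^ ((B i).m + 1 + ((B j).m + 1) + k) := by
    rw [hY, det_dsum, det_dsum, hpi.det_eq hri, hpj.det_eq hrj, det_smul, det_one, mul_one, Fintype.card_fin,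
      ← pow_add, ← pow_add]
  have h := cov_sq_zero h4 hn Nx (by rw [Matrix.smul_mul, Matrix.mul_smul, hsq, smul_zero, smul_zero]) l
  rw [← hY', ← hdet] at h
  rw [← hs.det_eq]
  exact h.base (simIn_top_iff.2 hs.symm)

/-- Four lines or blocks with every eigenvalue rare. -/
theorem cov_scalar_four (h4 : 4 ≤ Fintype.card F) {x : Matrix (Fin 4) (Fin 4) F} (hx0 : x.det ≠ 0)
    {B : Fin N → Blk F} (hrep : SimRep B Finset.univ x) (hB : ∀ i, OneRoot (B i).mat ∧ Pure (B i).mat)
    (hb : 2 ≤ size B (blocksOf B)) : Cov ⊤ x 4 (x.det • 1) := by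
  classical
  have hu := size_univ B
  rw [← hrep.rep_size] at hu
  have pairs : ∀ (z w : Matrix (Fin 2) (Fin 2) F), Sim (dsum z w) x → Cov ⊤ x 4 (x.det • 1) := fun z w h => by
    rw [← h.det_eq, det_dsum]
    exact (cov_pairs z w).base (simIn_top_iff.2 h.symm)
  rcases (show size B (blocksOf B) = 2 ∨ size B (blocksOf B) = 3 ∨ size B (blocksOf B) = 4 by omega) with
    hb | hb | hb
  · obtain ⟨i, hi, him⟩ := blocks_eq_singleton (B := B) (k := 0) (by omega) (by omega)
    obtain ⟨p, q, hpq, hlines⟩ := Finset.card_eq_two.mp (show (linesOf B).card = 2 by omega)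
    have hp : p ∈ linesOf B := by rw [hlines]; simp
    have hq : q ∈ linesOf B := by rw [hlines]; simp
    have h2 := simRep_pair hpq (line_val (mem_linesOf.mp hp)) (line_val (mem_linesOf.mp hq))
    have hd : _root_.Disjoint ({i} : Finset (Fin N)) {p, q} := by
      rw [← hi, ← hlines]; exact disjoint_blocks_lines (subset_refl _)
    have hR := simRep_singleton B i
    generalize B i = A at him hR
    obtain ⟨m, z, hc⟩ := A
    simp only at him hR
    subst him
    have hu' := hR.union hd h2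
    rw [lines_eq_univ (s := {i} ∪ {p, q}) (by rw [hlines]; exact Finset.subset_union_right)
      (by rw [hi]; exact Finset.subset_union_left)] at hu'
    exact pairs _ _ (hu'.sim hrep)
  · obtain ⟨i, hi, him⟩ := blocks_eq_singleton (B := B) (k := 1) (by omega) le_rfl
    obtain ⟨j, hlines⟩ := Finset.card_eq_one.mp (show (linesOf B).card = 1 by omega)
    have hj : j ∈ linesOf B := by rw [hlines]; simp
    refine cov_block_line h4 (B i) him (hB i).1 (hrep.det_ne_zero hx0 i) rfl (line_val (mem_linesOf.mp hj))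
      (val_ne_zero hrep hx0 (mem_linesOf.mp hj)) (fun e => ?_) ?_ hrep
    · have := mem_linesOf.mp hj
      rw [← e] at this
      omega
    · exact lines_eq_univ (by rw [hlines]; simp) (by rw [hi]; simp)
  · rcases blocks_of_four (B := B) hb with ⟨i, hi, him⟩ | ⟨i, j, hij, hs, him, hjm⟩
    · refine cov_block_four h4 (B i) him (hB i).1 (hrep.det_ne_zero hx0 i) rfl ?_ hrep
      exact (lines_eq_univ (by rw [Finset.card_eq_zero.mp (show (linesOf B).card = 0 by omega)]; simp)
        (by rw [hi])).symm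
    · have hR := (simRep_singleton B i).union (Finset.disjoint_singleton.mpr hij) (simRep_singleton B j)
      rw [lines_eq_univ (s := {i} ∪ {j}) (by rw [Finset.card_eq_zero.mp (show (linesOf B).card = 0 by omega)]; simp)
        (by rw [hs, Finset.insert_eq])] at hR
      generalize B i = A at him hR
      generalize B j = A' at hjm hR
      obtain ⟨m, z, hc⟩ := A
      obtain ⟨m', z', hc'⟩ := A'
      simp only at him hjm hR
      subst him hjm
      exact pairs _ _ (hR.sim hrep)

/-- The scalar when every eigenvalue is rare among the lines. -/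
theorem cov_scalar_rare (h4 : 4 ≤ Fintype.card F) [DecidableEq F] (hn : 4 ≤ n) {x : Matrix (Fin n) (Fin n) F}
    (hx0 : x.det ≠ 0) {B : Fin N → Blk F} (hrep : SimRep B Finset.univ x)
    (hB : ∀ i, OneRoot (B i).mat ∧ Pure (B i).mat) (hrare : ∀ v : F, 2 * (linesAt B v).card < n) :
    Cov ⊤ x n (x.det • 1) := by
  classical
  have hone := fun i => (hB i).1
  have hu := size_univ B
  rw [← hrep.rep_size] at hu
  have h2 := two_mul_card_blocks B
  obtain ⟨b, hb⟩ : ∃ b, b = size B (blocksOf B) := ⟨_, rfl⟩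
  rw [← hb] at hu h2
  rcases eq_or_ne b 0 with rfl | hb0
  · exact cov_lines hrep (Finset.card_eq_zero.mp (by omega))
  have hb1 : b ≠ 1 := by
    intro e
    have : blocksOf B = ∅ := Finset.card_eq_zero.mp (by omega)
    rw [this] at hb
    simp [size] at hb
    omega
  rcases eq_or_lt_of_le hn with rfl | hn5
  · exact cov_scalar_four h4 hx0 hrep hB (by omega)
  have fin : ∀ s L, Have B s L → 5 ≤ size B s → (∀ i, i ∉ s → (B i).m = 0 ∧ (val B i, val B i ^ 2) ∉ L) →
      Cov ⊤ x n (x.det • 1) := fun s L hh hsz hout =>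
    (cov_of_base h4 hx0 hrep hh (by omega) hout).2 hsz _ (by rw [det_smul, det_one, mul_one, Fintype.card_fin])
  have hblocks : ∀ i ∈ blocksOf B, OneRoot (B i).mat ∧ 1 ≤ (B i).m ∧ (B i).mat.det ≠ 0 := fun i hi =>
    ⟨hone i, mem_blocksOf.mp hi, hrep.det_ne_zero hx0 i⟩
  rcases Nat.lt_or_ge b 5 with hb5 | hb5
  swap
  · refine fin _ ∅ (Have.blocks h4 ?_ hblocks) (by omega) (out_of_noDiag hrep hx0 (subset_refl _) fun v _ => id)
    rw [Finset.nonempty_iff_ne_empty]
    intro e
    rw [e] at hb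
    simp [size] at hb
    omega
  have hconst : ∀ l, (∀ i ∈ linesOf B, val B i = l) → 2 * (linesOf B).card < n := fun l hl => by
    have := hrare l
    rwa [linesAt, Finset.filter_true_of_mem hl] at this
  rcases (show b = 2 ∨ b = 3 ∨ b = 4 by omega) with rfl | rfl | rfl
  · -- one block of size two
    obtain ⟨i, hi, him⟩ := blocks_eq_singleton (B := B) (k := 0) (by omega) (by omega)
    rcases eq_or_lt_of_le (show 5 ≤ n by omega) with rfl | hn6
    · rcases lines_cases B with ⟨p, q, hp, hq, hpq⟩ | ⟨l, hl⟩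
      swap
      · exact absurd (hconst l hl) (by omega)
      obtain ⟨c, hc⟩ := Finset.card_eq_one.mp (show ((linesOf B \ {p, q})).card = 1 by
        rw [Finset.card_sdiff_of_subset (by simp [Finset.insert_subset_iff, hp, hq]),
          Finset.card_pair (fun e => hpq (by rw [e]))]
        omega)
      have hc' : c ∈ linesOf B ∧ c ∉ ({p, q} : Finset (Fin N)) := Finset.mem_sdiff.mp (by rw [hc]; simp)
      simp only [Finset.mem_insert, Finset.mem_singleton, not_or] at hc'
      have hv := fun {r} (hr : r ∈ linesOf B) => val_ne_zero hrep hx0 (mem_linesOf.mp hr)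
      have hbase := (Have.line (line_val (mem_linesOf.mp hc'.1)) (hv hc'.1)).pair h4
        (line_val (mem_linesOf.mp hp)) (line_val (mem_linesOf.mp hq)) hpq (hv hp) (hv hq)
        (by simp [Ne.symm hc'.2.1]) (by simp [Ne.symm hc'.2.2]) (fun e => by
          rw [Set.mem_singleton_iff, Prod.mk.injEq, sq] at e
          obtain ⟨e1, e2⟩ := e
          rw [e1] at e2
          exact hpq (e1.trans (mul_left_cancel₀ (hv hc'.1) e2).symm))
      have hd : _root_.Disjoint (blocksOf B) ({p, q} ∪ {c}) :=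
        disjoint_blocks_lines (by simp [Finset.insert_subset_iff, hp, hq, hc'.1])
      have hh := hbase.stack h4 (blocksOf B) hd hblocks
      rw [lines_eq_univ (s := blocksOf B ∪ ({p, q} ∪ {c})) ?_ Finset.subset_union_left] at hh
      · exact cov_whole_five h4 hx0 hrep hh
      · refine subset_trans ?_ Finset.subset_union_right
        rw [← hc]
        exact fun r hr => by simp only [Finset.mem_union, Finset.mem_sdiff]; tauto
    · have hne : ∀ v, 2 ≤ ((linesOf B).filter fun r => val B r ≠ v).card := fun v => by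
        have e := Finset.card_filter_add_card_filter_not (s := linesOf B) (fun r => val B r = v)
        have := hrare v
        rw [linesAt] at this
        simp only [ne_eq] at e ⊢
        omega
      obtain ⟨p, q, r, u, hp, hq, hr, hu', h1, h2, h3, h4', h5, h6⟩ :=
        exists_four_lines (B := B) (by omega) hne
      obtain ⟨s, L, hL, hs, hh, hsz⟩ := have_pairs_blocks h4 hx0 hrep hone hp hq hr hu' h1 h2 h3 h4' h5 h6
      exact fin s L hh (by omega) (out_of_noDiag hrep hx0 hs hL)
  · -- one block of size three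
    obtain ⟨i, hi, him⟩ := blocks_eq_singleton (B := B) (k := 1) (by omega) le_rfl
    rcases lines_cases B with ⟨p, q, hp, hq, hpq⟩ | ⟨l, hl⟩
    · obtain ⟨L, hL, hh, hsz⟩ := have_pair_blocks h4 hx0 hrep hone hp hq hpq
      exact fin _ L hh (by omega) (out_of_noDiag hrep hx0 Finset.subset_union_left hL)
    · obtain rfl : n = 5 := by have := hconst l hl; omega
      obtain ⟨p, q, hpq, hlines⟩ := Finset.card_eq_two.mp (show (linesOf B).card = 2 by omega)
      have hp : p ∈ linesOf B := by rw [hlines]; simp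
      have hq : q ∈ linesOf B := by rw [hlines]; simp
      have hl0 : l ≠ 0 := hl p hp ▸ val_ne_zero hrep hx0 (mem_linesOf.mp hp)
      have hiq : i ≠ q := fun e => by have := mem_linesOf.mp hq; rw [← e] at this; omega
      have hh := (Have.absorb h4 (i := i) (line_of_const hl hp) hl0 (hone i) (hB i).2 (by omega)
        (hrep.det_ne_zero hx0 i)).addLine h4 (line_of_const hl hq) hl0 (by simp [hiq.symm, hpq.symm])
        fun e => e.2 rfl
      rw [lines_eq_univ (s := insert q {i, p}) (by rw [hlines]; simp [Finset.insert_subset_iff])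
        (by rw [hi]; simp)] at hh
      exact cov_whole_five h4 hx0 hrep hh
  · -- blocks of total size four
    rcases eq_or_lt_of_le (show 5 ≤ n by omega) with rfl | hn6
    · obtain ⟨j, hlines⟩ := Finset.card_eq_one.mp (show (linesOf B).card = 1 by omega)
      have hj : j ∈ linesOf B := by rw [hlines]; simp
      have hh := (Have.line (line_val (mem_linesOf.mp hj)) (val_ne_zero hrep hx0 (mem_linesOf.mp hj))).stack h4
        (blocksOf B) (disjoint_blocks_lines (by simp [hj])) hblocks
      rw [lines_eq_univ (s := blocksOf B ∪ {j}) (by rw [hlines]; exact Finset.subset_union_right)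
        Finset.subset_union_left] at hh
      exact cov_whole_five h4 hx0 hrep hh
    rcases lines_cases B with ⟨p, q, hp, hq, hpq⟩ | ⟨l, hl⟩
    · obtain ⟨L, hL, hh, hsz⟩ := have_pair_blocks h4 hx0 hrep hone hp hq hpq
      exact fin _ L hh (by omega) (out_of_noDiag hrep hx0 Finset.subset_union_left hL)
    obtain ⟨p, hp, q, hq, hpq⟩ := Finset.one_lt_card.mp (show 1 < (linesOf B).card by omega)
    have hl0 : l ≠ 0 := hl p hp ▸ val_ne_zero hrep hx0 (mem_linesOf.mp hp)
    rcases blocks_of_four (B := B) hb.symm with ⟨i, hi, him⟩ | ⟨i, j, hij, hs, him, hjm⟩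
    · have hip : i ≠ p := fun e => by have := mem_linesOf.mp hp; rw [← e] at this; omega
      refine fin _ _ (Have.absorb h4 (i := i) (line_of_const hl hp) hl0 (hone i) (hB i).2 (by omega)
        (hrep.det_ne_zero hx0 i)) ?_ (out_of_const hl (by rw [hi]; simp) fun e => e.2 rfl)
      rw [size, Finset.sum_pair hip, him, mem_linesOf.mp hp]
    · by_cases hboth : (B i).mat.charpoly.eval l = 0 ∧ (B j).mat.charpoly.eval l = 0
      · exact cov_square_zero_blocks h4 (by omega) hrep hij hs him hjm (hB i).2 (hB j).2 hl0 hl hboth.1 hboth.2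
      have key : ∀ i j : Fin N, i ≠ j → blocksOf B = {i, j} → (B i).m = 1 → (B j).m = 1 →
          (B i).mat.charpoly.eval l ≠ 0 → Cov ⊤ x n (x.det • 1) := fun i j hij hs him hjm hr => by
        obtain ⟨L, hL, hh⟩ := Have.double h4 (line_of_const hl hp) (line_of_const hl hq) hpq hl0 him
          (hrep.det_ne_zero hx0 i) hr
        have hjp : j ≠ p := fun e => by have := mem_linesOf.mp hp; rw [← e] at this; omega
        have hjq : j ≠ q := fun e => by have := mem_linesOf.mp hq; rw [← e] at this; omega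
        have hip : i ≠ p := fun e => by have := mem_linesOf.mp hp; rw [← e] at this; omega
        have hiq : i ≠ q := fun e => by have := mem_linesOf.mp hq; rw [← e] at this; omega
        refine fin _ L (hh.stack h4 {j} (by simp [hij.symm, hjp, hjq]) fun r hr => by
          rw [Finset.mem_singleton.mp hr]; exact ⟨hone j, by omega, hrep.det_ne_zero hx0 j⟩) ?_
          (out_of_const hl (by rw [hs]; simp [Finset.insert_subset_iff]) hL)
        rw [size, ← Finset.insert_eq, Finset.sum_insert (by simp [hij.symm, hjp, hjq]),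
          Finset.sum_insert (by simp [hip, hiq]), Finset.sum_pair hpq, him, hjm, mem_linesOf.mp hp,
          mem_linesOf.mp hq]
        omega
      by_cases hri : (B i).mat.charpoly.eval l = 0
      · exact key j i hij.symm (by rw [hs, Finset.pair_comm]) hjm him fun e => hboth ⟨hri, e⟩
      · exact key i j hij hs him hjm hri

/-- `n` conjugates give the determinant as a scalar. -/
theorem cov_scalar (h4 : 4 ≤ Fintype.card F) : ∀ {n : ℕ} (x : Matrix (Fin n) (Fin n) F),
    x.det ≠ 0 → Cov ⊤ x n (x.det • 1) := by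
  classical
  intro n
  induction n using Nat.strong_induction_on with
  | _ n ih =>
  intro x hx0
  by_cases hsc : ∃ c : F, x = c • 1
  · obtain ⟨c, rfl⟩ := hsc
    exact cov_of_scalar c
  push Not at hsc
  rcases (show n ≤ 1 ∨ n = 2 ∨ n = 3 ∨ 4 ≤ n by omega) with h | rfl | rfl | hn
  · obtain ⟨c, hc⟩ := exists_eq_smul_of_le_one h x
    exact absurd hc (hsc c)
  · exact cov_two_scalar x
  · exact gl3_scalar h4 x hsc hx0
  by_cases hw : Wide x
  swap
  · obtain ⟨σ, a, b, hσ, ha, hb, rfl⟩ := exists_rankOne_of_not_wide (by omega) hsc hx0 hw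
    exact cov_rankOne_scalar h4 (by omega) σ a b hσ ha hb
  obtain ⟨M, B, hrep, hB⟩ := exists_simRep x
  by_cases hrare : ∀ v : F, 2 * (linesAt B v).card < n
  · exact cov_scalar_rare h4 hn hx0 hrep hB hrare
  -- split off a frequent eigenvalue
  push Not at hrare
  obtain ⟨v, hv⟩ := hrare
  have hsub : linesAt B v ⊆ linesOf B := Finset.filter_subset _ _
  obtain ⟨a, A, hA⟩ := simRep_exists B (Finset.univ \ linesAt B v)
  have hR2 := simRep_constLines hsub (l := v) fun i hi => (Finset.mem_filter.mp hi).2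
  have hu := hA.union Finset.sdiff_disjoint hR2
  rw [Finset.sdiff_union_of_subset (Finset.subset_univ _)] at hu
  have hn' : a + (linesAt B v).card = n := hu.rep_size.trans hrep.rep_size.symm
  rcases eq_or_ne a 0 with rfl | ha
  · refine cov_lines hrep (Finset.eq_empty_iff_forall_notMem.mpr fun i hi => ?_)
    have hi' : i ∈ Finset.univ \ linesAt B v := Finset.mem_sdiff.mpr ⟨Finset.mem_univ i, fun h => by
      have := mem_linesOf.mp (hsub h)
      have := mem_blocksOf.mp hi
      omega⟩
    have hsz := hA.rep_size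
    have := Finset.single_le_sum (f := fun i => (B i).m + 1) (fun _ _ => Nat.zero_le _) hi'
    rw [size] at hsz
    omega
  generalize (linesAt B v).card = c at hR2 hu hn' hv
  obtain ⟨r, rfl⟩ : ∃ r, c = a + r := ⟨c - a, by omega⟩
  subst hn'
  have hs := hu.sim hrep
  have hd := hs.det_eq
  rw [det_dsum, det_smul, det_one, mul_one, Fintype.card_fin] at hd
  rw [← hd] at hx0 ⊢
  obtain ⟨hA0, hv0⟩ := mul_ne_zero_iff.mp hx0
  have hv' : v ≠ 0 := fun e => hv0 (by rw [e, zero_pow]; omega)
  have hB' := ih (a + r) (by omega) (dsum A (v • (1 : Matrix (Fin r) (Fin r) F))) (by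
    rw [det_dsum, det_smul, det_one, mul_one]
    exact mul_ne_zero hA0 (pow_ne_zero _ hv'))
  rw [det_dsum, det_smul, det_one, mul_one, Fintype.card_fin] at hB'
  exact (cov_split A v (ih a (by omega) A hA0) hB').base (simIn_top_iff.2 hs.symm)

end CfsgLib.CoverPSL
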