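import Cfsg.Agent.CoverPSL.Chain
import Cfsg.Agent.CoverPSL.Shift

/-!
# Choosing lines and blocks
-/

set_option autoImplicit false

namespace CfsgLib.CoverPSL

open Matrix Polynomial CfsgLib.OreSL CfsgLib.Sourour

variable {F : Type*} [Field F] {n N : ℕ}

/-- The one-dimensional blocks. -/
def linesOf (B : Fin N → Blk F) : Finset (Fin N) := Finset.univ.filter fun i => (B i).m = 0

/-- The blocks of size at least two. -/
def blocksOf (B : Fin N → Blk F) : Finset (Fin N) := Finset.univ.filter fun i => ¬ (B i).m = 0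

/-- The lines of eigenvalue `v`. -/
def linesAt [DecidableEq F] (B : Fin N → Blk F) (v : F) : Finset (Fin N) :=
  (linesOf B).filter fun i => val B i = v

theorem mem_linesOf {B : Fin N → Blk F} {i : Fin N} : i ∈ linesOf B ↔ (B i).m = 0 := by simp [linesOf]

theorem mem_blocksOf {B : Fin N → Blk F} {i : Fin N} : i ∈ blocksOf B ↔ 1 ≤ (B i).m := by
  simp [blocksOf, Nat.one_le_iff_ne_zero]

theorem size_union {B : Fin N → Blk F} {s t : Finset (Fin N)} (h : _root_.Disjoint s t) :
    size B (s ∪ t) = size B s + size B t := Finset.sum_union h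

theorem size_lines {B : Fin N → Blk F} {s : Finset (Fin N)} (h : s ⊆ linesOf B) : size B s = s.card := by
  rw [size, Finset.card_eq_sum_ones]
  exact Finset.sum_congr rfl fun i hi => by rw [mem_linesOf.mp (h hi)]

theorem size_univ (B : Fin N → Blk F) : size B Finset.univ = size B (blocksOf B) + (linesOf B).card := by
  classical
  rw [← size_lines (subset_refl (linesOf B)), size, size, size, add_comm]
  exact (Finset.sum_filter_add_sum_filter_not _ _ _).symm

theorem disjoint_blocks_lines {B : Fin N → Blk F} {s : Finset (Fin N)} (h : s ⊆ linesOf B) :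
    _root_.Disjoint (blocksOf B) s :=
  Finset.disjoint_left.mpr fun i hi hi' => by
    have := mem_blocksOf.mp hi
    have := mem_linesOf.mp (h hi')
    omega

theorem two_mul_card_blocks (B : Fin N → Blk F) : 2 * (blocksOf B).card ≤ size B (blocksOf B) := by
  rw [size, Finset.card_eq_sum_ones, Finset.mul_sum]
  exact Finset.sum_le_sum fun i hi => by have := mem_blocksOf.mp hi; omega

theorem blocks_eq_singleton {B : Fin N → Blk F} {k : ℕ} (hk : size B (blocksOf B) = k + 2) (h : k ≤ 1) :
    ∃ i, blocksOf B = {i} ∧ (B i).m = k + 1 := by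
  have h2 := two_mul_card_blocks B
  have hne : (blocksOf B).Nonempty := by
    rw [Finset.nonempty_iff_ne_empty]
    intro e
    rw [e] at hk
    simp [size] at hk
  have h1 : (blocksOf B).card = 1 := by
    have := hne.card_pos
    omega
  obtain ⟨i, hi⟩ := Finset.card_eq_one.mp h1
  refine ⟨i, hi, ?_⟩
  rw [hi, size, Finset.sum_singleton] at hk
  omega

/-- Four blocks or fewer. -/
theorem blocks_of_four {B : Fin N → Blk F} (hk : size B (blocksOf B) = 4) :
    (∃ i, blocksOf B = {i} ∧ (B i).m = 3) ∨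
      ∃ i j, i ≠ j ∧ blocksOf B = {i, j} ∧ (B i).m = 1 ∧ (B j).m = 1 := by
  classical
  have h2 := two_mul_card_blocks B
  have hne : (blocksOf B).Nonempty := by
    rw [Finset.nonempty_iff_ne_empty]
    intro e
    rw [e] at hk
    simp [size] at hk
  have := hne.card_pos
  rcases (show (blocksOf B).card = 1 ∨ (blocksOf B).card = 2 by omega) with h | h
  · obtain ⟨i, hi⟩ := Finset.card_eq_one.mp h
    rw [hi, size, Finset.sum_singleton] at hk
    exact Or.inl ⟨i, hi, by omega⟩
  · obtain ⟨i, j, hij, hs⟩ := Finset.card_eq_two.mp h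
    have hi : 1 ≤ (B i).m := mem_blocksOf.mp (by rw [hs]; simp)
    have hj : 1 ≤ (B j).m := mem_blocksOf.mp (by rw [hs]; simp)
    rw [hs, size, Finset.sum_pair hij] at hk
    exact Or.inr ⟨i, j, hij, hs, by omega, by omega⟩

theorem mem_out {B : Fin N → Blk F} {s : Finset (Fin N)} (h : blocksOf B ⊆ s) {i : Fin N} (hi : i ∉ s) :
    (B i).m = 0 := by
  by_contra h0
  exact hi (h (mem_blocksOf.mpr (Nat.one_le_iff_ne_zero.mpr h0)))

/-- Either two lines differ or all have one value. -/
theorem lines_cases (B : Fin N → Blk F) :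
    (∃ i j, i ∈ linesOf B ∧ j ∈ linesOf B ∧ val B i ≠ val B j) ∨ ∃ l, ∀ i ∈ linesOf B, val B i = l := by
  by_cases h : ∃ i j, i ∈ linesOf B ∧ j ∈ linesOf B ∧ val B i ≠ val B j
  · exact Or.inl h
  push Not at h
  rcases (linesOf B).eq_empty_or_nonempty with he | ⟨i, hi⟩
  · exact Or.inr ⟨0, fun i hi => by simp [he] at hi⟩
  · exact Or.inr ⟨val B i, fun j hj => h j i hj hi⟩

/-- Two disjoint pairs of different lines. -/
theorem exists_four_lines [DecidableEq F] {B : Fin N → Blk F} (h4 : 4 ≤ (linesOf B).card)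
    (h : ∀ v, 2 ≤ ((linesOf B).filter fun i => val B i ≠ v).card) :
    ∃ i j k l, i ∈ linesOf B ∧ j ∈ linesOf B ∧ k ∈ linesOf B ∧ l ∈ linesOf B ∧
      k ≠ i ∧ k ≠ j ∧ l ≠ i ∧ l ≠ j ∧ val B i ≠ val B j ∧ val B k ≠ val B l := by
  classical
  by_cases hd : ∃ i k, i ∈ linesOf B ∧ k ∈ linesOf B ∧ i ≠ k ∧ val B i = val B k
  · obtain ⟨i, k, hi, hk, hik, e⟩ := hd
    obtain ⟨j, hj, l, hl, hjl⟩ := Finset.one_lt_card.mp (h (val B i))
    rw [Finset.mem_filter] at hj hl
    refine ⟨i, j, k, l, hi, hj.1, hk, hl.1, hik.symm, ?_, ?_, hjl.symm, hj.2.symm, by rw [← e]; exact hl.2.symm⟩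
    · rintro rfl; exact hj.2 e.symm
    · rintro rfl; exact hl.2 rfl
  · push Not at hd
    obtain ⟨s, hs, hcard⟩ := Finset.exists_subset_card_eq (s := linesOf B) (n := 4) h4
    obtain ⟨i, j, k, l, hij, hik, hil, hjk, hjl, hkl, rfl⟩ := Finset.card_eq_four.mp hcard
    simp only [Finset.insert_subset_iff, Finset.singleton_subset_iff] at hs
    exact ⟨i, j, k, l, hs.1, hs.2.1, hs.2.2.1, hs.2.2.2, hik.symm, hjk.symm, hil.symm, hjl.symm,
      hd i j hs.1 hs.2.1 hij, hd k l hs.2.2.1 hs.2.2.2 hkl⟩

theorem simRep_constLines {B : Fin N → Blk F} {s : Finset (Fin N)} (hs : s ⊆ linesOf B) {l : F}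
    (hl : ∀ i ∈ s, val B i = l) : SimRep B s (l • (1 : Matrix (Fin s.card) (Fin s.card) F)) := by
  classical
  have h := simRep_diagonal (B := B) (Finset.equivFin s).symm (fun _ => l)
    (fun j => mem_linesOf.mp (hs ((Finset.equivFin s).symm j).2)) fun j p => by
      rw [(line_val (mem_linesOf.mp (hs ((Finset.equivFin s).symm j).2))).2 p]
      exact hl _ ((Finset.equivFin s).symm j).2
  rwa [smul_one_eq_diagonal]

theorem not_wide_of_small {x : Matrix (Fin n) (Fin n) F} (μ : F) (h : (x - μ • 1).rank ≤ 1) : ¬ Wide x :=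
  fun hw => absurd (hw μ) (by omega)

/-- One block of size two sharing the eigenvalue of all the lines. -/
theorem not_wide_two {x : Matrix (Fin n) (Fin n) F} {B : Fin N → Blk F} (hrep : SimRep B Finset.univ x)
    {i : Fin N} (hbl : blocksOf B = {i}) (hm : (B i).m = 1) {l : F} (hl : ∀ j ∈ linesOf B, val B j = l)
    (hr : (B i).mat.charpoly.eval l = 0) : ¬ Wide x := by
  classical
  have hR := simRep_singleton B i
  have hd : _root_.Disjoint ({i} : Finset (Fin N)) (linesOf B) :=
    hbl ▸ disjoint_blocks_lines (subset_refl _)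
  have huniv : ({i} : Finset (Fin N)) ∪ linesOf B = Finset.univ := by
    rw [← hbl, blocksOf, linesOf, Finset.union_comm, Finset.filter_union_filter_not_eq]
  generalize B i = A at hm hr hR
  obtain ⟨m, z, hc⟩ := A
  simp only at hm hr hR
  subst hm
  have hu := hR.union hd (simRep_constLines (subset_refl _) hl)
  rw [huniv] at hu
  have hn : 1 + 1 + (linesOf B).card = n := hu.rep_size.trans hrep.rep_size.symm
  subst hn
  intro hw
  set k := (linesOf B).card
  refine not_wide_of_small l ?_ (wide_of_sim (hu.sim hrep).symm hw)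
  set R := z - l • 1 with hR'
  have hRd : R.det = 0 := by
    rw [Matrix.eval_charpoly, scalar_apply, ← smul_one_eq_diagonal] at hr
    rw [hR', show z - l • 1 = -(l • 1 - z) by rw [neg_sub], det_neg, hr, mul_zero]
  have hR1 : R.rank ≤ 1 := by
    by_contra h
    have hle : R.rank ≤ 2 := R.rank_le_height
    have : R.det ≠ 0 := by
      intro _
      obtain ⟨v, hv0, hv⟩ := Matrix.exists_mulVec_eq_zero_iff.mpr hRd
      have hker : 0 < Module.finrank F (LinearMap.ker R.mulVecLin) := by
        rw [Module.finrank_pos_iff_exists_ne_zero]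
        exact ⟨⟨v, hv⟩, fun e => hv0 (congrArg Subtype.val e)⟩
      have := LinearMap.finrank_range_add_finrank_ker R.mulVecLin
      rw [Module.finrank_fin_fun] at this
      exact h (by rw [Matrix.rank]; omega)
    exact this hRd
  set U : Matrix (Fin 2 ⊕ Fin k) (Fin 2) F := Matrix.of fun p q => Sum.elim (fun p => if p = q then 1 else 0) (fun _ => 0) p
  have e : dsum z (l • (1 : Matrix (Fin k) (Fin k) F)) - l • 1 =
      Matrix.reindex finSumFinEquiv finSumFinEquiv (U * R * Uᵀ) := by
    ext p q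
    obtain ⟨p, rfl⟩ := finSumFinEquiv.surjective p
    obtain ⟨q, rfl⟩ := finSumFinEquiv.surjective q
    rw [Matrix.reindex_apply, submatrix_apply, Equiv.symm_apply_apply, Equiv.symm_apply_apply, dsum,
      Matrix.sub_apply, Matrix.reindex_apply, submatrix_apply, Equiv.symm_apply_apply, Equiv.symm_apply_apply]
    rcases p with p | p <;> rcases q with q | q <;>
      simp [U, R, Matrix.mul_apply, Matrix.smul_apply, one_apply, Finset.sum_ite_eq] <;>
      intro h <;> have := congrArg Fin.val h <;> simp at this <;> omega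
  rw [e, rank_reindex]
  exact ((rank_mul_le_left _ _).trans (rank_mul_le_right _ _)).trans hR1

/-- Lines only: two of them avoid every value when the matrix is wide. -/
theorem lines_of_wide [DecidableEq F] {x : Matrix (Fin n) (Fin n) F} {B : Fin N → Blk F}
    (hrep : SimRep B Finset.univ x) (hbl : blocksOf B = ∅) (hw : Wide x) (v : F) :
    2 ≤ ((linesOf B).filter fun i => val B i ≠ v).card := by
  classical
  have huniv : linesOf B = Finset.univ := by
    rw [Finset.eq_univ_iff_forall]
    intro i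
    by_contra h
    have : i ∈ blocksOf B := mem_blocksOf.mpr (Nat.one_le_iff_ne_zero.mpr fun e => h (mem_linesOf.mpr e))
    simp [hbl] at this
  set e := (Finset.equivFin (Finset.univ : Finset (Fin N))).symm
  have hd := simRep_diagonal (B := B) e (fun j => val B (e j).1)
    (fun j => mem_linesOf.mp (by rw [huniv]; exact Finset.mem_univ _)) fun j p =>
      (line_val (mem_linesOf.mp (by rw [huniv]; exact Finset.mem_univ _))).2 p
  have hn : (Finset.univ : Finset (Fin N)).card = n := hd.rep_size.trans hrep.rep_size.symm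
  subst hn
  have h2 := wide_of_sim (hd.sim hrep).symm hw v
  rw [smul_one_eq_diagonal, diagonal_sub, rank_diagonal, Fintype.card_subtype] at h2
  refine h2.trans (Finset.card_le_card_of_injOn (fun j => (e j).1) (fun j hj => ?_) fun a _ b _ h => e.injective (Subtype.ext h))
  rw [Finset.mem_coe, Finset.mem_filter] at hj
  rw [Finset.mem_coe, Finset.mem_filter, huniv]
  exact ⟨Finset.mem_univ _, sub_ne_zero.mp hj.2⟩

/-- Only lines: a diagonal matrix. -/
theorem cov_lines {x : Matrix (Fin n) (Fin n) F} {B : Fin N → Blk F}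
    (hrep : SimRep B Finset.univ x) (hbl : blocksOf B = ∅) : Cov ⊤ x n (x.det • 1) := by
  classical
  have hline : ∀ i, (B i).m = 0 := fun i => mem_out (s := ∅) (by rw [hbl]) (Finset.notMem_empty i)
  set e := (Finset.equivFin (Finset.univ : Finset (Fin N))).symm
  have hd := simRep_diagonal (B := B) e (fun j => val B (e j).1)
    (fun j => hline _) fun j p => (line_val (hline _)).2 p
  have hn : (Finset.univ : Finset (Fin N)).card = n := hd.rep_size.trans hrep.rep_size.symm
  subst hn
  have hs := hd.sim hrep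
  rw [← hs.det_eq, det_diagonal]
  exact (cov_diag_scalar _).base (simIn_top_iff.2 hs.symm)

variable [Fintype F]

/-- No diagonal pair in `L`. -/
def NoDiag (L : Set (F × F)) : Prop := ∀ v : F, v ≠ 0 → (v, v ^ 2) ∉ L

/-- A pair of lines, then the blocks. -/
theorem have_pair_blocks (h4 : 4 ≤ Fintype.card F) {x : Matrix (Fin n) (Fin n) F} (hx0 : x.det ≠ 0)
    {B : Fin N → Blk F} (hrep : SimRep B Finset.univ x) (hB : ∀ i, OneRoot (B i).mat)
    {i j : Fin N} (hi : i ∈ linesOf B) (hj : j ∈ linesOf B) (hij : val B i ≠ val B j) :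
    ∃ L, NoDiag L ∧ Have B (blocksOf B ∪ {i, j}) L ∧ size B (blocksOf B ∪ {i, j}) = size B (blocksOf B) + 2 := by
  classical
  have hi' := mem_linesOf.mp hi
  have hj' := mem_linesOf.mp hj
  have hne : i ≠ j := fun e => hij (by rw [e])
  have hsub : ({i, j} : Finset (Fin N)) ⊆ linesOf B := by simp [Finset.insert_subset_iff, hi, hj]
  refine ⟨{(val B j, val B i * val B j)}, fun v hv e => ?_, ?_, ?_⟩
  · rw [Set.mem_singleton_iff, Prod.mk.injEq] at e
    obtain ⟨rfl, e⟩ := e
    rw [sq] at e
    exact hij (mul_right_cancel₀ hv e).symm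
  · exact Have.stack h4 (Have.pairBase (line_val hi') (line_val hj') hij (val_ne_zero hrep hx0 hi')
      (val_ne_zero hrep hx0 hj')) (blocksOf B) (disjoint_blocks_lines hsub)
      fun b hb => ⟨hB b, mem_blocksOf.mp hb, hrep.det_ne_zero hx0 b⟩
  · rw [size_union (disjoint_blocks_lines hsub), size_lines hsub, Finset.card_pair hne]

/-- Two pairs of lines, then the blocks. -/
theorem have_pairs_blocks (h4 : 4 ≤ Fintype.card F) {x : Matrix (Fin n) (Fin n) F} (hx0 : x.det ≠ 0)
    {B : Fin N → Blk F} (hrep : SimRep B Finset.univ x) (hB : ∀ i, OneRoot (B i).mat) {i j k l : Fin N}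
    (hi : i ∈ linesOf B) (hj : j ∈ linesOf B) (hk : k ∈ linesOf B) (hl : l ∈ linesOf B)
    (hki : k ≠ i) (hkj : k ≠ j) (hli : l ≠ i) (hlj : l ≠ j) (hij : val B i ≠ val B j) (hkl : val B k ≠ val B l) :
    ∃ s L, NoDiag L ∧ blocksOf B ⊆ s ∧ Have B s L ∧ size B s = size B (blocksOf B) + 4 := by
  classical
  have hne : i ≠ j := fun e => hij (by rw [e])
  have hne' : k ≠ l := fun e => hkl (by rw [e])
  set T : Finset (Fin N) := {k, l} ∪ {i, j}
  have hTsub : T ⊆ linesOf B := by simp [T, Finset.insert_subset_iff, hi, hj, hk, hl]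
  have hbase := Have.pairBase (line_val (mem_linesOf.mp hi)) (line_val (mem_linesOf.mp hj)) hij
    (val_ne_zero hrep hx0 (mem_linesOf.mp hi)) (val_ne_zero hrep hx0 (mem_linesOf.mp hj))
  obtain ⟨L, hL, hT⟩ : ∃ L, NoDiag L ∧ Have B T L := by
    have nd : ∀ {p q : Fin N}, val B p ≠ val B q →
        NoDiag (insert (val B q, val B p * val B q) {(val B j, val B i * val B j)}) := by
      intro p q hpq v hv e
      rw [Set.mem_insert_iff, Set.mem_singleton_iff, Prod.mk.injEq, Prod.mk.injEq] at e
      rcases e with ⟨rfl, e⟩ | ⟨rfl, e⟩ <;> rw [sq] at e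
      · exact hpq (mul_right_cancel₀ hv e).symm
      · exact hij (mul_right_cancel₀ hv e).symm
    by_cases hc : val B k = val B j
    · refine ⟨_, nd hkl.symm, ?_⟩
      rw [show T = {l, k} ∪ {i, j} from congrArg (· ∪ _) (Finset.pair_comm k l)]
      exact hbase.pair h4 (line_val (mem_linesOf.mp hl)) (line_val (mem_linesOf.mp hk)) hkl.symm
        (val_ne_zero hrep hx0 (mem_linesOf.mp hl)) (val_ne_zero hrep hx0 (mem_linesOf.mp hk))
        (by simp [hli, hlj]) (by simp [hki, hkj]) fun e => by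
          rw [Set.mem_singleton_iff, Prod.mk.injEq] at e
          exact hkl (hc.trans e.1.symm)
    · refine ⟨_, nd hkl, ?_⟩
      exact hbase.pair h4 (line_val (mem_linesOf.mp hk)) (line_val (mem_linesOf.mp hl)) hkl
        (val_ne_zero hrep hx0 (mem_linesOf.mp hk)) (val_ne_zero hrep hx0 (mem_linesOf.mp hl))
        (by simp [hki, hkj]) (by simp [hli, hlj]) fun e => by
          rw [Set.mem_singleton_iff, Prod.mk.injEq] at e
          exact hc e.1
  refine ⟨blocksOf B ∪ T, L, hL, Finset.subset_union_left, Have.stack h4 hT (blocksOf B)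
    (disjoint_blocks_lines hTsub) fun b hb => ⟨hB b, mem_blocksOf.mp hb, hrep.det_ne_zero hx0 b⟩, ?_⟩
  rw [size_union (disjoint_blocks_lines hTsub), size_lines hTsub,
    Finset.card_union_of_disjoint (by simp [hki, hkj, hli, hlj, hki.symm, hkj.symm, hli.symm, hlj.symm]),
    Finset.card_pair hne', Finset.card_pair hne]

/-- A line on top. -/
theorem Have.addLine (h4 : 4 ≤ Fintype.card F) {B : Fin N → Blk F} {s₀ : Finset (Fin N)} {L : Set (F × F)}
    (h₀ : Have B s₀ L) {j : Fin N} {l : F} (hj : Line B j l) (hl : l ≠ 0) (hjs : j ∉ s₀)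
    (hL : (l, l ^ 2) ∉ L) : Have B (insert j s₀) (insert (l, l ^ 2) L) := by
  classical
  obtain ⟨m, M, t, hR, hSq, hM⟩ := h₀
  set z : Matrix (Fin 1) (Fin 1) F := l • 1
  have hy : ((1 : GL (Fin 1) F) : Matrix (Fin 1) (Fin 1) F) * z * (((1 : GL (Fin 1) F)⁻¹ : GL (Fin 1) F) : Matrix (Fin 1) (Fin 1) F) = z := by
    simp
  have hd : z.det ≠ 0 := by simp [z, hl]
  have hMate : Mate z (((1 : GL (Fin 1) F) : Matrix (Fin 1) (Fin 1) F) * z * (((1 : GL (Fin 1) F)⁻¹ : GL (Fin 1) F) : Matrix (Fin 1) (Fin 1) F))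
      (fun _ => l ^ 2) := by
    rw [hy]
    refine ⟨?_, fun c => (Nat.le_add_left 1 _ : 1 ≤ _)⟩
    simp [z, Matrix.charpoly, Matrix.charmatrix, det_fin_one, smul_smul, sq]
  have hroot : ∀ (v : Fin 1 → F) (α : F), v ≠ 0 → z *ᵥ v = α • v → α = l := by
    intro v α hv h
    rw [smul_mulVec, one_mulVec] at h
    exact (smul_left_injective F hv h).symm
  refine ⟨_, dsum z M, Fin.append (fun _ => l ^ 2) t, ?_,
    (Sq.link h4 (L1 := {(l, l ^ 2)}) hd 1 hMate ?_ ⟨{l ^ 2}, by simp, fun _ => Finset.mem_singleton_self _⟩ ?_ hM hSq).mono ?_,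
    by rw [det_dsum]; exact mul_ne_zero hd hM⟩
  · rw [Finset.insert_eq]
    exact hj.rep.union (Finset.disjoint_singleton_left.mpr hjs) hR
  · rw [hy]
    intro ψ α β hψ h1 h2
    rw [vecMul_smul, vecMul_one] at h1
    rw [← vecMul_vecMul, vecMul_smul, vecMul_one, vecMul_smul, vecMul_one, smul_smul] at h2
    rw [Set.mem_singleton_iff, Prod.mk.injEq, sq]
    exact ⟨(smul_left_injective F hψ h1).symm, (smul_left_injective F hψ h2).symm⟩
  · rw [hy]
    intro v α β hv h1 h2
    rw [hroot v α hv h1, hroot v β hv h2, ← sq]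
    exact hL
  · rintro p (h | h)
    · exact Set.mem_insert_iff.mpr (Or.inl h)
    · exact Set.mem_insert_iff.mpr (Or.inr h.1)

end CfsgLib.CoverPSL
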