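import Cfsg.Agent.CoverPSL.Four
import Cfsg.Agent.Sourour.Step

/-!
# Three by three matrices: forms, invariants, products of two cyclic classes

The product of two cyclic classes in `GL₃` contains every cyclic class with a root and the right
determinant.
-/

set_option autoImplicit false

namespace CfsgLib.CoverPSL.Three

open Matrix Polynomial CfsgLib.OreSL

variable {F : Type*} [Field F]

/-- The sum of the principal minors of order two. -/
def sec (A : Matrix (Fin 3) (Fin 3) F) : F :=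
  A 0 0 * A 1 1 - A 0 1 * A 1 0 + (A 0 0 * A 2 2 - A 0 2 * A 2 0) + (A 1 1 * A 2 2 - A 1 2 * A 2 1)

theorem charpoly_three (A : Matrix (Fin 3) (Fin 3) F) :
    A.charpoly = X ^ 3 - C A.trace * X ^ 2 + C (sec A) * X - C A.det := by
  simp only [Matrix.charpoly, charmatrix, det_fin_three, trace_fin_three, sec, Matrix.sub_apply,
    scalar_apply, diagonal_apply, RingHom.mapMatrix_apply, Matrix.map_apply]
  simp
  ring

theorem charpoly_ext {A B : Matrix (Fin 3) (Fin 3) F} (h1 : A.trace = B.trace) (h2 : sec A = sec B)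
    (h3 : A.det = B.det) : A.charpoly = B.charpoly := by
  rw [charpoly_three, charpoly_three, h1, h2, h3]

theorem eval_charpoly_three (A : Matrix (Fin 3) (Fin 3) F) (r : F) :
    A.charpoly.eval r = r ^ 3 - A.trace * r ^ 2 + sec A * r - A.det := by
  rw [charpoly_three]
  simp

theorem data_of_charpoly {A B : Matrix (Fin 3) (Fin 3) F} (h : A.charpoly = B.charpoly) :
    A.trace = B.trace ∧ sec A = sec B ∧ A.det = B.det := by
  rw [charpoly_three, charpoly_three] at h
  exact ⟨by simpa using congrArg (fun p => p.coeff 2) h, by simpa using congrArg (fun p => p.coeff 1) h,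
    by simpa using congrArg (fun p => p.coeff 0) h⟩

theorem data_of_sim {A B : Matrix (Fin 3) (Fin 3) F} (h : Sim A B) :
    A.trace = B.trace ∧ sec A = sec B ∧ A.det = B.det := by
  obtain ⟨Q, hQ⟩ := exists_conj_of_sim h
  exact data_of_charpoly (hQ ▸ (charpoly_conj Q A).symm)

/-- The first three iterates of `v` as columns. -/
def kry (A : Matrix (Fin 3) (Fin 3) F) (v : Fin 3 → F) : Matrix (Fin 3) (Fin 3) F :=
  Matrix.of fun i j => ![v, A *ᵥ v, A *ᵥ (A *ᵥ v)] j i

theorem isCyc_of_kry {A : Matrix (Fin 3) (Fin 3) F} (v : Fin 3 → F) (h : (kry A v).det ≠ 0) : IsCyc A := by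
  refine ⟨v, ?_⟩
  have hu := Matrix.linearIndependent_cols_iff_isUnit.mpr
    ((Matrix.isUnit_iff_isUnit_det _).mpr (isUnit_iff_ne_zero.2 h))
  have e : (fun i : Fin 3 => A ^ (i : ℕ) *ᵥ v) = (kry A v).col := by
    funext j i
    fin_cases j <;> simp [kry, Matrix.col, pow_succ, mulVec_mulVec]
  rw [e]
  exact hu

theorem kry_conj {A N P : Matrix (Fin 3) (Fin 3) F} (h : P * N = A * P) (z : Fin 3 → F) :
    kry A (P *ᵥ z) = P * kry N z := by
  have h1 : ∀ u, A *ᵥ (P *ᵥ u) = P *ᵥ (N *ᵥ u) := fun u => by rw [mulVec_mulVec, ← h, ← mulVec_mulVec]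
  have h2 : ∀ (u : Fin 3 → Fin 3 → F) (i j : Fin 3), (P * Matrix.of fun i j => u j i) i j = (P *ᵥ u j) i :=
    fun u i j => by simp [Matrix.mul_apply, mulVec, dotProduct]
  ext i j
  rw [kry, kry, h2]
  fin_cases j <;> simp [h1, -mulVec_mulVec]

theorem sim_of_data {A B : Matrix (Fin 3) (Fin 3) F} (hA : IsCyc A) (hB : IsCyc B)
    (h1 : A.trace = B.trace) (h2 : sec A = sec B) (h3 : A.det = B.det) : Sim A B :=
  sim_of_isCyc hA hB (charpoly_ext h1 h2 h3)

/-- The companion matrix with trace `a`, second invariant `b` and determinant `c`. -/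
def comp3 (a b c : F) : Matrix (Fin 3) (Fin 3) F := !![0, 0, c; 1, 0, -b; 0, 1, a]

theorem comp3_spec (a b c : F) :
    IsCyc (comp3 a b c) ∧ (comp3 a b c).trace = a ∧ sec (comp3 a b c) = b ∧ (comp3 a b c).det = c := by
  refine ⟨isCyc_of_kry ![1, 0, 0] ?_, ?_, ?_, ?_⟩
  · simp [kry, comp3, det_fin_three, dotProduct, Fin.sum_univ_three]
  · simp [comp3, trace_fin_three]
  · simp [comp3, sec]
  · simp [comp3, det_fin_three]

/-- `σ` times the inverse of the companion matrix. -/
def inv3 (a b c σ : F) : Matrix (Fin 3) (Fin 3) F := !![σ * b / c, σ, 0; -(σ * a / c), 0, σ; σ / c, 0, 0]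

theorem inv3_spec (a b : F) {c σ : F} (hc : c ≠ 0) (hσ : σ ≠ 0) :
    IsCyc (inv3 a b c σ) ∧ inv3 a b c σ * comp3 a b c = σ • 1 ∧ comp3 a b c * inv3 a b c σ = σ • 1 ∧
      (inv3 a b c σ).trace = σ * b / c := by
  refine ⟨isCyc_of_kry ![0, 0, 1] ?_, ?_, ?_, ?_⟩
  · simp [kry, inv3, det_fin_three, dotProduct, Fin.sum_univ_three, hσ]
  · ext i j
    fin_cases i <;> fin_cases j <;>
      simp [inv3, comp3, mul_apply, Fin.sum_univ_three] <;> field_simp <;> ring
  · ext i j
    fin_cases i <;> fin_cases j <;>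
      simp [inv3, comp3, mul_apply, Fin.sum_univ_three] <;> field_simp <;> ring
  · simp [inv3, trace_fin_three]

/-- A matrix with root `r` and cofactor `X² - T X + D`. -/
def rootForm (r T D : F) : Matrix (Fin 3) (Fin 3) F := !![r, 0, 0; 1, 0, -D; 0, 1, T]

theorem rootForm_spec (r T D : F) : IsCyc (rootForm r T D) ∧ (rootForm r T D).trace = r + T ∧
    sec (rootForm r T D) = D + r * T ∧ (rootForm r T D).det = r * D := by
  refine ⟨isCyc_of_kry ![1, 0, 0] ?_, ?_, ?_, ?_⟩
  · simp [kry, rootForm, det_fin_three, dotProduct, Fin.sum_univ_three]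
  · simp [rootForm, trace_fin_three]
  · simp [rootForm, sec]
    ring
  · simp [rootForm, det_fin_three]

theorem sim_rootForm {h : Matrix (Fin 3) (Fin 3) F} (hc : IsCyc h) {r : F} (hr : r ≠ 0)
    (hroot : h.charpoly.eval r = 0) : Sim h (rootForm r (h.trace - r) (h.det / r)) := by
  obtain ⟨h1, h2, h3, h4⟩ := rootForm_spec r (h.trace - r) (h.det / r)
  rw [eval_charpoly_three] at hroot
  refine sim_of_data hc h1 (by rw [h2]; ring) ?_ (by rw [h4]; field_simp)
  rw [h3]
  field_simp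
  linear_combination hroot

/-- Every cyclic class with a root is in the product of two cyclic classes. -/
theorem exists_mul_root [Fintype F] (h4 : 4 ≤ Fintype.card F) {A B : Matrix (Fin 3) (Fin 3) F}
    (hA : IsCyc A) (hB : IsCyc B) (hA0 : A.det ≠ 0) {r T D : F} (hr : r ≠ 0)
    (hdet : r * D = A.det * B.det) :
    ∃ A' B', Sim A A' ∧ Sim B B' ∧ Sim (A' * B') (rootForm r T D) := by
  classical
  obtain ⟨a, ha⟩ : ∃ a, a = A.trace := ⟨_, rfl⟩
  obtain ⟨b, hb⟩ : ∃ b, b = sec A := ⟨_, rfl⟩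
  obtain ⟨c, hc⟩ : ∃ c, c = A.det := ⟨_, rfl⟩
  rw [← hc] at hA0
  obtain ⟨s, hs⟩ : ∃ s, s = r / c := ⟨_, rfl⟩
  obtain ⟨k, hk⟩ : ∃ k, k = B.trace - b * s := ⟨_, rfl⟩
  obtain ⟨y, -, hy⟩ := Finset.exists_mem_notMem_of_card_lt_card (s := ({0, k} : Finset F))
    (t := Finset.univ) (by rw [Finset.card_univ]; exact lt_of_le_of_lt Finset.card_le_two (by omega))
  simp only [Finset.mem_insert, Finset.mem_singleton, not_or] at hy
  obtain ⟨hy0, hyk⟩ := hy
  obtain ⟨m, hm⟩ : ∃ m, m = -(r ^ 2 - T * r + D) / y := ⟨_, rfl⟩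
  have hym : y * m = -(r ^ 2 - T * r + D) := by rw [hm]; field_simp
  obtain ⟨u, hu⟩ : ∃ u, u = B.trace - y := ⟨_, rfl⟩
  obtain ⟨e, he⟩ : ∃ e, e = sec B := ⟨_, rfl⟩
  obtain ⟨w, hw⟩ : ∃ w, w = (u * y - m * s - e) / r := ⟨_, rfl⟩
  have hrw : r * w = u * y - m * s - e := by rw [hw]; field_simp
  obtain ⟨B', hB'⟩ : ∃ B' : Matrix (Fin 3) (Fin 3) F, B' = !![u, r, m; w, y, T - r; s, 0, 0] := ⟨_, rfl⟩
  have hs0 : s ≠ 0 := hs ▸ div_ne_zero hr hA0
  have hsc : c * s = r := by rw [hs]; field_simp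
  have hsB : B.det = s * D := mul_left_cancel₀ hA0 (by rw [← mul_assoc, hsc, hdet, hc])
  have hW : comp3 a b c * B' = !![r, 0, 0; u - b * s, r, m; w + a * s, y, T - r] := by
    rw [hB']
    ext i j
    fin_cases i <;> fin_cases j <;> simp [comp3, mul_apply, Fin.sum_univ_three, hsc] <;> ring
  have hWc : IsCyc (comp3 a b c * B') := by
    rw [hW]
    refine isCyc_of_kry ![1, -(w + a * s) / y, 0] ?_
    have hp : u - b * s ≠ 0 := fun e => hyk (by rw [hk, hu] at *; linear_combination -e)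
    refine ne_of_eq_of_ne ?_ (mul_ne_zero hy0 (pow_ne_zero 2 hp))
    simp [kry, det_fin_three, dotProduct, Fin.sum_univ_three]
    field_simp
    ring
  have hBc : IsCyc B' := by
    rw [hB']
    refine isCyc_of_kry ![0, 1, 0] ?_
    refine ne_of_eq_of_ne ?_ (mul_ne_zero (mul_ne_zero hr hr) hs0 |> neg_ne_zero.2)
    simp [kry, det_fin_three, dotProduct, Fin.sum_univ_three]
    ring
  obtain ⟨hCc, hC1, hC2, hC3⟩ := comp3_spec a b c
  obtain ⟨hRc, hR1, hR2, hR3⟩ := rootForm_spec r T D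
  refine ⟨comp3 a b c, B', sim_of_data hA hCc (by rw [hC1, ha]) (by rw [hC2, hb]) (by rw [hC3, hc]),
    sim_of_data hB hBc ?_ ?_ ?_, sim_of_data hWc hRc ?_ ?_ ?_⟩
  · rw [hB']; simp [trace_fin_three, hu]
  · rw [← he, hB']; simp [sec]; linear_combination hrw
  · rw [hB', hsB]; simp [det_fin_three]; linear_combination s * hym
  · rw [hR1, hW]; simp [trace_fin_three]
  · rw [hR2, hW]; simp [sec]; linear_combination -hym
  · rw [hR3, hW]; simp [det_fin_three]; linear_combination -r * hym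

/-- The two dimensional invariant subspace spanned by a vector and its image. -/
theorem exists_form {g : Matrix (Fin 3) (Fin 3) F} {v : Fin 3 → F}
    (hv : LinearIndependent F ![v, g *ᵥ v]) (h : (kry g v).det = 0) :
    ∃ (β α p q μ : F) (P : Matrix (Fin 3) (Fin 3) F), P.det ≠ 0 ∧
      P * !![0, β, p; 1, α, q; 0, 0, μ] = g * P := by
  obtain ⟨u, hu⟩ := Sourour.exists_notMem_of_finrank_lt
    (U := Submodule.span F ({v, g *ᵥ v} : Set (Fin 3 → F))) (by
    rw [Module.finrank_fin_fun]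
    exact lt_of_le_of_lt (Sourour.finrank_span_pair_le v (g *ᵥ v)) (by omega))
  obtain ⟨P, hP⟩ : ∃ P : Matrix (Fin 3) (Fin 3) F, P = Matrix.of fun i j => ![v, g *ᵥ v, u] j i := ⟨_, rfl⟩
  have hPd : P.det ≠ 0 := by
    have hli : LinearIndependent F ![v, g *ᵥ v, u] := by
      rw [Fintype.linearIndependent_iff]
      intro c hc
      simp only [Fin.sum_univ_three, Matrix.cons_val_zero, Matrix.cons_val_one, Matrix.cons_val] at hc
      have c2 : c 2 = 0 := by
        by_contra h2
        refine hu ?_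
        have e : u = (c 2)⁻¹ • -(c 0 • v + c 1 • (g *ᵥ v)) := by
          rw [eq_inv_smul_iff₀ h2]
          linear_combination (norm := module) hc
        rw [e]
        exact Submodule.smul_mem _ _ (neg_mem (add_mem
          (Submodule.smul_mem _ _ (Submodule.subset_span (by simp)))
          (Submodule.smul_mem _ _ (Submodule.subset_span (by simp)))))
      rw [c2, zero_smul, add_zero] at hc
      have := Fintype.linearIndependent_iff.mp hv ![c 0, c 1] (by simpa [Fin.sum_univ_two] using hc)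
      intro i
      fin_cases i
      exacts [this 0, this 1, c2]
    refine ((Matrix.isUnit_iff_isUnit_det _).mp (Matrix.linearIndependent_cols_iff_isUnit.mp ?_)).ne_zero
    rw [hP]
    exact hli
  obtain ⟨N, hN⟩ : ∃ N : Matrix (Fin 3) (Fin 3) F, N = P⁻¹ * g * P := ⟨_, rfl⟩
  have hPN : P * N = g * P := by
    rw [hN, ← Matrix.mul_assoc, ← Matrix.mul_assoc, mul_nonsing_inv _ (isUnit_iff_ne_zero.2 hPd),
      Matrix.one_mul]
  have hcol : N *ᵥ ![1, 0, 0] = ![0, 1, 0] := by
    have e : P *ᵥ (N *ᵥ ![1, 0, 0]) = P *ᵥ ![0, 1, 0] := by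
      rw [mulVec_mulVec, hPN, ← mulVec_mulVec]
      have h0 : P *ᵥ ![1, 0, 0] = v := by
        funext i
        rw [hP]
        simp [mulVec, dotProduct, Fin.sum_univ_three]
      rw [h0]
      funext i
      rw [hP]
      simp [mulVec, dotProduct, Fin.sum_univ_three]
    have := congrArg (P⁻¹ *ᵥ ·) e
    simpa [mulVec_mulVec, ← Matrix.mul_assoc, nonsing_inv_mul _ (isUnit_iff_ne_zero.2 hPd)] using this
  have c0 : N 0 0 = 0 ∧ N 1 0 = 1 ∧ N 2 0 = 0 := by
    refine ⟨?_, ?_, ?_⟩
    · simpa [mulVec, dotProduct, Fin.sum_univ_three] using congrFun hcol 0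
    · simpa [mulVec, dotProduct, Fin.sum_univ_three] using congrFun hcol 1
    · simpa [mulVec, dotProduct, Fin.sum_univ_three] using congrFun hcol 2
  have h21 : N 2 1 = 0 := by
    have e := kry_conj hPN ![1, 0, 0]
    have hPv : P *ᵥ ![1, 0, 0] = v := by
      funext i
      rw [hP]
      simp [mulVec, dotProduct, Fin.sum_univ_three]
    rw [hPv] at e
    rw [e, det_mul, mul_eq_zero] at h
    have h' := h.resolve_left hPd
    simp [kry, det_fin_three, hcol, -mulVec_mulVec] at h'
    simp [mulVec, dotProduct, Fin.sum_univ_three] at h'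
    exact h'
  refine ⟨N 0 1, N 1 1, N 0 2, N 1 2, N 2 2, P, hPd, ?_⟩
  rw [← hPN]
  congr 1
  ext i j
  fin_cases i <;> fin_cases j <;> simp [c0, h21]

/-- A nonscalar matrix is cyclic or a scalar plus a matrix of rank one. -/
theorem cyc_or_rankOne {g : Matrix (Fin 3) (Fin 3) F} (hg : ∀ c : F, g ≠ c • 1) :
    IsCyc g ∨ ∃ (σ : F) (a b : Fin 3 → F), a ≠ 0 ∧ b ≠ 0 ∧ g = σ • 1 + vecMulVec a b := by
  obtain ⟨v, hv⟩ : ∃ v, LinearIndependent F ![v, g *ᵥ v] := by
    by_contra hc
    push Not at hc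
    have hall : ∀ v : Fin 3 → F, v ≠ 0 → ∃ c : F, g *ᵥ v = c • v := by
      intro v hv
      have := hc v
      rw [LinearIndependent.pair_iff] at this
      push Not at this
      obtain ⟨s, t, hst, hne⟩ := this
      have ht : t ≠ 0 := fun e => by
        rw [e, zero_smul, add_zero, smul_eq_zero] at hst
        exact hne (hst.resolve_right hv) e
      refine ⟨-s / t, ?_⟩
      rw [div_eq_inv_mul, mul_smul, eq_inv_smul_iff₀ ht]
      linear_combination (norm := module) hst
    have hall' : ∀ v : Fin 3 → F, v ≠ 0 → ∀ i j, (g *ᵥ v) i * v j = (g *ᵥ v) j * v i := fun v hv i j => by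
      obtain ⟨c, e⟩ := hall v hv
      rw [e]
      simp only [Pi.smul_apply, smul_eq_mul]
      ring
    have e0 := hall' ![1, 0, 0] (fun e => by simpa using congrFun e 0)
    have e1 := hall' ![0, 1, 0] (fun e => by simpa using congrFun e 1)
    have e2 := hall' ![0, 0, 1] (fun e => by simpa using congrFun e 2)
    have e3 := hall' ![1, 1, 1] (fun e => by simpa using congrFun e 0)
    simp only [mulVec, dotProduct, Fin.sum_univ_three, Matrix.cons_val_zero, Matrix.cons_val_one,
      Matrix.cons_val, mul_zero, mul_one, add_zero, zero_add] at e0 e1 e2 e3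
    have a10 := e0 1 0
    have a20 := e0 2 0
    have a01 := e1 0 1
    have a21 := e1 2 1
    have a02 := e2 0 2
    have a12 := e2 1 2
    have a3 := e3 1 0
    have a4 := e3 2 0
    simp at a10 a20 a01 a21 a02 a12 a3 a4
    refine hg (g 0 0) ?_
    ext i j
    fin_cases i <;> fin_cases j <;> simp [a10, a20, a01, a21, a02, a12]
    · linear_combination a3 - a10 - a12 + a01 + a02
    · linear_combination a4 - a20 - a21 + a01 + a02
  by_cases hd : (kry g v).det = 0
  swap
  · exact Or.inl (isCyc_of_kry v hd)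
  obtain ⟨β, α, p, q, μ, P, hP, hPN⟩ := exists_form hv hd
  obtain ⟨N, hN⟩ : ∃ N : Matrix (Fin 3) (Fin 3) F, N = !![0, β, p; 1, α, q; 0, 0, μ] := ⟨_, rfl⟩
  rw [← hN] at hPN
  have key : ∀ t : F, p + μ * q + t * (μ * (α - μ) + β) ≠ 0 → IsCyc g := by
    intro t ht
    refine isCyc_of_kry (P *ᵥ ![-q - (α - μ) * t, t, 1]) ?_
    rw [kry_conj hPN, det_mul]
    refine mul_ne_zero hP (ne_of_eq_of_ne ?_ (pow_ne_zero 2 ht))
    rw [hN]
    simp [kry, det_fin_three, dotProduct, Fin.sum_univ_three]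
    ring
  by_cases h1 : p + μ * q = 0
  swap
  · exact Or.inl (key 0 (by simpa using h1))
  by_cases h2 : μ * (α - μ) + β = 0
  swap
  · exact Or.inl (key 1 (by simpa [h1] using h2))
  refine Or.inr ⟨μ, P *ᵥ ![-μ, 1, 0], ![1, α - μ, q] ᵥ* P⁻¹, ?_, ?_, ?_⟩
  · intro e
    have := congrArg (P⁻¹ *ᵥ ·) e
    simp only [mulVec_mulVec, nonsing_inv_mul _ (isUnit_iff_ne_zero.2 hP), one_mulVec, mulVec_zero] at this
    simpa using congrFun this 1
  · intro e
    have := congrArg (· ᵥ* P) e
    simp only [vecMul_vecMul, nonsing_inv_mul _ (isUnit_iff_ne_zero.2 hP), vecMul_one, zero_vecMul] at this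
    simpa using congrFun this 0
  · have e : N = μ • 1 + vecMulVec ![-μ, 1, 0] ![1, α - μ, q] := by
      rw [hN]
      ext i j
      fin_cases i <;> fin_cases j <;> simp [vecMulVec_apply, one_apply]
      · linear_combination h2
      · linear_combination h1
    calc g = g * P * P⁻¹ := by rw [Matrix.mul_assoc, mul_nonsing_inv _ (isUnit_iff_ne_zero.2 hP), Matrix.mul_one]
      _ = P * N * P⁻¹ := by rw [hPN]
      _ = _ := by
        rw [e, Matrix.mul_add, Matrix.add_mul, Matrix.mul_smul, Matrix.smul_mul, Matrix.mul_one,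
          mul_nonsing_inv _ (isUnit_iff_ne_zero.2 hP), mul_vecMulVec, vecMulVec_mul]

end CfsgLib.CoverPSL.Three
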