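import Cfsg.Agent.CoverPSL.Build
import Cfsg.Agent.CoverPSL.Double

/-!
# Units for the base of the step

Sets of blocks with a mate whose common left eigenvectors are controlled.
-/

set_option autoImplicit false

namespace CfsgLib.CoverPSL

open Matrix Polynomial CfsgLib.OreSL

variable {F : Type*} [Field F] {m N : ℕ}

/-- The blocks of `s` have a mate with common left eigenvectors in `L`. -/
def Have (B : Fin N → Blk F) (s : Finset (Fin N)) (L : Set (F × F)) : Prop :=
  ∃ (m : ℕ) (M : Matrix (Fin m) (Fin m) F) (t : Fin m → F), SimRep B s M ∧ Sq ⊤ L M t ∧ M.det ≠ 0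

theorem Sq.mono {G : Subgroup Fˣ} {L L' : Set (F × F)} (hL : L ⊆ L') {x : Matrix (Fin m) (Fin m) F}
    {t : Fin m → F} (hx : Sq G L x t) : Sq G L' x t := fun r =>
  let ⟨P, hP, hM, hl⟩ := hx r
  ⟨P, hP, hM, fun ψ a b h0 h1 h2 => hL (hl ψ a b h0 h1 h2)⟩

theorem Have.mono {B : Fin N → Blk F} {s : Finset (Fin N)} {L L' : Set (F × F)} (hL : L ⊆ L')
    (h : Have B s L) : Have B s L' :=
  let ⟨k, M, t, h1, h2, h3⟩ := h
  ⟨k, M, t, h1, h2.mono hL, h3⟩

/-- Spectral test for common eigenvectors on both sides. -/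
theorem noCommon_of_spec {z : Matrix (Fin m) (Fin m) F} (P : GL (Fin m) F) {t : Fin m → F}
    (hM : (z * ((P : Matrix (Fin m) (Fin m) F) * z * ((P⁻¹ : GL (Fin m) F) : Matrix (Fin m) (Fin m) F))).charpoly =
      ∏ i, (X - C (t i)))
    (h : ∀ a b, z.charpoly.eval a = 0 → z.charpoly.eval b = 0 → ∀ i, t i ≠ a * b) :
    NoCommon z ((P : Matrix (Fin m) (Fin m) F) * z * ((P⁻¹ : GL (Fin m) F) : Matrix (Fin m) (Fin m) F)) ∧
      NoCommonLeft z ((P : Matrix (Fin m) (Fin m) F) * z * ((P⁻¹ : GL (Fin m) F) : Matrix (Fin m) (Fin m) F)) := by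
  set y := (P : Matrix (Fin m) (Fin m) F) * z * ((P⁻¹ : GL (Fin m) F) : Matrix (Fin m) (Fin m) F)
  have hyp : y.charpoly = z.charpoly := charpoly_conj P z
  have fin : ∀ a b c, z.charpoly.eval a = 0 → y.charpoly.eval b = 0 → (z * y).charpoly.eval c = 0 → c = a * b → False := by
    intro a b c ha hb hc e
    rw [hyp] at hb
    rw [hM, eval_prod, Finset.prod_eq_zero_iff] at hc
    obtain ⟨i, -, hi⟩ := hc
    rw [eval_sub, eval_X, eval_C, sub_eq_zero] at hi
    exact h a b ha hb i (hi.symm.trans e)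
  refine ⟨fun v a b hv hv2 => ?_, fun ψ a b hψ hψ2 => ?_⟩
  · by_contra hv0
    exact fin a b (a * b) (root_of_eigen hv0 hv) (root_of_eigen hv0 hv2) (root_of_eigen hv0 (by
      rw [← mulVec_mulVec, hv2, mulVec_smul, hv, smul_smul, mul_comm])) rfl
  · by_contra hψ0
    have hroot : ∀ (A : Matrix (Fin m) (Fin m) F) (c : F), ψ ᵥ* A = c • ψ → A.charpoly.eval c = 0 := by
      intro A c hA
      rw [← charpoly_transpose]
      exact root_of_eigen hψ0 (by rw [mulVec_transpose]; exact hA)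
    exact fin a b (a * b) (hroot _ _ hψ) (hroot _ _ hψ2) (hroot _ _ (by
      rw [← vecMul_vecMul, hψ, smul_vecMul, hψ2, smul_smul])) rfl

theorem leftIn_empty {z y : Matrix (Fin m) (Fin m) F} (hz : z.det ≠ 0) (h : NoCommonLeft z y) :
    LeftIn z y ∅ := by
  intro ψ a b h0 h1 h2
  refine absurd (h ψ a (b / a) h1 ?_) h0
  have ha : a ≠ 0 := fun e => hz (Matrix.exists_vecMul_eq_zero_iff.mp ⟨ψ, h0, by rw [h1, e, zero_smul]⟩)
  rw [← vecMul_vecMul, h1, smul_vecMul] at h2
  rw [div_eq_inv_mul, mul_smul, ← h2, inv_smul_smul₀ ha]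

/-- A mate without common eigenvectors on either side. -/
def Top2 {k : ℕ} (z : Matrix (Fin k) (Fin k) F) : Prop :=
  ∃ (P : GL (Fin k) F) (t : Fin k → F),
    Mate z ((P : Matrix (Fin k) (Fin k) F) * z * ((P⁻¹ : GL (Fin k) F) : Matrix (Fin k) (Fin k) F)) t ∧
    NoCommon z ((P : Matrix (Fin k) (Fin k) F) * z * ((P⁻¹ : GL (Fin k) F) : Matrix (Fin k) (Fin k) F)) ∧
    LeftIn z ((P : Matrix (Fin k) (Fin k) F) * z * ((P⁻¹ : GL (Fin k) F) : Matrix (Fin k) (Fin k) F)) ∅ ∧
    ∃ S : Finset F, S.card ≤ 3 ∧ ∀ i, t i ∈ S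

/-- The line `j` has eigenvalue `l`. -/
def Line (B : Fin N → Blk F) (j : Fin N) (l : F) : Prop :=
  (B j).m = 0 ∧ ∀ p, (B j).mat p p = l

theorem Line.rep {B : Fin N → Blk F} {j : Fin N} {l : F} (h : Line B j l) :
    SimRep B {j} (l • (1 : Matrix (Fin 1) (Fin 1) F)) := by
  have e : Fin 1 ≃ ({j} : Finset (Fin N)) := Fintype.equivOfCardEq (by simp)
  have he : ∀ q, ((e q : ({j} : Finset (Fin N))) : Fin N) = j := fun q => Finset.mem_singleton.mp (e q).2
  have h' := simRep_diagonal (B := B) e (fun _ => l) (fun q => by rw [he]; exact h.1) fun q => by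
    rw [he]; exact h.2
  refine h'.of_sim (Sim.of_eq ?_)
  ext a b
  rw [Subsingleton.elim a b]
  simp

theorem simRep_pair {B : Fin N → Blk F} {i j : Fin N} {a b : F} (hij : i ≠ j) (hi : Line B i a) (hj : Line B j b) :
    SimRep B {i, j} (Matrix.diagonal ![a, b]) := by
  classical
  have h := hi.rep.union (Finset.disjoint_singleton.mpr hij) hj.rep
  rw [show ({i} : Finset (Fin N)) ∪ {j} = {i, j} from (Finset.insert_eq i {j}).symm] at h
  refine h.of_sim (Sim.of_eq ?_)
  ext p q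
  fin_cases p <;> fin_cases q <;> simp [dsum, finSumFinEquiv, Fin.addCases]

/-- An eigenvector pair of `diag (a, b)` and its swapped unitriangular conjugate. -/
theorem pair_mate {a b : F} (hab : a ≠ b) (ha : a ≠ 0) :
    ∃ P : GL (Fin 2) F,
      Mate (Matrix.diagonal ![a, b])
        ((P : Matrix (Fin 2) (Fin 2) F) * Matrix.diagonal ![a, b] * ((P⁻¹ : GL (Fin 2) F) : Matrix (Fin 2) (Fin 2) F))
        ![a * b, a * b] ∧
      LeftIn (Matrix.diagonal ![a, b])
        ((P : Matrix (Fin 2) (Fin 2) F) * Matrix.diagonal ![a, b] * ((P⁻¹ : GL (Fin 2) F) : Matrix (Fin 2) (Fin 2) F))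
        {(b, a * b)} ∧
      ∀ (v : Fin 2 → F) (α β : F), v ≠ 0 → Matrix.diagonal ![a, b] *ᵥ v = α • v →
        ((P : Matrix (Fin 2) (Fin 2) F) * Matrix.diagonal ![a, b] * ((P⁻¹ : GL (Fin 2) F) : Matrix (Fin 2) (Fin 2) F)) *ᵥ v = β • v →
          α = a ∧ β = b := by
  set z : Matrix (Fin 2) (Fin 2) F := Matrix.diagonal ![a, b]
  set P := GeneralLinearGroup.mkOfDetNeZero !![(1 : F), 1; a - b, 0] (by
    simp [det_fin_two]; exact sub_ne_zero.2 hab.symm)
  set y : Matrix (Fin 2) (Fin 2) F := !![b, 1; 0, a]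
  have hy : (P : Matrix (Fin 2) (Fin 2) F) * z * ((P⁻¹ : GL (Fin 2) F) : Matrix (Fin 2) (Fin 2) F) = y := by
    rw [Units.mul_inv_eq_iff_eq_mul]
    ext i j
    fin_cases i <;> fin_cases j <;> simp [P, z, y, mul_apply, Fin.sum_univ_two] <;> ring
  have hT : z * y = !![a * b, a; 0, a * b] := by
    ext i j
    fin_cases i <;> fin_cases j <;> simp [z, y, mul_apply, Fin.sum_univ_two] <;> ring
  refine ⟨P, ⟨?_, fun c => ?_⟩, ?_, ?_⟩
  · rw [hy, hT, Matrix.charpoly_fin_two]
    simp [trace_fin_two, det_fin_two, Fin.prod_univ_two]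
    ring
  · rw [hy, hT, eigLe_iff]
    intro v w hv hw hv0
    have key : ∀ u : Fin 2 → F, !![a * b, a; 0, a * b] *ᵥ u = c • u → u 1 = 0 := by
      intro u hu
      have h0 := congrFun hu 0
      have h1 := congrFun hu 1
      simp [mulVec, dotProduct, Fin.sum_univ_two] at h0 h1
      rcases h1 with h1 | h1
      · rw [← h1] at h0
        exact (mul_eq_zero.mp (show a * u 1 = 0 by linear_combination h0)).resolve_left ha
      · exact h1
    have hv0' : v 0 ≠ 0 := fun h => hv0 (funext fun i => by fin_cases i <;> simp [h, key v hv])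
    refine ⟨w 0 / v 0, funext fun i => ?_⟩
    fin_cases i <;> simp [key v hv, key w hw, div_mul_cancel₀ _ hv0']
  · rw [hy]
    intro ψ α β hψ0 h1 h2
    rw [hT] at h2
    have e0 := congrFun h1 0
    have e1 := congrFun h1 1
    have f0 := congrFun h2 0
    have f1 := congrFun h2 1
    simp [z, vecMul, dotProduct, Fin.sum_univ_two] at e0 e1 f0 f1
    have h0 : ψ 0 = 0 := by
      by_contra h0
      have : β = a * b := mul_right_cancel₀ h0 (by linear_combination -f0)
      rw [this] at f1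
      exact mul_ne_zero h0 ha (by linear_combination f1)
    have h1' : ψ 1 ≠ 0 := fun e => hψ0 (funext fun i => by fin_cases i <;> simp [h0, e])
    rw [Set.mem_singleton_iff, Prod.mk.injEq]
    exact ⟨mul_right_cancel₀ h1' (by linear_combination -e1),
      mul_right_cancel₀ h1' (by rw [h0] at f1; linear_combination -f1)⟩
  · rw [hy]
    intro v α β hv0 h1 h2
    have e0 := congrFun h1 0
    have e1 := congrFun h1 1
    have f0 := congrFun h2 0
    have f1 := congrFun h2 1
    simp [z, y, mulVec, dotProduct, Fin.sum_univ_two, Matrix.diagonal] at e0 e1 f0 f1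
    have h1' : v 1 = 0 := by
      by_contra h1'
      have hα : α = b := mul_right_cancel₀ h1' (by rcases e1 with e | e <;> [linear_combination (-v 1) * e; exact absurd e h1'])
      have hv : v 0 = 0 := by
        rcases e0 with e | e
        · exact absurd (e.trans hα) hab
        · exact e
      rw [hv] at f0
      exact h1' (by linear_combination f0)
    have h0' : v 0 ≠ 0 := fun e => hv0 (funext fun i => by fin_cases i <;> simp [h1', e])
    rw [h1'] at f0
    exact ⟨mul_right_cancel₀ h0' (by rcases e0 with e | e <;> [linear_combination (-v 0) * e; exact absurd e h0']),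
      mul_right_cancel₀ h0' (by linear_combination -f0)⟩

variable [Fintype F]

/-- Blocks of size at least two have mates without common eigenvectors on either side. -/
theorem top2_of_block (h4 : 4 ≤ Fintype.card F) (A : Blk F) (hone : OneRoot A.mat) (hm : 1 ≤ A.m)
    (hd0 : A.mat.det ≠ 0) : Top2 A.mat := by
  classical
  obtain ⟨m, z, hc⟩ := A
  simp only at hone hm hd0 ⊢
  have conclude : ∀ (P : GL (Fin (m + 1)) F) (t : Fin (m + 1) → F),
      Mate z ((P : Matrix (Fin (m + 1)) (Fin (m + 1)) F) * z * ((P⁻¹ : GL (Fin (m + 1)) F) : Matrix (Fin (m + 1)) (Fin (m + 1)) F)) t →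
      (∀ a, z.charpoly.eval a = 0 → ∀ i, t i ≠ a * a) → (∃ S : Finset F, S.card ≤ 3 ∧ ∀ i, t i ∈ S) →
      Top2 z := by
    intro P t hM hsp hcard
    obtain ⟨h1, h2⟩ := noCommon_of_spec P hM.1 fun a b ha hb i => by rw [← hone a b ha hb]; exact hsp a ha i
    exact ⟨P, t, hM, h1, leftIn_empty hd0 h2, hcard⟩
  rcases Nat.lt_or_ge m 2 with hm2 | hm2
  · obtain rfl : m = 1 := by omega
    obtain ⟨s, hs0, hs1, hs2⟩ := exists_ne_three h4 0 z.det (-z.det)
    obtain ⟨P, hM, -⟩ := gl2_mate h4 z (IsCyc.ne_scalar le_rfl hc) hd0 s hs0 (Or.inr ⟨hs1, hs2⟩)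
    refine conclude P _ hM (fun a ha i => ?_) ⟨{s, z.det ^ 2 / s}, Finset.card_le_two.trans (by norm_num),
      fun i => by fin_cases i <;> simp⟩
    rw [← sq, ← (j2_mate h4 z hc hone hd0 ha).1]
    fin_cases i
    · exact hs1
    · intro e
      simp at e
      rw [div_eq_iff hs0] at e
      exact hs1 (mul_left_cancel₀ hd0 (by rw [← sq, e]))
  · obtain ⟨k, rfl⟩ : ∃ k, m = k + 2 := ⟨m - 2, by omega⟩
    change Matrix (Fin (k + 3)) (Fin (k + 3)) F at z
    change IsCyc (m := k + 3) z at hc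
    have mk : ∀ t : Fin (k + 3) → F, (∀ i, t i ≠ 0) → Grouped t → ∏ i, t i = z.det ^ 2 →
        (∀ a, z.charpoly.eval a = 0 → ∀ i, t i ≠ a * a) → (∃ S : Finset F, S.card ≤ 3 ∧ ∀ i, t i ∈ S) →
        Top2 z := by
      intro t ht hg hprod hsp hcard
      obtain ⟨r₀, h⟩ := block_pair h4 z hc hd0 hone t ht hg hprod
      obtain ⟨P, -, hM, -, -⟩ := h r₀ (Or.inl rfl)
      exact conclude P t hM hsp hcard
    obtain ⟨e, he0, he⟩ : ∃ e : F, e ≠ 0 ∧ ∀ a, z.charpoly.eval a = 0 → a * a = e := by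
      by_cases hr : ∃ a, z.charpoly.eval a = 0
      · obtain ⟨a, ha⟩ := hr
        exact ⟨a * a, mul_ne_zero (root_ne_zero hd0 ha) (root_ne_zero hd0 ha), fun b hb => by rw [hone b a hb ha]⟩
      · exact ⟨1, one_ne_zero, fun a ha => absurd ⟨a, ha⟩ hr⟩
    obtain ⟨u, hu0, hu1, -⟩ := exists_ne_three h4 0 e e
    set ρ := z.det ^ 2 / u ^ (k + 1)
    have hρ0 : ρ ≠ 0 := div_ne_zero (pow_ne_zero _ hd0) (pow_ne_zero _ hu0)
    obtain ⟨v, w, hv, hw, hvw, hv0, hw0, hgrp⟩ : ∃ v w, v ≠ e ∧ w ≠ e ∧ v * w = ρ ∧ v ≠ 0 ∧ w ≠ 0 ∧ (u = w → u = v) := by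
      by_cases h : ρ / u ≠ e
      · exact ⟨u, ρ / u, hu1, h, mul_div_cancel₀ _ hu0, hu0, div_ne_zero hρ0 hu0, fun _ => rfl⟩
      push Not at h
      have hρ : ρ = u * e := by rw [← h, mul_div_cancel₀ _ hu0]
      obtain ⟨v, hv0, hve, hvu⟩ := exists_ne_three h4 0 e u
      refine ⟨v, ρ / v, hve, fun e' => hvu ?_, mul_div_cancel₀ _ hv0, hv0, div_ne_zero hρ0 hv0, fun e' => ?_⟩
      · rw [div_eq_iff hv0, hρ, mul_comm u] at e'
        exact (mul_left_cancel₀ he0 e').symm
      · exfalso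
        rw [eq_div_iff hv0, hρ] at e'
        exact hve (mul_left_cancel₀ hu0 e')
    set t : Fin (k + 3) → F := fun i => if i.val ≤ k then u else if i.val = k + 1 then v else w
    have hval : ∀ i, t i = u ∨ t i = v ∨ t i = w := fun i => by
      simp only [t]
      split_ifs <;> simp
    refine mk t (fun i => by rcases hval i with h | h | h <;> rw [h] <;> assumption) ?_ ?_ ?_
      ⟨{u, v, w}, Finset.card_le_three, fun i => by rcases hval i with h | h | h <;> simp [h]⟩
    · intro i j hij heq h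
      have hij' : i.val < j.val := hij
      simp only [t] at heq ⊢
      have hj := j.isLt
      split_ifs at heq ⊢ <;> first | rfl | omega | exact heq.symm | exact (hgrp heq).symm | exact heq
    · rw [Fin.prod_univ_castSucc, Fin.prod_univ_castSucc]
      simp only [t, Fin.val_castSucc, Fin.val_last]
      rw [Finset.prod_congr rfl fun i _ => if_pos (Nat.lt_succ_iff.mp i.isLt),
        if_neg (show ¬ k + 1 ≤ k by omega), if_neg (show ¬ k + 2 ≤ k by omega),
        if_neg (show ¬ k + 2 = k + 1 by omega)]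
      simp only [if_true, Finset.prod_const, Finset.card_univ, Fintype.card_fin]
      rw [mul_assoc, hvw]
      exact mul_div_cancel₀ _ (pow_ne_zero _ hu0)
    · intro a ha i
      rw [he a ha]
      rcases hval i with h | h | h <;> rw [h] <;> assumption

/-- Blocks with two-sided mates can be stacked without changing `L`. -/
theorem Have.stack (h4 : 4 ≤ Fintype.card F) {B : Fin N → Blk F} {s₀ : Finset (Fin N)} {L : Set (F × F)}
    (h₀ : Have B s₀ L) (s : Finset (Fin N)) (hdisj : _root_.Disjoint s s₀)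
    (hs : ∀ i ∈ s, OneRoot (B i).mat ∧ 1 ≤ (B i).m ∧ (B i).mat.det ≠ 0) : Have B (s ∪ s₀) L := by
  classical
  induction s using Finset.induction_on with
  | empty => rwa [Finset.empty_union]
  | @insert a s ha ih =>
    rw [Finset.disjoint_insert_left] at hdisj
    obtain ⟨m, M, t, hR, hSq, hM⟩ := ih hdisj.2 fun i hi => hs i (Finset.mem_insert_of_mem hi)
    obtain ⟨h1, h2, h3⟩ := hs a (Finset.mem_insert_self a s)
    obtain ⟨P, t1, hMate, hNC, hL1, hcard⟩ := top2_of_block h4 (B a) h1 h2 h3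
    refine ⟨_, dsum (B a).mat M, Fin.append t1 t, ?_,
      (Sq.link h4 h3 P hMate hL1 hcard (fun v α β hv h1 h2 => absurd (hNC v α β h1 h2) hv) hM hSq).mono ?_,
      by rw [det_dsum]; exact mul_ne_zero h3 hM⟩
    · rw [Finset.insert_union, Finset.insert_eq]
      exact (simRep_singleton B a).union (Finset.disjoint_singleton_left.mpr (by
        rw [Finset.mem_union, not_or]; exact ⟨ha, hdisj.1⟩)) hR
    · rintro p (h | h)
      · exact h.elim
      · exact h.1

/-- Blocks alone. -/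
theorem Have.blocks (h4 : 4 ≤ Fintype.card F) {B : Fin N → Blk F} {s : Finset (Fin N)} (hne : s.Nonempty)
    (hs : ∀ i ∈ s, OneRoot (B i).mat ∧ 1 ≤ (B i).m ∧ (B i).mat.det ≠ 0) : Have B s ∅ := by
  classical
  obtain ⟨a, ha⟩ := hne
  obtain ⟨h1, h2, h3⟩ := hs a ha
  obtain ⟨P, t1, hMate, -, hL1, -⟩ := top2_of_block h4 (B a) h1 h2 h3
  have h := Have.stack h4 (⟨_, (B a).mat, t1, simRep_singleton B a,
    fun r => ⟨P, Subgroup.mem_top _, hMate, hL1⟩, h3⟩ : Have B {a} ∅) (s.erase a)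
    (Finset.disjoint_singleton_right.mpr (Finset.notMem_erase a s)) fun i hi => hs i (Finset.mem_of_mem_erase hi)
  rwa [Finset.union_comm, ← Finset.insert_eq, Finset.insert_erase ha] at h

/-- One line. -/
theorem Have.line {B : Fin N → Blk F} {j : Fin N} {l : F} (hj : Line B j l) (hl : l ≠ 0) :
    Have B {j} {(l, l ^ 2)} := by
  refine ⟨1, l • 1, fun _ => l ^ 2, hj.rep, fun r => ⟨1, Subgroup.mem_top _, ⟨?_, fun c => ?_⟩, ?_⟩,
    by simp [det_smul, hl]⟩
  · simp [Matrix.charpoly, Matrix.charmatrix, det_fin_one, smul_smul, sq]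
  · exact (Nat.le_add_left 1 _ : 1 ≤ _)
  · intro ψ α β hψ h1 h2
    have h0 : ψ 0 ≠ 0 := fun e => hψ (funext fun i => by rw [Subsingleton.elim i 0]; exact e)
    have e1 := congrFun h1 0
    have e2 := congrFun h2 0
    simp only [Units.val_one, inv_one, Matrix.one_mul, Matrix.mul_one, Matrix.smul_mul, vecMul, dotProduct,
      Fin.sum_univ_one, Matrix.smul_apply, one_apply_eq, smul_eq_mul, Pi.smul_apply, mul_one] at e1 e2
    rw [Set.mem_singleton_iff, Prod.mk.injEq]
    exact ⟨mul_left_cancel₀ h0 (by linear_combination -e1), mul_left_cancel₀ h0 (by linear_combination -e2)⟩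

/-- A pair of lines on top. -/
theorem Have.pair (h4 : 4 ≤ Fintype.card F) {B : Fin N → Blk F} {s₀ : Finset (Fin N)} {L : Set (F × F)}
    (h₀ : Have B s₀ L) {i j : Fin N} {a b : F} (hi : Line B i a) (hj : Line B j b) (hab : a ≠ b) (ha : a ≠ 0)
    (hb : b ≠ 0) (hi₀ : i ∉ s₀) (hj₀ : j ∉ s₀) (hL : (a, a * b) ∉ L) :
    Have B ({i, j} ∪ s₀) (insert (b, a * b) L) := by
  classical
  have hij : i ≠ j := fun e => hab (by
    subst e
    exact (hi.2 0).symm.trans (hj.2 0))
  obtain ⟨m, M, t, hR, hSq, hM⟩ := h₀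
  obtain ⟨P, hMate, hLeft, hcommon⟩ := pair_mate hab ha
  have hd : (Matrix.diagonal ![a, b]).det ≠ 0 := by simp [Fin.prod_univ_two, ha, hb]
  refine ⟨_, dsum (Matrix.diagonal ![a, b]) M, Fin.append ![a * b, a * b] t, ?_,
    (Sq.link h4 hd P hMate hLeft ⟨{a * b}, by simp, fun i => by fin_cases i <;> simp⟩
      (fun v α β hv h1 h2 => ?_) hM hSq).mono ?_, by rw [det_dsum]; exact mul_ne_zero hd hM⟩
  · exact (simRep_pair hij hi hj).union (by simp [hi₀, hj₀]) hR
  · obtain ⟨rfl, rfl⟩ := hcommon v α β hv h1 h2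
    exact hL
  · rintro p (h | h)
    · exact Set.mem_insert_iff.mpr (Or.inl h)
    · exact Set.mem_insert_iff.mpr (Or.inr h.1)

/-- A pair of lines alone. -/
theorem Have.pairBase {B : Fin N → Blk F} {i j : Fin N} {a b : F} (hi : Line B i a) (hj : Line B j b)
    (hab : a ≠ b) (ha : a ≠ 0) (hb : b ≠ 0) : Have B {i, j} {(b, a * b)} := by
  have hij : i ≠ j := fun e => hab (by
    subst e
    exact (hi.2 0).symm.trans (hj.2 0))
  obtain ⟨P, hMate, hLeft, -⟩ := pair_mate hab ha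
  exact ⟨2, _, _, simRep_pair hij hi hj, fun r => ⟨P, Subgroup.mem_top _, hMate, hLeft⟩,
    by simp [Fin.prod_univ_two, ha, hb]⟩

/-- A block of size at least three over a line, absorbing its eigenvalue. -/
theorem Have.absorb (h4 : 4 ≤ Fintype.card F) {B : Fin N → Blk F} {i j : Fin N} {l : F} (hj : Line B j l)
    (hl : l ≠ 0) (hone : OneRoot (B i).mat) (hpure : Pure (B i).mat) (hm : 2 ≤ (B i).m)
    (hd0 : (B i).mat.det ≠ 0) :
    Have B {i, j} {p | (B i).mat.charpoly.eval p.1 = 0 ∧ p.1 ≠ l} := by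
  classical
  have hij : i ≠ j := fun e => by rw [e, hj.1] at hm; omega
  obtain ⟨m₀, M₀, t₀, hR₀, hSq₀, hM₀⟩ := Have.line hj hl
  have hR := simRep_singleton B i
  generalize B i = A at hone hpure hm hd0 hR
  obtain ⟨m, z, hc⟩ := A
  simp only at hone hpure hm hd0 hR ⊢
  obtain ⟨k, rfl⟩ : ∃ k, m = k + 2 := ⟨m - 2, by omega⟩
  change Matrix (Fin (k + 3)) (Fin (k + 3)) F at z
  change IsCyc (m := k + 3) z at hc
  have fin : ∀ (P : GL (Fin (k + 3)) F) (t : Fin (k + 3) → F) (L1 : Set (F × F)),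
      Mate z ((P : Matrix (Fin (k + 3)) (Fin (k + 3)) F) * z * ((P⁻¹ : GL (Fin (k + 3)) F) : Matrix (Fin (k + 3)) (Fin (k + 3)) F)) t →
      LeftIn z ((P : Matrix (Fin (k + 3)) (Fin (k + 3)) F) * z * ((P⁻¹ : GL (Fin (k + 3)) F) : Matrix (Fin (k + 3)) (Fin (k + 3)) F)) L1 →
      (∃ S : Finset F, S.card ≤ 3 ∧ ∀ q, t q ∈ S) → t 0 = l ^ 2 →
      (∀ (v : Fin (k + 3) → F) (α β : F), v ≠ 0 → z *ᵥ v = α • v →
        ((P : Matrix (Fin (k + 3)) (Fin (k + 3)) F) * z * ((P⁻¹ : GL (Fin (k + 3)) F) : Matrix (Fin (k + 3)) (Fin (k + 3)) F)) *ᵥ v = β • v →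
          α ≠ l) → L1 ⊆ {p | z.charpoly.eval p.1 = 0 ∧ p.1 ≠ l} →
      Have B {i, j} {p | z.charpoly.eval p.1 = 0 ∧ p.1 ≠ l} := by
    intro P t L1 hMate hL1 hcard ht0 hc' hsub
    refine ⟨_, dsum z M₀, Fin.append t t₀, ?_, (Sq.link h4 hd0 P hMate hL1 hcard
      (fun v α β hv h1 h2 e => hc' v α β hv h1 h2 (by simpa using congrArg Prod.fst (Set.mem_singleton_iff.mp e)))
      hM₀ hSq₀).mono ?_, by rw [det_dsum]; exact mul_ne_zero hd0 hM₀⟩
    · rw [Finset.insert_eq]
      exact hR.union (Finset.disjoint_singleton.mpr hij) hR₀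
    · rintro p (h | ⟨h, h'⟩)
      · exact hsub h
      · rw [Set.mem_singleton_iff] at h
        exact absurd (by rw [ht0, h]) (h' 0)
  have hlroot : ∀ a : F, z.charpoly.eval a = 0 → a = l → z.det = l ^ (k + 3) := by
    intro a ha e
    rw [Matrix.det_eq_sign_charpoly_coeff, hpure a ha, coeff_zero_eq_eval_zero, Fintype.card_fin, e]
    simp only [eval_pow, eval_sub, eval_X, eval_C, zero_sub]
    rw [← mul_pow, neg_one_mul, neg_neg]
  by_cases hr : z.charpoly.eval l = 0
  · obtain ⟨r₀, h⟩ := block_pair h4 z hc hd0 hone (fun _ => l ^ 2) (fun _ => pow_ne_zero _ hl)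
      (fun _ _ _ _ _ => rfl) (by
        rw [Finset.prod_const, Finset.card_univ, Fintype.card_fin, hlroot l hr rfl, ← pow_mul, ← pow_mul, mul_comm])
    obtain ⟨P, -, hM, hN, hN'⟩ := h r₀ (Or.inl rfl)
    exact fin P _ ∅ hM (leftIn_empty hd0 (hN' fun a ha q hq => hq)) ⟨{l ^ 2}, by simp, fun _ => Finset.mem_singleton_self _⟩
      rfl (fun v α β hv h1 h2 => absurd (hN (fun a ha q hq => hq) v α β h1 h2) hv) (Set.empty_subset _)
  · set w := z.det ^ 2 / (l ^ 2) ^ (k + 2)
    set t : Fin (k + 3) → F := fun q => if q = Fin.last (k + 2) then w else l ^ 2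
    have hw : w ≠ 0 := div_ne_zero (pow_ne_zero _ hd0) (pow_ne_zero _ (pow_ne_zero _ hl))
    obtain ⟨r₀, h⟩ := block_pair h4 z hc hd0 hone t (fun q => by simp only [t]; split_ifs <;> [exact hw; exact pow_ne_zero _ hl])
      (fun p q hpq e h => by
        have hp : p ≠ Fin.last (k + 2) := (lt_of_lt_of_le hpq (Fin.le_last q)).ne
        simp only [t, hp, if_false] at e ⊢
        split_ifs with h'
        · have hq : q = Fin.last (k + 2) := by
            refine le_antisymm (Fin.le_last q) ?_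
            rw [← h']
            exact Nat.succ_le_of_lt hpq
          simpa [hq] using e.symm
        · rfl) (by
        rw [Fin.prod_univ_castSucc]
        simp only [t, if_pos, Fin.castSucc_ne_last, if_false, Finset.prod_const, Finset.card_univ, Fintype.card_fin]
        exact mul_div_cancel₀ _ (pow_ne_zero _ (pow_ne_zero _ hl)))
    obtain ⟨P, -, hM, -, -⟩ := h r₀ (Or.inl rfl)
    refine fin P t {p | z.charpoly.eval p.1 = 0 ∧ p.1 ≠ l} hM ?_ ⟨{w, l ^ 2}, Finset.card_le_two.trans (by norm_num), fun q => by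
      simp only [t]; split_ifs <;> simp⟩ (by simp only [t]; rw [if_neg (Fin.ne_of_val_ne (by simp))])
      (fun v α β hv h1 _ e => hr (e ▸ root_of_eigen hv h1)) subset_rfl
    intro ψ α β hψ h1 _
    have hα : z.charpoly.eval α = 0 := by
      rw [← charpoly_transpose]
      exact root_of_eigen hψ (by rw [mulVec_transpose]; exact h1)
    exact ⟨hα, fun e => hr (e ▸ hα)⟩

/-- A block of size two with two equal lines. -/
theorem Have.double (h4 : 4 ≤ Fintype.card F) {B : Fin N → Blk F} {i j₁ j₂ : Fin N} {l : F}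
    (hj₁ : Line B j₁ l) (hj₂ : Line B j₂ l) (hne : j₁ ≠ j₂) (hl : l ≠ 0) (hm : (B i).m = 1)
    (hd0 : (B i).mat.det ≠ 0) (hroot : (B i).mat.charpoly.eval l ≠ 0) :
    ∃ L : Set (F × F), (l, l ^ 2) ∉ L ∧ Have B {i, j₁, j₂} L := by
  classical
  have hd : _root_.Disjoint ({i} : Finset (Fin N)) {j₁, j₂} := by
    simp only [Finset.disjoint_singleton_left, Finset.mem_insert, Finset.mem_singleton, not_or]
    exact ⟨fun e => by rw [e, hj₁.1] at hm; omega, fun e => by rw [e, hj₂.1] at hm; omega⟩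
  have h2 : SimRep B {j₁, j₂} (l • (1 : Matrix (Fin 2) (Fin 2) F)) := by
    have h := hj₁.rep.union (Finset.disjoint_singleton.mpr hne) hj₂.rep
    rw [show ({j₁} : Finset (Fin N)) ∪ {j₂} = {j₁, j₂} from (Finset.insert_eq j₁ {j₂}).symm] at h
    refine h.of_sim (Sim.of_eq ?_)
    ext p q
    fin_cases p <;> fin_cases q <;> simp [dsum, finSumFinEquiv, Fin.addCases]
  have hR := simRep_singleton B i
  generalize B i = A at hm hd0 hroot hR
  obtain ⟨m, z, hc⟩ := A
  simp only at hm hd0 hroot hR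
  subst hm
  obtain ⟨t, L, hSq, hL⟩ := exists_double h4 z (IsCyc.ne_scalar le_rfl hc) hd0 hl hroot
  refine ⟨L, hL, _, _, t, ?_, hSq, ?_⟩
  · rw [Finset.insert_eq]
    exact hR.union hd h2
  · rw [det_dsum, det_smul, det_one, mul_one]
    exact mul_ne_zero hd0 (pow_ne_zero _ hl)

end CfsgLib.CoverPSL
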